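import Cfsg.Prelude.Def_Transfer
import Mathlib.GroupTheory.QuotientGroup.Finite
import Mathlib.GroupTheory.OrderOfElement
import Mathlib.GroupTheory.Nilpotent

/-!
# `O^p(G)`, normal `p`-complements: basic facts
-/

set_option autoImplicit false

open Subgroup

namespace CfsgLib.Fusion

variable {G : Type*} [Group G] {p : ℕ}

theorem mem_pResidual {g : G} (h : Nat.Coprime (orderOf g) p) : g ∈ Cfsg.pResidual p G :=
  Subgroup.subset_closure h

theorem pResidual_normal : (Cfsg.pResidual p G).Normal := by
  refine ⟨fun n hn g => ?_⟩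
  unfold Cfsg.pResidual at hn ⊢
  induction hn using Subgroup.closure_induction with
  | mem x hx =>
      refine Subgroup.subset_closure ?_
      have h1 : orderOf (g * x * g⁻¹) = orderOf x := (MulAut.conj g).orderOf_eq x
      simpa [h1] using hx
  | one => simp
  | mul x y _ _ hx hy => simpa [mul_assoc] using mul_mem hx hy
  | inv x _ hx => simpa [mul_assoc] using inv_mem hx

variable [Fact p.Prime]

theorem pResidual_le_ker {H : Type*} [Group H] (f : G →* H) (hH : IsPGroup p H) :
    Cfsg.pResidual p G ≤ f.ker := by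
  refine (Subgroup.closure_le _).2 fun g hg => ?_
  obtain ⟨k, hk⟩ := hH (f g)
  have h1 : orderOf (f g) ∣ p ^ k := orderOf_dvd_of_pow_eq_one hk
  have h2 : orderOf (f g) ∣ orderOf g := orderOf_map_dvd f g
  have h3 : orderOf (f g) = 1 :=
    Nat.eq_one_of_dvd_coprimes (Nat.Coprime.pow_right k hg) h2 h1
  exact orderOf_eq_one_iff.1 h3

theorem pResidual_le_of_isPGroup_quotient (N : Subgroup G) [N.Normal]
    (h : IsPGroup p (G ⧸ N)) : Cfsg.pResidual p G ≤ N :=
  le_of_le_of_eq (pResidual_le_ker (QuotientGroup.mk' N) h) (QuotientGroup.ker_mk' N)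

variable [Finite G]

/-- Splitting off the `p`-part of an element. -/
theorem exists_pow_p_mem_pResidual (g : G) : ∃ k : ℕ, g ^ p ^ k ∈ Cfsg.pResidual p G := by
  refine ⟨(orderOf g).factorization p, mem_pResidual ?_⟩
  have hpos : orderOf g ≠ 0 := (orderOf_pos g).ne'
  rw [orderOf_pow_of_dvd (pow_ne_zero _ (Fact.out : p.Prime).ne_zero)
    (Nat.ordProj_dvd _ _)]
  exact (Nat.coprime_ordCompl (Fact.out : p.Prime) hpos).symm

theorem isPGroup_quotient_pResidual (N : Subgroup G) [N.Normal]
    (h : Cfsg.pResidual p G ≤ N) : IsPGroup p (G ⧸ N) := by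
  intro x
  obtain ⟨g, rfl⟩ := QuotientGroup.mk'_surjective N x
  obtain ⟨k, hk⟩ := exists_pow_p_mem_pResidual (p := p) g
  refine ⟨k, ?_⟩
  rw [← map_pow, QuotientGroup.mk'_apply, QuotientGroup.eq_one_iff]
  exact h hk

theorem pResidual_sup_sylow (P : Sylow p G) : Cfsg.pResidual p G ⊔ (P : Subgroup G) = ⊤ := by
  haveI := pResidual_normal (G := G) (p := p)
  set M := Cfsg.pResidual p G ⊔ (P : Subgroup G) with hM
  have h1 : IsPGroup p (G ⧸ Cfsg.pResidual p G) := isPGroup_quotient_pResidual _ le_rfl
  obtain ⟨n, hn⟩ := h1.exists_card_eq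
  rw [← Subgroup.index_eq_one]
  have h2 : M.index ∣ p ^ n := hn ▸ Subgroup.index_dvd_of_le le_sup_left
  have h3 : M.index ∣ (P : Subgroup G).index := Subgroup.index_dvd_of_le le_sup_right
  exact Nat.eq_one_of_dvd_coprimes
    (Nat.Coprime.pow_left n ((Fact.out : p.Prime).coprime_iff_not_dvd.2 P.not_dvd_index)) h2 h3

theorem exists_index_pResidual : ∃ n : ℕ, (Cfsg.pResidual p G).index = p ^ n := by
  haveI := pResidual_normal (G := G) (p := p)
  exact (isPGroup_quotient_pResidual (p := p) (Cfsg.pResidual p G) le_rfl).exists_card_eq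

theorem pResidual_le_of_coprime_index_pow (N : Subgroup G) [N.Normal] {n : ℕ}
    (h : N.index = p ^ n) : Cfsg.pResidual p G ≤ N :=
  pResidual_le_of_isPGroup_quotient N (IsPGroup.of_card h)

/-- The elements of order prime to `p` generate the subgroup `O^p(G)` itself. -/
theorem pResidual_pResidual : Cfsg.pResidual p (Cfsg.pResidual p G) = ⊤ := by
  rw [eq_top_iff]
  have h : (Cfsg.pResidual p G) ≤
      (Cfsg.pResidual p (Cfsg.pResidual p G)).map (Cfsg.pResidual p G).subtype := by
    refine (Subgroup.closure_le _).2 fun g hg => ?_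
    refine ⟨⟨g, mem_pResidual hg⟩, mem_pResidual ?_, rfl⟩
    rw [← orderOf_injective (Cfsg.pResidual p G).subtype Subtype.val_injective]
    exact hg
  intro x _
  obtain ⟨y, hy, hxy⟩ := h x.2
  rwa [Subtype.ext hxy] at hy

theorem not_dvd_card_iff_forall_coprime_orderOf (H : Subgroup G) :
    ¬ p ∣ Nat.card H ↔ ∀ x ∈ H, Nat.Coprime (orderOf x) p := by
  constructor
  · intro h x hx
    rw [Nat.coprime_comm, (Fact.out : p.Prime).coprime_iff_not_dvd]
    exact fun hd => h (hd.trans (Subgroup.orderOf_dvd_natCard _ hx))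
  · intro h hd
    obtain ⟨x, hx⟩ := exists_prime_orderOf_dvd_card' p hd
    have := h x x.2
    rw [Subgroup.orderOf_coe, hx, Nat.coprime_self] at this
    exact (Fact.out : p.Prime).one_lt.ne' this

/-- A normal subgroup of order prime to `p` and index a power of `p` complements every Sylow. -/
theorem isComplement'_sylow_of_card (N : Subgroup G) (hN : ¬ p ∣ Nat.card N) {n : ℕ}
    (h : N.index = p ^ n) (P : Sylow p G) : N.IsComplement' (P : Subgroup G) := by
  obtain ⟨m, hm⟩ := P.2.exists_card_eq
  have h1 : (Nat.card N) * p ^ n = p ^ m * (P : Subgroup G).index := by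
    rw [← h, Subgroup.card_mul_index, ← hm, Subgroup.card_mul_index]
  have hcop : Nat.Coprime (Nat.card N) (p ^ m) :=
    Nat.Coprime.pow_right m (Nat.coprime_comm.2 ((Fact.out : p.Prime).coprime_iff_not_dvd.2 hN))
  refine Subgroup.isComplement'_of_coprime ?_ (by rwa [hm])
  have hd : Nat.card N ∣ (P : Subgroup G).index :=
    hcop.dvd_of_dvd_mul_left (Dvd.intro _ h1)
  have hd2 : (P : Subgroup G).index ∣ Nat.card N :=
    (Nat.Coprime.pow_right n (Nat.coprime_comm.2
      ((Fact.out : p.Prime).coprime_iff_not_dvd.2 P.not_dvd_index))).dvd_of_dvd_mul_right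
      (Dvd.intro_left _ h1.symm)
  rw [Nat.dvd_antisymm hd hd2, mul_comm, Subgroup.card_mul_index]

/-- `G` has a normal `p`-complement iff `O^p(G)` has order prime to `p`. -/
theorem hasNormalPComplement_iff_not_dvd :
    Cfsg.HasNormalPComplement p G ↔ ¬ p ∣ Nat.card (Cfsg.pResidual p G) := by
  constructor
  · rintro ⟨P, N, hN, hc⟩ hd
    obtain ⟨n, hn⟩ := P.2.exists_card_eq
    have hle : Cfsg.pResidual p G ≤ N :=
      pResidual_le_of_coprime_index_pow N (hc.symm.index_eq_card.trans hn)
    have := hd.trans (Subgroup.card_dvd_of_le hle)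
    rw [← hc.index_eq_card] at this
    exact P.not_dvd_index this
  · intro h
    obtain ⟨n, hn⟩ := exists_index_pResidual (G := G) (p := p)
    exact ⟨default, _, pResidual_normal, isComplement'_sylow_of_card _ h hn default⟩

theorem hasNormalPComplement_iff_coprime :
    Cfsg.HasNormalPComplement p G ↔
      ∀ g ∈ Cfsg.pResidual p G, Nat.Coprime (orderOf g) p :=
  hasNormalPComplement_iff_not_dvd.trans (not_dvd_card_iff_forall_coprime_orderOf _)

theorem hasNormalPComplement_iff_forall_sylow :
    Cfsg.HasNormalPComplement p G ↔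
      ∀ P : Sylow p G, (Cfsg.pResidual p G).IsComplement' (P : Subgroup G) := by
  refine ⟨fun h P => ?_, fun h => ⟨default, _, pResidual_normal, h default⟩⟩
  haveI := pResidual_normal (G := G) (p := p)
  obtain ⟨n, hn⟩ := (isPGroup_quotient_pResidual (p := p) (Cfsg.pResidual p G)
    le_rfl).exists_card_eq
  exact isComplement'_sylow_of_card _ (hasNormalPComplement_iff_not_dvd.1 h) hn P

/-- A normal subgroup of order prime to `p` with `p`-power index is `O^p(G)`. -/
theorem eq_pResidual_of_isComplement' (P : Sylow p G) (N : Subgroup G) [N.Normal]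
    (hc : N.IsComplement' (P : Subgroup G)) : N = Cfsg.pResidual p G := by
  obtain ⟨n, hn⟩ := P.2.exists_card_eq
  refine le_antisymm (fun x hx => mem_pResidual ?_)
    (pResidual_le_of_coprime_index_pow N (hc.symm.index_eq_card.trans hn))
  refine (not_dvd_card_iff_forall_coprime_orderOf N).1 ?_ x hx
  rw [← hc.index_eq_card]
  exact P.not_dvd_index

theorem hasNormalPComplement_of_injective {H : Type*} [Group H] (f : H →* G)
    (hf : Function.Injective f) (h : Cfsg.HasNormalPComplement p G) :
    Cfsg.HasNormalPComplement p H := by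
  haveI : Finite H := Finite.of_injective f hf
  rw [hasNormalPComplement_iff_coprime] at h ⊢
  intro x hx
  rw [← orderOf_injective f hf]
  refine h _ ?_
  have h1 : Cfsg.pResidual p H ≤ (Cfsg.pResidual p G).comap f := by
    refine (Subgroup.closure_le _).2 fun g hg => mem_pResidual ?_
    rwa [orderOf_injective f hf]
  exact h1 hx

theorem hasNormalPComplement_subgroup (H : Subgroup G) (h : Cfsg.HasNormalPComplement p G) :
    Cfsg.HasNormalPComplement p H :=
  hasNormalPComplement_of_injective H.subtype Subtype.val_injective h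

theorem hasNormalPComplement_of_surjective {H : Type*} [Group H] (f : G →* H)
    (hf : Function.Surjective f) (h : Cfsg.HasNormalPComplement p G) :
    Cfsg.HasNormalPComplement p H := by
  haveI : Finite H := Finite.of_surjective f hf
  haveI := pResidual_normal (G := G) (p := p)
  haveI : ((Cfsg.pResidual p G).map f).Normal := Subgroup.Normal.map inferInstance f hf
  rw [hasNormalPComplement_iff_not_dvd] at h ⊢
  intro hd
  obtain ⟨n, hn⟩ := exists_index_pResidual (G := G) (p := p)
  have hdm := Subgroup.index_map_dvd (Cfsg.pResidual p G) hf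
  rw [hn, Nat.dvd_prime_pow (Fact.out : p.Prime)] at hdm
  obtain ⟨m, -, hm⟩ := hdm
  have hle := pResidual_le_of_coprime_index_pow ((Cfsg.pResidual p G).map f) hm
  exact h ((hd.trans (Subgroup.card_dvd_of_le hle)).trans (Subgroup.card_map_dvd _ _))

theorem hasNormalPComplement_congr {H : Type*} [Group H] [Finite H] (e : G ≃* H) :
    Cfsg.HasNormalPComplement p G ↔ Cfsg.HasNormalPComplement p H :=
  ⟨hasNormalPComplement_of_injective e.symm.toMonoidHom e.symm.injective,
    hasNormalPComplement_of_injective e.toMonoidHom e.injective⟩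

theorem hasNormalPComplement_of_not_dvd (h : ¬ p ∣ Nat.card G) :
    Cfsg.HasNormalPComplement p G :=
  hasNormalPComplement_iff_not_dvd.2 fun hd => h (hd.trans (Subgroup.card_subgroup_dvd_card _))

theorem hasNormalPComplement_of_isPGroup (h : IsPGroup p G) :
    Cfsg.HasNormalPComplement p G := by
  rw [hasNormalPComplement_iff_coprime]
  have hle : Cfsg.pResidual p G ≤ (MonoidHom.id G).ker := pResidual_le_ker _ h
  intro g hg
  rw [show g = 1 from hle hg]
  simp

end CfsgLib.Fusion
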