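import Cfsg.Agent.Lib.Fusion.PComplement
import Mathlib.GroupTheory.Perm.Cycle.Type

/-!
# Tate's theorem and Thompson's transfer lemma
-/

set_option autoImplicit false

open Subgroup
open scoped commutatorElement IsMulCommutative

namespace CfsgLib.Fusion

variable {G : Type*} [Group G]

/-- Thompson's transfer lemma. -/
theorem thompson_transfer [Finite G] (P : Sylow 2 G) {Q : Subgroup G} (hQP : Q ≤ (P : Subgroup G))
    (hQi : Q.relIndex (P : Subgroup G) = 2) {u : G} (hu : u ^ 2 = 1)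
    (hno : ∀ g : G, g * u * g⁻¹ ∉ Q) :
    ∃ M : Subgroup G, M.Normal ∧ M.index = 2 ∧ u ∉ M := by
  classical
  letI : Fintype (G ⧸ Q) := Fintype.ofFinite _
  let f : G →* ℤˣ := (Equiv.Perm.sign).comp (MulAction.toPermHom G (G ⧸ Q))
  have hfu : f u = -1 := by
    show Equiv.Perm.sign (MulAction.toPermHom G (G ⧸ Q) u) = -1
    have hsq : (MulAction.toPermHom G (G ⧸ Q) u) ^ 2 = 1 := by rw [← map_pow, hu, map_one]
    rw [Equiv.Perm.sign_of_pow_two_eq_one hsq]
    have hfix : Fintype.card (Function.fixedPoints (MulAction.toPermHom G (G ⧸ Q) u)) = 0 := by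
      rw [Fintype.card_eq_zero_iff]
      refine ⟨fun ⟨q, hq⟩ => ?_⟩
      obtain ⟨g, rfl⟩ := QuotientGroup.mk_surjective q
      have h1 : ((u * g : G) : G ⧸ Q) = (g : G ⧸ Q) := hq
      have h2 := QuotientGroup.eq.1 h1.symm
      refine hno g⁻¹ ?_
      rwa [inv_inv, mul_assoc]
    have hcard : Fintype.card (G ⧸ Q) = 2 * (P : Subgroup G).index := by
      rw [← Nat.card_eq_fintype_card, ← Subgroup.index_eq_card,
        ← Subgroup.relIndex_mul_index hQP, hQi]
    rw [hfix, hcard, Nat.sub_zero, Nat.mul_div_cancel_left _ two_pos]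
    have hodd : Odd (P : Subgroup G).index :=
      Nat.not_even_iff_odd.1 fun he => P.not_dvd_index he.two_dvd
    exact hodd.neg_one_pow
  refine ⟨f.ker, inferInstance, ?_, fun h => ?_⟩
  · have hr : Function.Surjective f := fun z => by
      rcases Int.units_eq_one_or z with rfl | rfl
      · exact ⟨1, map_one f⟩
      · exact ⟨u, hfu⟩
    rw [Subgroup.index_ker, MonoidHom.range_eq_top.2 hr, Subgroup.card_top,
      Nat.card_eq_fintype_card, Fintype.card_units_int]
  · rw [MonoidHom.mem_ker, hfu] at h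
    exact absurd h (by decide)

variable {p : ℕ} [Fact p.Prime] [Finite G]

/-- Tate's theorem, core case. -/
theorem inf_eq_bot_of_le_frattini (P : Sylow p G) (K : Subgroup G) [K.Normal]
    (hKP : K ⊔ (P : Subgroup G) = ⊤)
    (hfr : (P : Subgroup G) ⊓ K ≤ (frattini (P : Subgroup G)).map (P : Subgroup G).subtype)
    (hK : Cfsg.pResidual p K = ⊤) : (P : Subgroup G) ⊓ K = ⊥ := by
  classical
  haveI : Group.IsNilpotent (P : Subgroup G) := P.2.isNilpotent
  set Q := (P : Subgroup G) ⊓ K with hQ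
  refine eq_bot_of_le_commutator (P := (P : Subgroup G)) inf_le_left ?_
  by_contra hnle
  let Q' : Subgroup (P : Subgroup G) := K.subgroupOf (P : Subgroup G)
  let M : Subgroup (P : Subgroup G) := ⁅Q', ⊤⁆
  haveI hQ'n : Q'.Normal := Subgroup.Normal.subgroupOf ‹_› _
  let π : (P : Subgroup G) →* (P : Subgroup G) ⧸ M := QuotientGroup.mk' M
  set E := (P : Subgroup G) ⧸ M
  let Z : Subgroup E := Q'.map π
  have hcen : ∀ z ∈ Z, ∀ e : E, e * z = z * e := by
    rintro _ ⟨q, hq, rfl⟩ e
    obtain ⟨x, rfl⟩ := QuotientGroup.mk'_surjective M e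
    have h2 : π ⁅q, x⁆ = 1 :=
      (QuotientGroup.eq_one_iff _).2 (Subgroup.commutator_mem_commutator hq (Subgroup.mem_top x))
    rw [map_commutatorElement, commutatorElement_eq_one_iff_commute] at h2
    exact h2.symm
  haveI hZc : IsMulCommutative Z := ⟨⟨fun a b => Subtype.ext (hcen b b.2 a)⟩⟩
  letI : CommGroup Z := { mul_comm := hZc.is_comm.comm }
  -- representatives in `K`
  have hrep : ∀ t : G ⧸ (P : Subgroup G), ∃ r ∈ K, (r : G ⧸ (P : Subgroup G)) = t := by
    intro t
    obtain ⟨g, rfl⟩ := QuotientGroup.mk_surjective t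
    have hg := hKP.symm ▸ Subgroup.mem_top g
    obtain ⟨k, hk, u, hu, rfl⟩ := Subgroup.mem_sup_of_normal_left.1 hg
    exact ⟨k, hk, QuotientGroup.eq.2 (by simpa using hu)⟩
  choose r hrK hr using hrep
  have hmem : ∀ (t : G ⧸ (P : Subgroup G)) (g : G), (r (g • t))⁻¹ * (g * r t) ∈ (P : Subgroup G) := by
    intro t g
    rw [← QuotientGroup.eq, hr]
    conv_lhs => rw [← hr t]
    rfl
  let h : G ⧸ (P : Subgroup G) → G → (P : Subgroup G) := fun t g => ⟨_, hmem t g⟩
  have hmul : ∀ t g g', h t (g * g') = h (g' • t) g * h t g' := by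
    intro t g g'
    refine Subtype.ext ?_
    show (r ((g * g') • t))⁻¹ * (g * g' * r t) =
      (r (g • g' • t))⁻¹ * (g * r (g' • t)) * ((r (g' • t))⁻¹ * (g' * r t))
    rw [mul_smul]
    group
  -- all values of `h · g` agree modulo `Q'`
  have hmodK : ∀ t g, (QuotientGroup.mk' K) (h t g : G) = QuotientGroup.mk' K g := by
    intro t g
    show QuotientGroup.mk' K ((r (g • t))⁻¹ * (g * r t)) = _
    rw [map_mul, map_mul, map_inv, show QuotientGroup.mk' K (r (g • t)) = 1 from
      (QuotientGroup.eq_one_iff _).2 (hrK _), show QuotientGroup.mk' K (r t) = 1 from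
      (QuotientGroup.eq_one_iff _).2 (hrK _), inv_one, one_mul, mul_one]
  let t₀ : G ⧸ (P : Subgroup G) := ((1 : G) : G ⧸ (P : Subgroup G))
  let e : G → E := fun g => π (h t₀ g)
  have hz : ∀ t g, (e g)⁻¹ * π (h t g) ∈ Z := by
    intro t g
    show (π (h t₀ g))⁻¹ * π (h t g) ∈ Z
    rw [← map_inv, ← map_mul]
    refine Subgroup.mem_map_of_mem π (show ((h t₀ g : G))⁻¹ * (h t g : G) ∈ K from ?_)
    rw [← QuotientGroup.eq_one_iff (N := K), ← QuotientGroup.mk'_apply, map_mul, map_inv, hmodK, hmodK,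
      inv_mul_cancel]
  let z : G ⧸ (P : Subgroup G) → G → Z := fun t g => ⟨_, hz t g⟩
  letI : Fintype (G ⧸ (P : Subgroup G)) := Fintype.ofFinite _
  set m := (P : Subgroup G).index with hm
  have hcop : Nat.Coprime m (Nat.card Z) := by
    obtain ⟨k, hk⟩ := ((P.2.to_quotient M).to_subgroup Z).exists_card_eq
    rw [hk]
    exact Nat.Coprime.pow_right k
      (Nat.coprime_comm.2 ((Fact.out : p.Prime).coprime_iff_not_dvd.2 P.not_dvd_index))
  obtain ⟨j, hj⟩ : ∃ j : ℕ, ∀ w : Z, (w ^ m) ^ j = w := by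
    rcases Nat.eq_or_lt_of_le (Nat.card_pos (α := Z)) with h1 | h1
    · haveI := (Nat.card_eq_one_iff_unique.1 h1.symm).1
      exact ⟨0, fun w => Subsingleton.elim _ _⟩
    · obtain ⟨j, hj⟩ := Nat.exists_mul_mod_eq_one_of_coprime hcop h1
      exact ⟨j, fun w => by rw [← pow_mul, ← pow_mod_natCard, hj.2, pow_one]⟩
  let S : G → Z := fun g => (∏ t, z t g) ^ j
  let ψ : G → E := fun g => e g * S g
  have hψmul : ∀ g g', ψ (g * g') = ψ g * ψ g' := by
    intro g g'
    have hwmem : (e (g * g'))⁻¹ * (e g * e g') ∈ Z := by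
      show (π (h t₀ (g * g')))⁻¹ * (π (h t₀ g) * π (h t₀ g')) ∈ Z
      rw [← map_inv, ← map_mul, ← map_mul]
      refine Subgroup.mem_map_of_mem π
        (show (h t₀ (g * g') : G)⁻¹ * ((h t₀ g : G) * (h t₀ g' : G)) ∈ K from ?_)
      rw [← QuotientGroup.eq_one_iff (N := K), ← QuotientGroup.mk'_apply, map_mul, map_inv, hmodK,
        map_mul (QuotientGroup.mk' K) (h t₀ g : G) (h t₀ g' : G), hmodK, hmodK, map_mul, inv_mul_cancel]
    set w : Z := ⟨_, hwmem⟩ with hw
    have hkey : ∀ t, z t (g * g') = w * z (g' • t) g * z t g' := by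
      intro t
      refine Subtype.ext ?_
      show (e (g * g'))⁻¹ * π (h t (g * g')) =
        (e (g * g'))⁻¹ * (e g * e g') * ((e g)⁻¹ * π (h (g' • t) g)) * ((e g')⁻¹ * π (h t g'))
      have hc := hcen _ (hz (g' • t) g) (e g')
      rw [hmul, map_mul,
        show (e (g * g'))⁻¹ * (e g * e g') * ((e g)⁻¹ * π (h (g' • t) g)) * ((e g')⁻¹ * π (h t g'))
          = (e (g * g'))⁻¹ * e g * (e g' * ((e g)⁻¹ * π (h (g' • t) g))) * ((e g')⁻¹ * π (h t g')) by
          group, hc]
      group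
    have hprod : ∏ t, z t (g * g') = w ^ m * (∏ t, z t g) * ∏ t, z t g' := by
      rw [Finset.prod_congr rfl (fun t _ => hkey t), Finset.prod_mul_distrib,
        Finset.prod_mul_distrib, Finset.prod_const, Finset.card_univ, ← Nat.card_eq_fintype_card,
        ← Subgroup.index_eq_card]
      congr 2
      exact Fintype.prod_equiv (MulAction.toPerm g') _ _ fun t => rfl
    show e (g * g') * ((S (g * g') : Z) : E) = e g * (S g : E) * (e g' * (S g' : E))
    have hS : S (g * g') = w * S g * S g' := by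
      show (∏ t, z t (g * g')) ^ j = _
      rw [hprod, mul_pow, mul_pow, hj]
    rw [hS, show e g * (S g : E) * (e g' * (S g' : E)) = e g * ((S g : E) * e g') * (S g' : E) by
      group, ← hcen _ (S g).2 (e g')]
    show e (g * g') * ((e (g * g'))⁻¹ * (e g * e g') * (S g : E) * (S g' : E)) = _
    group
  let Ψ : G →* E := MonoidHom.mk' ψ hψmul
  have hEp : IsPGroup p E := P.2.to_quotient M
  have hKker : K ≤ Ψ.ker := by
    intro k hk
    have := pResidual_le_ker (Ψ.comp K.subtype) hEp (hK.ge (Subgroup.mem_top (⟨k, hk⟩ : K)))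
    exact this
  have hsup : Ψ.range ⊔ Z = ⊤ := by
    rw [eq_top_iff]
    intro x _
    obtain ⟨u, rfl⟩ := QuotientGroup.mk'_surjective M x
    have hu : π u * (e (u : G))⁻¹ ∈ Z := by
      show π u * (π (h t₀ (u : G)))⁻¹ ∈ Z
      rw [← map_inv, ← map_mul]
      refine Subgroup.mem_map_of_mem π (show (u : G) * (h t₀ (u : G) : G)⁻¹ ∈ K from ?_)
      rw [← QuotientGroup.eq_one_iff (N := K), ← QuotientGroup.mk'_apply, map_mul, map_inv, hmodK,
        mul_inv_cancel]
    have he : e (u : G) ∈ Ψ.range ⊔ Z := by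
      rw [show e (u : G) = Ψ u * (S (u : G) : E)⁻¹ from eq_mul_inv_of_mul_eq rfl]
      exact Subgroup.mul_mem_sup ⟨_, rfl⟩ (inv_mem (S (u : G)).2)
    have := mul_mem (Subgroup.mem_sup_right (S := Ψ.range) hu) he
    rwa [inv_mul_cancel_right] at this
  have hZfr : Z ≤ frattini E := by
    refine Subgroup.map_le_iff_le_comap.2 (le_trans ?_
      (frattini_le_comap_frattini_of_surjective (φ := π) (QuotientGroup.mk'_surjective M)))
    intro x hx
    obtain ⟨y, hy, hyx⟩ := hfr ⟨x.2, hx⟩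
    rwa [← Subtype.ext hyx]
  have htop : Ψ.range = ⊤ :=
    frattini_nongenerating (eq_top_iff.2 (hsup.ge.trans (sup_le_sup_left hZfr _)))
  let ρ := Ψ.comp (P : Subgroup G).subtype
  have hρ : Function.Surjective ρ := by
    intro x
    obtain ⟨g, rfl⟩ := (htop.ge (Subgroup.mem_top x) : x ∈ Ψ.range)
    have hg := hKP.symm ▸ Subgroup.mem_top g
    obtain ⟨k, hk, u, hu, rfl⟩ := Subgroup.mem_sup_of_normal_left.1 hg
    exact ⟨⟨u, hu⟩, by rw [map_mul, show Ψ k = 1 from hKker hk, one_mul]; rfl⟩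
  have hQker : Q' ≤ ρ.ker := fun x hx => hKker hx
  refine hnle ?_
  have hMQ : M ≤ Q' := Subgroup.commutator_le_left _ _
  have hidx : ρ.ker.index = M.index := by
    rw [Subgroup.index_ker, MonoidHom.range_eq_top.2 hρ, Subgroup.card_top]
    rfl
  have hQM : Q' = M := by
    refine (Subgroup.eq_of_le_of_card_ge hMQ ?_).symm
    have h1 := Subgroup.index_dvd_of_le hQker
    rw [hidx] at h1
    have h2 : M.index ≤ Q'.index :=
      Nat.le_of_dvd (Nat.pos_of_ne_zero Subgroup.index_ne_zero_of_finite) h1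
    have e1 := Subgroup.card_mul_index M
    have e2 := Subgroup.card_mul_index Q'
    by_contra hlt
    have : Nat.card M * M.index < Nat.card Q' * Q'.index :=
      Nat.mul_lt_mul_of_lt_of_le (not_le.1 hlt) h2 (Nat.pos_of_ne_zero Subgroup.index_ne_zero_of_finite)
    omega
  intro q hq
  have h4 : (⟨q, hq.1⟩ : (P : Subgroup G)) ∈ M := hQM ▸ (show q ∈ K from hq.2)
  have h5 := Subgroup.mem_map_of_mem (P : Subgroup G).subtype h4
  rw [Subgroup.map_commutator, ← MonoidHom.range_eq_map, Subgroup.range_subtype,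
    Subgroup.subgroupOf_map_subtype, inf_comm] at h5
  exact h5

/-- Tate's theorem. -/
theorem hasNormalPComplement_of_inf_le_frattini (P : Sylow p G) (N : Subgroup G) [N.Normal]
    (h : N ⊓ (P : Subgroup G) ≤ (frattini (P : Subgroup G)).map (P : Subgroup G).subtype) :
    Cfsg.HasNormalPComplement p N := by
  haveI := pResidual_normal (G := N) (p := p)
  set K := (Cfsg.pResidual p N).map N.subtype with hK
  haveI hKn : K.Normal := by
    refine ⟨?_⟩
    rintro _ ⟨x, hx, rfl⟩ c
    let e : N →* N :=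
      { toFun := fun d => ⟨c * d * c⁻¹, Subgroup.Normal.conj_mem ‹_› _ d.2 c⟩
        map_one' := Subtype.ext (by simp)
        map_mul' := fun a b => Subtype.ext (by simp [mul_assoc]) }
    have h2 : Cfsg.pResidual p N ≤ (Cfsg.pResidual p N).comap e :=
      (Subgroup.closure_le _).2 fun x hx =>
        mem_pResidual (Nat.Coprime.coprime_dvd_left (orderOf_map_dvd e x) hx)
    exact ⟨e x, h2 hx, rfl⟩
  rw [hasNormalPComplement_iff_not_dvd,
    ← Subgroup.card_map_of_injective (K := Cfsg.pResidual p N) N.subtype_injective, ← hK]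
  set H := (P : Subgroup G) ⊔ K with hH
  haveI hKH : (K.subgroupOf H).Normal := Subgroup.Normal.subgroupOf hKn H
  let S : Sylow p H := P.subtype le_sup_left
  have hS : (S : Subgroup H) = (P : Subgroup G).subgroupOf H := rfl
  have hsup : K.subgroupOf H ⊔ (S : Subgroup H) = ⊤ := by
    rw [hS, ← Subgroup.subgroupOf_sup le_sup_right le_sup_left, Subgroup.subgroupOf_eq_top, sup_comm]
  have hres : Cfsg.pResidual p (K.subgroupOf H) = ⊤ := by
    let e : Cfsg.pResidual p N ≃* K.subgroupOf H :=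
      ((Cfsg.pResidual p N).equivMapOfInjective N.subtype N.subtype_injective).trans
        (Subgroup.subgroupOfEquivOfLe (le_sup_right : K ≤ H)).symm
    rw [eq_top_iff]
    intro x _
    have h2 : Cfsg.pResidual p (Cfsg.pResidual p N) ≤
        (Cfsg.pResidual p (K.subgroupOf H)).comap e.toMonoidHom :=
      (Subgroup.closure_le _).2 fun y hy =>
        mem_pResidual (Nat.Coprime.coprime_dvd_left (orderOf_map_dvd e.toMonoidHom y) hy)
    have h3 := h2 (pResidual_pResidual.ge (Subgroup.mem_top (e.symm x)))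
    rw [Subgroup.mem_comap] at h3
    simpa using h3
  have hfr : (S : Subgroup H) ⊓ K.subgroupOf H ≤
      (frattini (S : Subgroup H)).map (S : Subgroup H).subtype := by
    rintro x ⟨hx1, hx2⟩
    obtain ⟨y, hy, hyx⟩ := h ⟨Subgroup.map_subtype_le _ hx2, hx1⟩
    let e : (P : Subgroup G) ≃* (S : Subgroup H) :=
      (Subgroup.subgroupOfEquivOfLe (le_sup_left : (P : Subgroup G) ≤ H)).symm
    exact ⟨e y, frattini_le_comap_frattini_of_surjective (φ := e.toMonoidHom) e.surjective hy,
      Subtype.ext hyx⟩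
  have hbot := inf_eq_bot_of_le_frattini S _ hsup hfr hres
  have hbot' : (P : Subgroup G) ⊓ K = ⊥ := by
    rw [eq_bot_iff]
    rintro x ⟨hxP, hxK⟩
    have hx : (⟨x, Subgroup.mem_sup_left hxP⟩ : H) ∈ (S : Subgroup H) ⊓ K.subgroupOf H := ⟨hxP, hxK⟩
    rw [hbot, Subgroup.mem_bot] at hx
    exact congrArg Subtype.val hx
  intro hd
  have hi := not_dvd_relIndex_inf_of_normal P K
  rw [hbot', Subgroup.relIndex_bot_left] at hi
  exact hi hd

end CfsgLib.Fusion
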