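import Mathlib.GroupTheory.Sylow
import Mathlib.GroupTheory.PGroup

/-!
# Relative Sylow subgroups and conjugation lemmas
-/

set_option autoImplicit false

open Subgroup

namespace CfsgLib.Fusion

variable {G : Type*} [Group G] {p : ℕ}

/-- `g H g⁻¹`. -/
abbrev conjBy (g : G) (H : Subgroup G) : Subgroup G := H.map (MulAut.conj g).toMonoidHom

theorem mem_conjBy {g x : G} {H : Subgroup G} : x ∈ conjBy g H ↔ g⁻¹ * x * g ∈ H := by
  constructor
  · rintro ⟨y, hy, rfl⟩
    simpa [MulAut.conj_apply, mul_assoc] using hy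
  · intro h
    exact ⟨g⁻¹ * x * g, h, by simp [MulAut.conj_apply, mul_assoc]⟩

theorem conj_mem_conjBy {g x : G} {H : Subgroup G} (h : x ∈ H) : g * x * g⁻¹ ∈ conjBy g H :=
  mem_conjBy.2 (by simpa [mul_assoc] using h)

theorem conjBy_le_iff {g : G} {H K : Subgroup G} :
    conjBy g H ≤ K ↔ ∀ x ∈ H, g * x * g⁻¹ ∈ K := by
  refine ⟨fun h x hx => h (conj_mem_conjBy hx), fun h x hx => ?_⟩
  simpa [mul_assoc] using h _ (mem_conjBy.1 hx)

theorem conjBy_conjBy (g h : G) (H : Subgroup G) :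
    conjBy g (conjBy h H) = conjBy (g * h) H := by
  ext x
  simp [mem_conjBy, mul_assoc]

theorem conjBy_one (H : Subgroup G) : conjBy 1 H = H := by
  ext x
  simp [mem_conjBy]

theorem conjBy_mono {g : G} {H K : Subgroup G} (h : H ≤ K) : conjBy g H ≤ conjBy g K :=
  Subgroup.map_mono h

theorem conjBy_inv_conjBy (g : G) (H : Subgroup G) : conjBy g⁻¹ (conjBy g H) = H := by
  rw [conjBy_conjBy, inv_mul_cancel, conjBy_one]

theorem conjBy_conjBy_inv (g : G) (H : Subgroup G) : conjBy g (conjBy g⁻¹ H) = H := by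
  rw [conjBy_conjBy, mul_inv_cancel, conjBy_one]

theorem card_conjBy (g : G) (H : Subgroup G) : Nat.card (conjBy g H) = Nat.card H :=
  Subgroup.card_map_of_injective (MulAut.conj g).injective

theorem conjBy_eq_of_le [Finite G] {g : G} {H : Subgroup G} (h : conjBy g H ≤ H) :
    conjBy g H = H :=
  Subgroup.eq_of_le_of_card_ge h (card_conjBy g H).ge

theorem conjBy_eq_iff {g : G} {H : Subgroup G} :
    conjBy g H = H ↔ g ∈ Subgroup.normalizer (H : Set G) := by
  rw [Subgroup.mem_normalizer_iff, SetLike.ext_iff]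
  constructor
  · intro h x
    rw [← h (g * x * g⁻¹), mem_conjBy]
    simp [mul_assoc]
  · intro h x
    rw [mem_conjBy, h (g⁻¹ * x * g)]
    simp [mul_assoc]

theorem conjBy_normalizer (g : G) (H : Subgroup G) :
    conjBy g (Subgroup.normalizer (H : Set G)) = Subgroup.normalizer (conjBy g H : Set G) := by
  ext x
  rw [mem_conjBy, ← conjBy_eq_iff, ← conjBy_eq_iff]
  constructor
  · intro h
    have h2 := congrArg (conjBy g) h
    rw [conjBy_conjBy, show g * (g⁻¹ * x * g) = x * g by group] at h2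
    rw [conjBy_conjBy, h2]
  · intro h
    rw [mul_assoc, ← conjBy_conjBy, ← conjBy_conjBy x g, h, conjBy_inv_conjBy]

theorem conjBy_centralizer (g : G) (H : Subgroup G) :
    conjBy g (Subgroup.centralizer (H : Set G)) = Subgroup.centralizer (conjBy g H : Set G) := by
  ext x
  rw [mem_conjBy, Subgroup.mem_centralizer_iff, Subgroup.mem_centralizer_iff]
  constructor
  · intro h y hy
    have h1 := h _ (mem_conjBy.1 hy)
    have h2 := congrArg (fun z => g * z * g⁻¹) h1
    simpa [mul_assoc] using h2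
  · intro h y hy
    have h1 := h _ (conj_mem_conjBy (g := g) hy)
    have h2 := congrArg (fun z => g⁻¹ * z * g) h1
    simpa [mul_assoc] using h2

theorem isPGroup_conjBy (g : G) {H : Subgroup G} (h : IsPGroup p H) :
    IsPGroup p (conjBy g H) :=
  h.map _

variable [Fact p.Prime] [Finite G]

/-- A `p`-subgroup of `H` lies in a `p`-subgroup of `H` of index prime to `p`. -/
theorem exists_le_not_dvd_relIndex {R H : Subgroup G} (hR : IsPGroup p R) (hRH : R ≤ H) :
    ∃ T : Subgroup G, R ≤ T ∧ T ≤ H ∧ IsPGroup p T ∧ ¬ p ∣ T.relIndex H := by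
  obtain ⟨S, hS⟩ := (hR.of_equiv (Subgroup.subgroupOfEquivOfLe hRH).symm).exists_le_sylow
  refine ⟨(S : Subgroup H).map H.subtype, ?_, Subgroup.map_subtype_le _, S.2.map _, ?_⟩
  · intro x hx
    exact ⟨⟨x, hRH hx⟩, hS hx, rfl⟩
  · rw [Subgroup.relIndex, Subgroup.subgroupOf,
      Subgroup.comap_map_eq_self_of_injective H.subtype_injective]
    exact S.not_dvd_index

/-- Sylow's theorem inside a subgroup `H`. -/
theorem exists_conj_le_of_not_dvd_relIndex {T R H : Subgroup G} (hT : IsPGroup p T) (hTH : T ≤ H)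
    (hi : ¬ p ∣ T.relIndex H) (hR : IsPGroup p R) (hRH : R ≤ H) :
    ∃ h ∈ H, conjBy h R ≤ T := by
  let S : Sylow p H := (hT.of_equiv (Subgroup.subgroupOfEquivOfLe hTH).symm).toSylow hi
  obtain ⟨S', hS'⟩ := (hR.of_equiv (Subgroup.subgroupOfEquivOfLe hRH).symm).exists_le_sylow
  obtain ⟨h, hh⟩ := MulAction.exists_smul_eq H S' S
  refine ⟨h, h.2, conjBy_le_iff.2 fun x hx => ?_⟩
  have h1 : (⟨x, hRH hx⟩ : H) ∈ (S' : Subgroup H) := hS' hx
  have h2 : h * ⟨x, hRH hx⟩ * h⁻¹ ∈ (S : Subgroup H) := by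
    rw [← hh, Sylow.coe_subgroup_smul]
    exact ⟨⟨x, hRH hx⟩, h1, rfl⟩
  exact h2

theorem eq_of_le_of_isPGroup_of_not_dvd_relIndex {T R H : Subgroup G} (hR : IsPGroup p R)
    (hTR : T ≤ R) (hRH : R ≤ H) (hi : ¬ p ∣ T.relIndex H) : R = T := by
  obtain ⟨n, hn⟩ := hR.exists_card_eq
  have h1 : T.relIndex R ∣ p ^ n := by
    rw [← hn]; exact Subgroup.relIndex_dvd_card _ _
  have h2 : T.relIndex R ∣ T.relIndex H := Dvd.intro _ (Subgroup.relIndex_mul_relIndex T R H hTR hRH)
  have h3 : T.relIndex R = 1 :=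
    Nat.eq_one_of_dvd_coprimes
      (Nat.Coprime.pow_left n ((Fact.out : p.Prime).coprime_iff_not_dvd.2 hi)) h1 h2
  exact le_antisymm (Subgroup.relIndex_eq_one.1 h3) hTR

theorem not_dvd_relIndex_conjBy {T H : Subgroup G} (g : G) (h : ¬ p ∣ T.relIndex H) :
    ¬ p ∣ (conjBy g T).relIndex (conjBy g H) := by
  rwa [Subgroup.relIndex_map_map_of_injective _ _ (MulAut.conj g).injective]

/-- Every subgroup `Q` of a Sylow group `P` has a conjugate `Q'` in `P` whose normalizer in `P`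
is a Sylow subgroup of `normalizer Q'`, and receiving the normalizer of `Q` in `P`. -/
theorem exists_conj_fully_normalized (P : Sylow p G) {Q : Subgroup G} (hQ : Q ≤ P) :
    ∃ g : G, conjBy g Q ≤ P ∧
      conjBy g ((P : Subgroup G) ⊓ Subgroup.normalizer (Q : Set G)) ≤
        (P : Subgroup G) ⊓ Subgroup.normalizer (conjBy g Q : Set G) ∧
      ¬ p ∣ ((P : Subgroup G) ⊓ Subgroup.normalizer (conjBy g Q : Set G)).relIndex
        (Subgroup.normalizer (conjBy g Q : Set G)) := by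
  obtain ⟨T, hRT, hTN, hTp, hTi⟩ := exists_le_not_dvd_relIndex
    (P.2.to_le (inf_le_left (b := Subgroup.normalizer (Q : Set G)))) inf_le_right
  obtain ⟨S, hS⟩ := hTp.exists_le_sylow
  obtain ⟨g, hg⟩ := MulAction.exists_smul_eq G S P
  have hgS : conjBy g (S : Subgroup G) = P := by rw [← hg]; rfl
  have hT1 : conjBy g T ≤ (P : Subgroup G) ⊓ Subgroup.normalizer (conjBy g Q : Set G) :=
    le_inf ((conjBy_mono hS).trans hgS.le) (conjBy_normalizer g Q ▸ conjBy_mono hTN)
  have hQT : Q ≤ T := le_trans (le_inf hQ Subgroup.le_normalizer) hRT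
  refine ⟨g, (conjBy_mono hQT).trans (hT1.trans inf_le_left), (conjBy_mono hRT).trans hT1, ?_⟩
  intro hd
  have h1 := not_dvd_relIndex_conjBy g hTi
  rw [conjBy_normalizer] at h1
  exact h1 (hd.trans (Subgroup.relIndex_dvd_of_le_left _ hT1))

/-- A normal subgroup meets every Sylow group in a Sylow subgroup. -/
theorem not_dvd_relIndex_inf_of_normal (P : Sylow p G) (N : Subgroup G) [N.Normal] :
    ¬ p ∣ ((P : Subgroup G) ⊓ N).relIndex N := by
  obtain ⟨T, hRT, hTN, hTp, hTi⟩ :=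
    exists_le_not_dvd_relIndex (P.2.to_le (inf_le_left (b := N))) inf_le_right
  obtain ⟨S, hS⟩ := hTp.exists_le_sylow
  obtain ⟨g, hg⟩ := MulAction.exists_smul_eq G S P
  have hgS : conjBy g (S : Subgroup G) = P := by rw [← hg]; rfl
  have hgN : conjBy g N = N := conjBy_eq_iff.2 (by rw [Subgroup.normalizer_eq_top]; exact Subgroup.mem_top g)
  have hT1 : conjBy g T ≤ (P : Subgroup G) ⊓ N :=
    le_inf ((conjBy_mono hS).trans hgS.le) (hgN ▸ conjBy_mono hTN)
  have h2 : Nat.card T ≤ Nat.card ((P : Subgroup G) ⊓ N : Subgroup G) :=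
    (card_conjBy g T).ge.trans (Subgroup.card_le_of_le hT1)
  rwa [Subgroup.eq_of_le_of_card_ge hRT h2]

end CfsgLib.Fusion
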