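import Cfsg.Agent.Lib.Fusion.Residual
import Cfsg.Agent.Lib.Fusion.Sylow
import Mathlib.GroupTheory.Focal

/-!
# Frobenius' normal `p`-complement theorem
-/

set_option autoImplicit false

open Subgroup
open scoped commutatorElement

namespace CfsgLib.Fusion

variable {G : Type*} [Group G] {p : ℕ}

/-- `P` controls `G`-fusion of its own elements. -/
def NoExtraFusion (P : Subgroup G) : Prop :=
  ∀ x ∈ P, ∀ y ∈ P, (∃ g : G, g * x * g⁻¹ = y) → ∃ u ∈ P, u * x * u⁻¹ = y

theorem mem_centralizer_iff' {H : Subgroup G} {g : G} :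
    g ∈ Subgroup.centralizer (H : Set G) ↔ ∀ x ∈ H, g * x * g⁻¹ = x := by
  rw [Subgroup.mem_centralizer_iff]
  refine forall₂_congr fun x _ => ?_
  rw [mul_inv_eq_iff_eq_mul, eq_comm]

variable [Fact p.Prime] [Finite G]

omit [Fact p.Prime] in
/-- If a nilpotent subgroup `A ≤ P` satisfies `A ≤ ⁅A, P⁆` then it is trivial. -/
theorem eq_bot_of_le_commutator {P : Subgroup G} [Group.IsNilpotent P] {A : Subgroup G}
    (hA : A ≤ P) (h : A ≤ ⁅A, P⁆) : A = ⊥ := by
  obtain ⟨n, hn⟩ := P.isNilpotent_iff_lowerCentralSeries.1 inferInstance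
  have key : ∀ k, A ≤ P.lowerCentralSeries k := by
    intro k
    induction k with
    | zero => exact hA
    | succ k ih => exact h.trans (Subgroup.commutator_mono ih le_rfl)
  simpa [hn] using key n

/-- A group generated by its elements of order prime to `p` has trivial focal quotient. -/
theorem le_focalSubgroup_of_pResidual_eq_top (P : Sylow p G) (h : Cfsg.pResidual p G = ⊤) :
    (P : Subgroup G) ≤ (P : Subgroup G).focalSubgroup := by
  rw [← Subgroup.ker_transferFocal_inf_eq_focalSubgroup P]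
  refine le_inf (fun x _ => ?_) le_rfl
  exact pResidual_le_ker _ (P.2.to_quotient (P : Subgroup G).focalSubgroupOf)
    (h.ge (Subgroup.mem_top x))

/-- Focal computation inside `O^p(G)`. -/
theorem inf_pResidual_le_closure (P : Sylow p G) :
    (P : Subgroup G) ⊓ Cfsg.pResidual p G ≤ Subgroup.closure
      {z : G | ∃ x ∈ (P : Subgroup G) ⊓ Cfsg.pResidual p G, ∃ u ∈ Cfsg.pResidual p G,
        ⁅x, u⁆ ∈ (P : Subgroup G) ⊓ Cfsg.pResidual p G ∧ z = ⁅x, u⁆} := by
  set K := Cfsg.pResidual p G with hK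
  haveI : K.Normal := pResidual_normal
  have hi := not_dvd_relIndex_inf_of_normal P K
  have hle : (P : Subgroup G) ⊓ K ≤ K := inf_le_right
  let S : Sylow p K := ((P.2.to_le (inf_le_left (b := K))).of_equiv
    (Subgroup.subgroupOfEquivOfLe hle).symm).toSylow hi
  have h1 : (S : Subgroup K) ≤ (S : Subgroup K).focalSubgroup :=
    le_focalSubgroup_of_pResidual_eq_top S pResidual_pResidual
  intro x hx
  have h2 : (⟨x, hx.2⟩ : K) ∈ (S : Subgroup K).focalSubgroup := h1 hx
  have h3 := Subgroup.mem_map_of_mem K.subtype h2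
  rw [Subgroup.focalSubgroup_def, MonoidHom.map_closure] at h3
  refine Subgroup.closure_mono ?_ h3
  rintro _ ⟨g, ⟨hg, a, ha, u, rfl⟩, rfl⟩
  exact ⟨a, ha, u, u.2, hg, rfl⟩

/-- If `P` controls its own fusion then `G` has a normal `p`-complement. -/
theorem hasNormalPComplement_of_noExtraFusion (P : Sylow p G)
    (h : NoExtraFusion (P : Subgroup G)) : Cfsg.HasNormalPComplement p G := by
  have hA : (P : Subgroup G) ⊓ Cfsg.pResidual p G ≤
      ⁅(P : Subgroup G) ⊓ Cfsg.pResidual p G, (P : Subgroup G)⁆ := by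
    refine (inf_pResidual_le_closure P).trans ((Subgroup.closure_le _).2 ?_)
    rintro z ⟨x, hx, u, -, hxu, rfl⟩
    have hc : u * x⁻¹ * u⁻¹ ∈ (P : Subgroup G) := by
      have h4 := (P : Subgroup G).mul_mem ((P : Subgroup G).inv_mem hx.1) hxu.1
      rwa [commutatorElement_def, show x⁻¹ * (x * u * x⁻¹ * u⁻¹) = u * x⁻¹ * u⁻¹ by group] at h4
    obtain ⟨v, hv, hv'⟩ := h x⁻¹ ((P : Subgroup G).inv_mem hx.1) _ hc ⟨u, rfl⟩
    rw [show ⁅x, u⁆ = ⁅x, v⁆ by
      rw [commutatorElement_def, commutatorElement_def, mul_assoc x u, mul_assoc x (u * x⁻¹),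
        ← hv']
      group]
    exact Subgroup.commutator_mem_commutator hx hv
  haveI : Group.IsNilpotent (P : Subgroup G) := P.2.isNilpotent
  have h0 := eq_bot_of_le_commutator inf_le_left hA
  haveI := pResidual_normal (G := G) (p := p)
  rw [hasNormalPComplement_iff_not_dvd]
  intro hd
  have hi := not_dvd_relIndex_inf_of_normal P (Cfsg.pResidual p G)
  rw [h0, Subgroup.relIndex_bot_left] at hi
  exact hi hd

/-- The normalizer of every `p`-subgroup induces a `p`-group on it. -/
def LocallyPNilpotentAction (p : ℕ) (P : Subgroup G) : Prop :=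
  ∀ Q : Subgroup G, Q ≤ P → ∀ g ∈ Subgroup.normalizer (Q : Set G),
    Nat.Coprime (orderOf g) p → g ∈ Subgroup.centralizer (Q : Set G)

/-- Under the local condition, conjugations between subgroups of `P` come from `P`. -/
theorem exists_mem_sylow_conj_eq (P : Sylow p G) (h : LocallyPNilpotentAction p (P : Subgroup G))
    (Q : Subgroup G) (hQ : Q ≤ P) (g : G) (hg : conjBy g Q ≤ P) :
    ∃ u ∈ P, ∀ x ∈ Q, g * x * g⁻¹ = u * x * u⁻¹ := by
  suffices H : ∀ (d : ℕ) (Q : Subgroup G), (P : Subgroup G).index * Nat.card (P : Subgroup G)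
      - Nat.card Q ≤ d → Q ≤ P → ∀ g : G, conjBy g Q ≤ P →
      ∃ u ∈ P, ∀ x ∈ Q, g * x * g⁻¹ = u * x * u⁻¹ from H _ Q le_rfl hQ g hg
  intro d
  induction d using Nat.strong_induction_on with
  | _ d ih =>
  intro Q hd hQ g hg
  by_cases hPQ : (P : Subgroup G) ≤ Q
  · obtain rfl : Q = (P : Subgroup G) := le_antisymm hQ hPQ
    have hgN : g ∈ Subgroup.normalizer ((P : Subgroup G) : Set G) :=
      conjBy_eq_iff.1 (conjBy_eq_of_le hg)
    obtain ⟨k, hk⟩ := exists_pow_p_mem_pResidual (p := p)
      (⟨g, hgN⟩ : Subgroup.normalizer ((P : Subgroup G) : Set G))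
    set N := Subgroup.normalizer ((P : Subgroup G) : Set G) with hN
    let C : Subgroup N := (Subgroup.centralizer ((P : Subgroup G) : Set G)).subgroupOf N
    have hC : Cfsg.pResidual p N ≤ C := by
      refine (Subgroup.closure_le _).2 fun y hy => ?_
      refine h _ le_rfl (y : G) y.2 ?_
      rw [Subgroup.orderOf_coe]
      exact hy
    let S : Sylow p N := P.subtype Subgroup.le_normalizer
    have htop := (pResidual_sup_sylow S).symm ▸ Subgroup.mem_top (⟨g, hgN⟩ : N)
    haveI := pResidual_normal (G := N) (p := p)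
    rw [sup_comm] at htop
    obtain ⟨u, hu, c, hc, huc⟩ := Subgroup.mem_sup_of_normal_right.1 htop
    refine ⟨u, hu, fun x hx => ?_⟩
    have hg' : g = (u : G) * c := (congrArg Subtype.val huc).symm
    rw [hg', mul_inv_rev, show (u : G) * c * x * ((c : G)⁻¹ * (u : G)⁻¹) =
      u * ((c : G) * x * (c : G)⁻¹) * (u : G)⁻¹ by group, mem_centralizer_iff'.1 (show (c : G) ∈ Subgroup.centralizer _ from hC hc) x hx]
  · -- `Q` is a proper subgroup
    obtain ⟨b, hb1, hb2, hb3⟩ := exists_conj_fully_normalized P hQ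
    set Q' := conjBy b Q with hQ'
    -- move any conjugate of `Q` to `Q'` by an element agreeing with an element of `P`
    have move : ∀ (R : Subgroup G), R ≤ P → ∀ a : G, conjBy a R = Q' →
        ∃ u ∈ P, ∀ x ∈ R, a * x * a⁻¹ = u * x * u⁻¹ := by
      intro R hR a ha
      set M := (P : Subgroup G) ⊓ Subgroup.normalizer (R : Set G) with hM
      set N' := Subgroup.normalizer (Q' : Set G)
      have haM : conjBy a M ≤ N' := by
        have := conjBy_mono (g := a) (inf_le_right : M ≤ Subgroup.normalizer (R : Set G))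
        rwa [conjBy_normalizer, ha] at this
      obtain ⟨n, hn, hn2⟩ := exists_conj_le_of_not_dvd_relIndex
        (P.2.to_le (inf_le_left (b := N'))) inf_le_right hb3
        (isPGroup_conjBy a (P.2.to_le (inf_le_left (b := Subgroup.normalizer (R : Set G))))) haM
      -- factor `n` through the Sylow subgroup of `N'`
      let S : Sylow p N' := ((P.2.to_le (inf_le_left (b := N'))).of_equiv
        (Subgroup.subgroupOfEquivOfLe inf_le_right).symm).toSylow hb3
      haveI := pResidual_normal (G := N') (p := p)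
      have htop := (pResidual_sup_sylow S).symm ▸ Subgroup.mem_top (⟨n, hn⟩ : N')
      rw [sup_comm] at htop
      obtain ⟨v, hv, c, hc, hvc⟩ := Subgroup.mem_sup_of_normal_right.1 htop
      have hv' : (v : G) ∈ (P : Subgroup G) ⊓ N' := hv
      have hcC : (c : G) ∈ Subgroup.centralizer (Q' : Set G) := by
        have hle : Cfsg.pResidual p N' ≤ (Subgroup.centralizer (Q' : Set G)).subgroupOf N' := by
          refine (Subgroup.closure_le _).2 fun y hy => ?_
          refine h _ hb1 (y : G) y.2 ?_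
          rw [Subgroup.orderOf_coe]
          exact hy
        exact hle hc
      have hca : conjBy ((c : G) * a) M ≤ (P : Subgroup G) := by
        have hn3 : conjBy ((v : G) * c * a) M ≤ (P : Subgroup G) ⊓ N' := by
          rw [show (v : G) * c = n from congrArg Subtype.val hvc, ← conjBy_conjBy]
          exact hn2
        refine conjBy_le_iff.2 fun x hx => ?_
        have h1 := (P : Subgroup G).mul_mem ((P : Subgroup G).mul_mem
          ((P : Subgroup G).inv_mem hv'.1) (conjBy_le_iff.1 hn3 x hx).1) hv'.1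
        rwa [show (v : G)⁻¹ * (v * c * a * x * (v * c * a)⁻¹) * v =
          c * a * x * (c * a)⁻¹ by group] at h1
      have hlt : R < M := by
        haveI : Group.IsNilpotent (P : Subgroup G) := P.2.isNilpotent
        have hne : R ≠ (P : Subgroup G) := by
          rintro rfl
          refine hPQ (Subgroup.eq_of_le_of_card_ge hQ ?_).ge
          rw [← card_conjBy b Q, ← hQ', ← ha, card_conjBy]
        have hlt' : R.subgroupOf (P : Subgroup G) < ⊤ := by
          rw [lt_top_iff_ne_top, Ne, Subgroup.subgroupOf_eq_top]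
          exact fun hPR => hne (le_antisymm hR hPR)
        have h1 := Group.normalizerCondition_of_isNilpotent (G := (P : Subgroup G))
          (R.subgroupOf (P : Subgroup G)) hlt'
        refine lt_of_le_of_ne (le_inf hR Subgroup.le_normalizer) fun he => h1.ne ?_
        refine le_antisymm Subgroup.le_normalizer fun x hx => ?_
        show (x : G) ∈ R
        rw [he]
        refine ⟨x.2, Subgroup.mem_normalizer_iff.2 fun y => ?_⟩
        by_cases hy : y ∈ (P : Subgroup G)
        · exact Subgroup.mem_normalizer_iff.1 hx ⟨y, hy⟩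
        · exact iff_of_false (fun hy' => hy (hR hy')) fun hy' =>
            hy (by simpa [mul_assoc] using mul_mem (mul_mem (inv_mem x.2) (hR hy')) x.2)
      have hcard : Nat.card R < Nat.card M := by
        have := Set.ncard_lt_ncard (SetLike.coe_ssubset_coe.2 hlt) (Set.toFinite _)
        simpa [← Nat.card_coe_set_eq] using this
      have hRQ : Nat.card R = Nat.card Q := by
        rw [← card_conjBy a R, ha, hQ', card_conjBy]
      have hMle : Nat.card M ≤ (P : Subgroup G).index * Nat.card (P : Subgroup G) :=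
        le_trans (Subgroup.card_le_of_le (inf_le_left (b := Subgroup.normalizer (R : Set G))))
          (Nat.le_mul_of_pos_left _ (Nat.pos_of_ne_zero Subgroup.index_ne_zero_of_finite))
      obtain ⟨u, hu, hu'⟩ := ih _ (by omega) M le_rfl inf_le_left _ hca
      refine ⟨u, hu, fun x hx => ?_⟩
      rw [← hu' x (hlt.le hx), show (c : G) * a * x * ((c : G) * a)⁻¹ =
        c * (a * x * a⁻¹) * (c : G)⁻¹ by group,
        mem_centralizer_iff'.1 hcC _ (ha ▸ conj_mem_conjBy hx)]
    obtain ⟨u₁, hu₁, h₁⟩ := move Q hQ b rfl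
    obtain ⟨u₂, hu₂, h₂⟩ := move (conjBy g Q) hg (b * g⁻¹)
      (by rw [conjBy_conjBy, inv_mul_cancel_right])
    refine ⟨u₂⁻¹ * u₁, mul_mem (inv_mem hu₂) hu₁, fun x hx => ?_⟩
    have h3 := h₂ _ (conj_mem_conjBy hx)
    rw [show b * g⁻¹ * (g * x * g⁻¹) * (b * g⁻¹)⁻¹ = b * x * b⁻¹ by group, h₁ x hx] at h3
    rw [mul_inv_rev, inv_inv, show u₂⁻¹ * u₁ * x * (u₁⁻¹ * u₂) = u₂⁻¹ * (u₁ * x * u₁⁻¹) * u₂ by
      group, h3]
    group

omit [Fact p.Prime] [Finite G] in
theorem noExtraFusion_of_forall_conj_eq (P : Sylow p G)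
    (h : ∀ Q : Subgroup G, Q ≤ P → ∀ g : G, conjBy g Q ≤ P →
      ∃ u ∈ P, ∀ x ∈ Q, g * x * g⁻¹ = u * x * u⁻¹) :
    NoExtraFusion (P : Subgroup G) := by
  rintro x hx y hy ⟨g, rfl⟩
  obtain ⟨u, hu, hu'⟩ := h (Subgroup.zpowers x) (Subgroup.zpowers_le.2 hx) g
    (conjBy_le_iff.2 fun z hz => by
      obtain ⟨k, rfl⟩ := Subgroup.mem_zpowers_iff.1 hz
      rw [← conj_zpow]
      exact zpow_mem hy k)
  exact ⟨u, hu, (hu' x (Subgroup.mem_zpowers x)).symm⟩

theorem locallyPNilpotentAction_of_hasNormalPComplement (P : Subgroup G)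
    (h : ∀ Q : Subgroup G, Q ≤ P → Q ≠ ⊥ →
      Cfsg.HasNormalPComplement p (Subgroup.normalizer (Q : Set G)))
    (hP : IsPGroup p P) : LocallyPNilpotentAction p P := by
  intro Q hQ g hg hgc
  by_cases hQb : Q = ⊥
  · subst hQb
    exact mem_centralizer_iff'.2 fun x hx => by simp [Subgroup.mem_bot.1 hx]
  set N := Subgroup.normalizer (Q : Set G)
  haveI := pResidual_normal (G := N) (p := p)
  haveI : (Q.subgroupOf N).Normal := Subgroup.normal_in_normalizer
  have hK := hasNormalPComplement_iff_coprime.1 (h Q hQ hQb)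
  have hdis : Disjoint (Cfsg.pResidual p N) (Q.subgroupOf N) := by
    rw [Subgroup.disjoint_def]
    intro y hy hy'
    have hQp : IsPGroup p Q := hP.to_le hQ
    obtain ⟨k, hk⟩ := hQp ⟨y, hy'⟩
    have hk' : y ^ p ^ k = 1 := Subtype.ext (by simpa using congrArg Subtype.val hk)
    exact orderOf_eq_one_iff.1 (Nat.eq_one_of_dvd_coprimes
      (Nat.Coprime.pow_right k (hK y hy)) dvd_rfl (orderOf_dvd_of_pow_eq_one hk'))
  refine mem_centralizer_iff'.2 fun x hx => ?_
  have hgK : (⟨g, hg⟩ : N) ∈ Cfsg.pResidual p N :=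
    mem_pResidual (by rwa [Subgroup.orderOf_mk])
  have hc := Subgroup.commute_of_normal_of_disjoint _ _ inferInstance inferInstance hdis
    ⟨g, hg⟩ ⟨x, Subgroup.le_normalizer hx⟩ hgK hx
  exact mul_inv_eq_iff_eq_mul.2 (congrArg Subtype.val hc.eq)

theorem hasNormalPComplement_of_locallyPNilpotentAction (P : Sylow p G)
    (h : LocallyPNilpotentAction p (P : Subgroup G)) : Cfsg.HasNormalPComplement p G :=
  hasNormalPComplement_of_noExtraFusion P
    (noExtraFusion_of_forall_conj_eq P (exists_mem_sylow_conj_eq P h))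

end CfsgLib.Fusion
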