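import Cfsg.Agent.Lib.Fusion.ZJFamilies
import Cfsg.Agent.Lib.Coprime.Action

/-!
# `Z(J)` is normal for the elementary abelian Thompson subgroup
-/

set_option autoImplicit false
set_option linter.style.haveILetI false

open Subgroup
open scoped commutatorElement

namespace CfsgLib.Fusion

variable {G : Type*} [Group G] {p : ℕ}

theorem mul_pow_eq_of_central_commutator {x y c : G} (hp : p.Prime) (hp2 : p ≠ 2)
    (hc : y * x = c * (x * y)) (hcx : Commute c x) (hcy : Commute c y) (hcp : c ^ p = 1) :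
    (x * y) ^ p = x ^ p * y ^ p := by
  have hyn : ∀ n : ℕ, y ^ n * x = c ^ n * (x * y ^ n) := by
    intro n
    induction n with
    | zero => simp
    | succ n ih =>
      calc y ^ (n + 1) * x = y * (y ^ n * x) := by rw [pow_succ']; group
        _ = (y * c ^ n) * (x * y ^ n) := by rw [ih]; group
        _ = c ^ n * (y * x) * y ^ n := by rw [(hcy.symm.pow_right n).eq]; group
        _ = c ^ (n + 1) * (x * y ^ (n + 1)) := by rw [hc, pow_succ c, pow_succ' y]; group
  have key : ∀ n : ℕ, (x * y) ^ n = c ^ n.choose 2 * (x ^ n * y ^ n) := by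
    intro n
    induction n with
    | zero => simp [Nat.choose_eq_zero_of_lt]
    | succ n ih =>
      calc (x * y) ^ (n + 1) = c ^ n.choose 2 * x ^ n * (y ^ n * x) * y := by
            rw [pow_succ, ih]; group
        _ = c ^ n.choose 2 * (x ^ n * c ^ n) * (x * y ^ n) * y := by rw [hyn]; group
        _ = (c ^ n.choose 2 * c ^ n) * (x ^ n * x) * (y ^ n * y) := by
            rw [((hcx.pow_left n).pow_right n).symm.eq]; group
        _ = c ^ (n + 1).choose 2 * (x ^ (n + 1) * y ^ (n + 1)) := by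
            rw [← pow_add, ← pow_succ, ← pow_succ,
              show (n + 1).choose 2 = n.choose 2 + n by
                rw [Nat.choose_succ_succ, Nat.choose_one_right, Nat.add_comm]]
            group
  rw [key]
  have h2 : 2 < p := lt_of_le_of_ne hp.two_le (Ne.symm hp2)
  obtain ⟨m, hm⟩ := hp.dvd_choose_self two_ne_zero h2
  rw [hm, pow_mul, hcp, one_pow, one_mul]

variable [Finite G] [hpf : Fact p.Prime]

/-- In a `p`-stable group with `C(O_p) ≤ O_p`, `p` odd, the centre of the Thompson subgroup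
generated by the largest elementary abelian subgroups is normal. -/
theorem centerThompsonOf_normal (hp : p ≠ 2)
    (hc : Subgroup.centralizer (Cfsg.pCore p G : Set G) ≤ Cfsg.pCore p G)
    (hst : ∀ (P : Subgroup G) [P.Normal], IsPGroup p P → Cfsg.IsPStableOn p P)
    (S : Sylow p G) : (Cfsg.centerThompsonOf p (S : Subgroup G)).Normal := by
  classical
  set T : Subgroup G := (S : Subgroup G) with hT
  set J := Cfsg.thompsonSubgroupOf p T with hJ
  set Z := Cfsg.centerThompsonOf p T with hZdef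
  have hJT : J ≤ T := thompsonSubgroupOf_le T
  have hZT : Z ≤ T := (inf_le_left : Z ≤ J).trans hJT
  have hNJ : Subgroup.normalizer (T : Set G) ≤ Subgroup.normalizer (J : Set G) :=
    normalizer_le_normalizer_thompsonSubgroupOf T
  have hNZ : Subgroup.normalizer (J : Set G) ≤ Subgroup.normalizer (Z : Set G) :=
    fun g hg => CfsgLib.Coprime.inf_le_normalizer (A := Subgroup.normalizer (J : Set G)) le_rfl
      (CfsgLib.Coprime.normalizer_le_normalizer_centralizer J) hg
  have hTZ : T ≤ Subgroup.normalizer (Z : Set G) := Subgroup.le_normalizer.trans (hNJ.trans hNZ)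
  have hZc : ∀ a ∈ Z, ∀ b ∈ Z, a * b = b * a := fun a ha b hb =>
    Subgroup.mem_centralizer_iff.1 hb.2 a ha.1
  haveI hZcomm : IsMulCommutative Z := ⟨⟨fun a b => Subtype.ext (hZc a a.2 b b.2)⟩⟩
  -- `Z` lies in `O_p`
  haveI hOn := CfsgLib.Coprime.pCore_normal' (G := G) p
  have hOp : IsPGroup p (Cfsg.pCore p G) := CfsgLib.Coprime.pCore_isPGroup p
  have hOT : Cfsg.pCore p G ≤ T := hOp.le_sylow_of_normal S
  have hpre : ∀ (B : Subgroup G) [B.Normal], ((Cfsg.pCore p (G ⧸ Subgroup.centralizer (B : Set G))).comap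
      (QuotientGroup.mk' (Subgroup.centralizer (B : Set G)))).Normal := fun B _ => by
    haveI := CfsgLib.Coprime.pCore_normal' (G := G ⧸ Subgroup.centralizer (B : Set G)) p
    exact Subgroup.Normal.comap inferInstance _
  have hZO : Z ≤ Cfsg.pCore p G := by
    intro a ha
    haveI := hpre (Cfsg.pCore p G)
    refine CfsgLib.Coprime.le_pCore (IsPGroup.comap_of_ker_isPGroup
      (CfsgLib.Coprime.pCore_isPGroup p) (QuotientGroup.mk'
        (Subgroup.centralizer (Cfsg.pCore p G : Set G)))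
      (by rw [QuotientGroup.ker_mk']; exact hOp.to_le hc)) ?_
    exact hst _ hOp a (quadratic_of_abelian_le hZcomm ha (hOT.trans hTZ))
  -- `Ω₁(Z)`
  set Om : Subgroup G := ⨅ A ∈ maxEA p T, A with hOm
  haveI hOmn : Om.Normal := iInf_maxEA_normal hp hc hst S
  have hOmZ : ∀ z, z ∈ Om ↔ z ∈ Z ∧ z ^ p = 1 := by
    intro z
    obtain ⟨A₀, hA₀⟩ := maxEA_nonempty (p := p) T
    constructor
    · intro hz
      obtain ⟨-, h2, h3⟩ := mem_iInf_maxEA_iff.1 hz
      exact ⟨⟨le_thompsonSubgroupOf hA₀ ((iInf₂_le A₀ hA₀ : Om ≤ A₀) hz), h3⟩, h2⟩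
    · exact fun hz => mem_iInf_maxEA_iff.2 ⟨hZT hz.1, hz.2, hz.1.2⟩
  suffices key : ∀ i : ℕ, ∀ g : G, ∀ z ∈ Z, z ^ p ^ i = 1 → g * z * g⁻¹ ∈ Z by
    refine ⟨fun z hz g => ?_⟩
    obtain ⟨k, hk⟩ := (S.2.to_le hZT) ⟨z, hz⟩
    exact key k g z hz (congrArg Subtype.val hk)
  intro i
  induction i with
  | zero =>
    intro g z _ hz
    rw [pow_zero, pow_one] at hz
    rw [hz, mul_one, mul_inv_cancel]
    exact one_mem Z
  | succ i ih =>
  by_cases hi : i = 0
  · intro g z hz hzp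
    rw [hi, zero_add, pow_one] at hzp
    exact ((hOmZ _).1 (hOmn.conj_mem z ((hOmZ z).2 ⟨hz, hzp⟩) g)).1
  set Gen : Set G := {z | z ∈ Z ∧ z ^ p ^ (i + 1) = 1} with hGen
  set B := Subgroup.normalClosure Gen with hB
  haveI hBn : B.Normal := Subgroup.normalClosure_normal
  have hBO : B ≤ Cfsg.pCore p G :=
    Subgroup.normalClosure_le_normal fun _ hx => hZO hx.1
  have hBT : B ≤ T := hBO.trans hOT
  have hBp : IsPGroup p B := hOp.to_le hBO
  -- the lower layer is central in `B`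
  have hlow : ∀ z ∈ Z, z ^ p ^ i = 1 → ∀ b ∈ B, Commute z b := by
    intro z hz hzp b hb
    let Zi : Subgroup G :=
      { carrier := {w | w ∈ Z ∧ w ^ p ^ i = 1}
        one_mem' := ⟨one_mem Z, one_pow _⟩
        mul_mem' := fun {u v} hu hv => ⟨mul_mem hu.1 hv.1, by
          rw [(show Commute u v from hZc u hu.1 v hv.1).mul_pow, hu.2, hv.2, one_mul]⟩
        inv_mem' := fun {u} hu => ⟨inv_mem hu.1, by rw [inv_pow, hu.2, inv_one]⟩ }
    haveI : Zi.Normal := ⟨fun w hw g => ⟨ih g w hw.1 hw.2, by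
      rw [conj_pow, hw.2, mul_one, mul_inv_cancel]⟩⟩
    have hle : B ≤ Subgroup.centralizer (Zi : Set G) :=
      Subgroup.normalClosure_le_normal fun u hu => Subgroup.mem_centralizer_iff.2
        fun w hw => hZc w hw.1 u hu.1
    exact Subgroup.mem_centralizer_iff.1 (hle hb) z ⟨hz, hzp⟩
  have hOmc : ∀ c ∈ Om, ∀ b ∈ B, Commute c b := fun c hc b hb =>
    hlow c ((hOmZ c).1 hc).1 (orderOf_dvd_iff_pow_eq_one.1
      ((orderOf_dvd_of_pow_eq_one ((hOmZ c).1 hc).2).trans (dvd_pow_self p hi))) b hb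
  -- the derived subgroup lies in `Ω₁(Z)`
  have hgen : ∀ z ∈ Gen, ∀ v ∈ B, ⁅z, v⁆ ∈ Om := by
    intro z hz v hv
    have hcZ : ⁅z, v⁆ ∈ Z := by
      rw [commutatorElement_def, show z * v * z⁻¹ * v⁻¹ = z * (v * z⁻¹ * v⁻¹) by group]
      exact mul_mem hz.1 ((Subgroup.mem_normalizer_iff.1 (hTZ (hBT hv)) _).1 (inv_mem hz.1))
    refine (hOmZ _).2 ⟨hcZ, ?_⟩
    have hzc : Commute ⁅z, v⁆ z := hZc _ hcZ z hz.1
    have h1 : z * (v * z⁻¹ * v⁻¹) = ⁅z, v⁆ := by rw [commutatorElement_def]; group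
    have hcm : Commute z (v * z⁻¹ * v⁻¹) :=
      hZc z hz.1 _ ((Subgroup.mem_normalizer_iff.1 (hTZ (hBT hv)) _).1 (inv_mem hz.1))
    rw [← h1, hcm.mul_pow, conj_pow, inv_pow]
    have hzp : (z ^ p) ^ p ^ i = 1 := by
      rw [← pow_mul, ← pow_succ']; exact hz.2
    rw [← ((hlow _ (pow_mem hz.1 p) hzp v hv).inv_left).eq]
    group
  have hBB : ⁅B, B⁆ ≤ Om := by
    let ν := QuotientGroup.mk' Om
    have hc1 : B ≤ (Subgroup.centralizer ((B.map ν : Subgroup _) : Set (G ⧸ Om))).comap ν := by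
      haveI : (B.map ν).Normal := hBn.map ν (QuotientGroup.mk'_surjective Om)
      refine Subgroup.normalClosure_le_normal fun z hz => ?_
      refine Subgroup.mem_centralizer_iff.2 ?_
      rintro _ ⟨v, hv, rfl⟩
      exact (commutatorElement_eq_one_iff_mul_comm.1 (by
        rw [← map_commutatorElement]; exact (QuotientGroup.eq_one_iff _).2 (hgen z hz v hv))).symm
    rw [Subgroup.commutator_le]
    intro u hu v hv
    rw [← QuotientGroup.eq_one_iff]
    show ν ⁅u, v⁆ = 1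
    rw [map_commutatorElement, commutatorElement_eq_one_iff_mul_comm]
    exact (Subgroup.mem_centralizer_iff.1 (hc1 hu) _ ⟨v, hv, rfl⟩).symm
  have hpow : ∀ x ∈ B, ∀ y ∈ B, (x * y) ^ p = x ^ p * y ^ p := fun x hx y hy => by
    have hcO : ⁅y, x⁆ ∈ Om := hBB (Subgroup.commutator_mem_commutator hy hx)
    exact mul_pow_eq_of_central_commutator hpf.out hp
      (show y * x = ⁅y, x⁆ * (x * y) by rw [commutatorElement_def]; group)
      (hOmc _ hcO x hx) (hOmc _ hcO y hy) ((hOmZ _).1 hcO).2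
  have hBpow : ∀ x ∈ B, x ^ p ∈ Z ∧ (x ^ p) ^ p ^ i = 1 := by
    let W : Subgroup G :=
      { carrier := {x | x ∈ B ∧ x ^ p ∈ Z ∧ (x ^ p) ^ p ^ i = 1}
        one_mem' := ⟨one_mem B, by rw [one_pow]; exact one_mem Z, by rw [one_pow, one_pow]⟩
        mul_mem' := fun {x y} hx hy => ⟨mul_mem hx.1 hy.1, by
          rw [hpow x hx.1 y hy.1]; exact mul_mem hx.2.1 hy.2.1, by
          rw [hpow x hx.1 y hy.1, (show Commute (x ^ p) (y ^ p) from hZc _ hx.2.1 _ hy.2.1).mul_pow,
            hx.2.2, hy.2.2, one_mul]⟩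
        inv_mem' := fun {x} hx => ⟨inv_mem hx.1, by rw [inv_pow]; exact inv_mem hx.2.1, by
          rw [inv_pow, inv_pow, hx.2.2, inv_one]⟩ }
    haveI : W.Normal := ⟨fun x hx g => ⟨hBn.conj_mem x hx.1 g, by
      rw [conj_pow]; exact ih g _ hx.2.1 hx.2.2, by
      rw [conj_pow, conj_pow, hx.2.2, mul_one, mul_inv_cancel]⟩⟩
    have hle : B ≤ W := Subgroup.normalClosure_le_normal fun z hz =>
      ⟨Subgroup.subset_normalClosure hz, pow_mem hz.1 p, by rw [← pow_mul, ← pow_succ']; exact hz.2⟩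
    exact fun x hx => (hle hx).2
  let B₁ : Subgroup G :=
    { carrier := {x | x ∈ B ∧ x ^ p = 1}
      one_mem' := ⟨one_mem B, one_pow p⟩
      mul_mem' := fun {x y} hx hy => ⟨mul_mem hx.1 hy.1, by
        rw [hpow x hx.1 y hy.1, hx.2, hy.2, one_mul]⟩
      inv_mem' := fun {x} hx => ⟨inv_mem hx.1, by rw [inv_pow, hx.2, inv_one]⟩ }
  haveI hB₁n : B₁.Normal := ⟨fun x hx g => ⟨hBn.conj_mem x hx.1 g, by
    rw [conj_pow, hx.2, mul_one, mul_inv_cancel]⟩⟩
  have hB₁B : B₁ ≤ B := fun _ hx => hx.1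
  -- `C(B₁)` acts on `B` as a `p`-group
  set C := Subgroup.centralizer (B : Set G) with hC
  set C₁ := Subgroup.centralizer (B₁ : Set G) with hC₁
  set L := (Cfsg.pCore p (G ⧸ C)).comap (QuotientGroup.mk' C) with hL
  haveI hLn : L.Normal := hpre B
  have hCL : C ≤ L := fun c hc => by
    show QuotientGroup.mk' C c ∈ Cfsg.pCore p (G ⧸ C)
    rw [show QuotientGroup.mk' C c = 1 from (QuotientGroup.eq_one_iff c).2 hc]
    exact one_mem _
  have hC₁C : ∀ k ∈ C₁, Nat.Coprime (orderOf k) p → k ∈ C := by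
    intro k hk hkp
    refine mem_centralizer_iff'.2 fun x hx => ?_
    induction hn : orderOf x using Nat.strong_induction_on generalizing x with
    | _ n IH =>
    by_cases hx1 : x ^ p = 1
    · exact mem_centralizer_iff'.1 hk x ⟨hx, hx1⟩
    have hxp : k * x ^ p * k⁻¹ = x ^ p := by
      refine IH _ ?_ _ (pow_mem hx p) rfl
      obtain ⟨m, hm⟩ := hBp ⟨x, hx⟩
      have hd : p ∣ orderOf x := by
        have hm' : x ^ p ^ m = 1 := congrArg Subtype.val hm
        obtain ⟨j, -, hj⟩ := (Nat.dvd_prime_pow hpf.out).1 (orderOf_dvd_of_pow_eq_one hm')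
        rcases Nat.eq_zero_or_pos j with rfl | hj0
        · exact absurd (by rw [pow_zero] at hj; rw [orderOf_eq_one_iff.1 hj, one_pow]) hx1
        · exact hj ▸ dvd_pow_self p hj0.ne'
      rw [← hn, orderOf_pow' _ hpf.out.ne_zero, Nat.gcd_eq_right hd]
      exact Nat.div_lt_self (orderOf_pos x) hpf.out.one_lt
    set w := k * x * k⁻¹ * x⁻¹ with hw
    have hkx : k * x * k⁻¹ ∈ B := hBn.conj_mem x hx k
    have hwB : w ∈ B₁ := ⟨mul_mem hkx (inv_mem hx), by
      rw [hw, hpow _ hkx _ (inv_mem hx), conj_pow, hxp, inv_pow, mul_inv_cancel]⟩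
    have hw1 : w = 1 := CfsgLib.Coprime.eq_one_of_conj_eq_mul
      (show k * x * k⁻¹ = w * x by rw [hw]; group) (mem_centralizer_iff'.1 hk w hwB)
      (Nat.Coprime.coprime_dvd_right (orderOf_dvd_of_pow_eq_one hwB.2) hkp)
    rwa [hw, mul_inv_eq_one] at hw1
  have hL₁ : ∀ a : G, QuotientGroup.mk' C₁ a ∈ Cfsg.pCore p (G ⧸ C₁) → a ∈ L := by
    intro a ha
    set L₁ := (Cfsg.pCore p (G ⧸ C₁)).comap (QuotientGroup.mk' C₁) with hL₁
    haveI : L₁.Normal := hpre B₁
    haveI : (L₁.map (QuotientGroup.mk' C)).Normal :=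
      Subgroup.Normal.map inferInstance _ (QuotientGroup.mk'_surjective C)
    refine CfsgLib.Coprime.le_pCore (N := L₁.map (QuotientGroup.mk' C)) ?_ ⟨a, ha, rfl⟩
    rintro ⟨_, x, hx, rfl⟩
    obtain ⟨k, hk⟩ := (CfsgLib.Coprime.pCore_isPGroup (G := G ⧸ C₁) p) ⟨QuotientGroup.mk' C₁ x, hx⟩
    have hxC₁ : x ^ p ^ k ∈ C₁ := by
      rw [← QuotientGroup.eq_one_iff]
      exact congrArg Subtype.val hk
    obtain ⟨j, m, hm, hjm⟩ := Nat.exists_eq_pow_mul_and_not_dvd (orderOf_pos (x ^ p ^ k)).ne' p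
      hpf.out.ne_one
    refine ⟨k + j, Subtype.ext ?_⟩
    show QuotientGroup.mk' C x ^ p ^ (k + j) = 1
    rw [← map_pow, pow_add, pow_mul]
    refine (QuotientGroup.eq_one_iff _).2 (hC₁C _ (pow_mem hxC₁ _) ?_)
    rw [orderOf_pow' _ (pow_ne_zero j hpf.out.ne_zero), hjm, Nat.gcd_eq_right (Dvd.intro m rfl),
      Nat.mul_div_cancel_left _ (pow_pos hpf.out.pos j), Nat.coprime_comm]
    exact hpf.out.coprime_iff_not_dvd.2 hm
  -- members inside `L` centralize `B`
  set Q := T ⊓ L with hQ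
  have hLQ : L ≤ Q ⊔ C := by
    rw [← Subgroup.relIndex_eq_one]
    have h1 : (Q ⊔ C).relIndex L ∣ Q.relIndex L := Subgroup.relIndex_dvd_of_le_left _ le_sup_left
    have h2 : (Q ⊔ C).relIndex L ∣ C.relIndex L := Subgroup.relIndex_dvd_of_le_left _ le_sup_right
    obtain ⟨k, hk⟩ := (CfsgLib.Coprime.pCore_isPGroup (G := G ⧸ C) p).exists_card_eq
    have h3 : C.relIndex L = p ^ k := by
      have h := Subgroup.relIndex_comap (f := QuotientGroup.mk' C) ⊥ L
      rw [MonoidHom.comap_bot, QuotientGroup.ker_mk', Subgroup.relIndex_bot_left,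
        Subgroup.map_comap_eq_self_of_surjective (QuotientGroup.mk'_surjective C)] at h
      rw [h, hk]
    obtain ⟨j, -, hj⟩ := (Nat.dvd_prime_pow hpf.out).1 (h3 ▸ h2)
    rcases Nat.eq_zero_or_pos j with rfl | hjpos
    · rw [hj, pow_zero]
    · exact absurd ((dvd_pow_self p hjpos.ne').trans (hj ▸ h1)) (not_dvd_relIndex_inf_of_normal S L)
  have hmaxconj : ∀ g : G, ∀ A ∈ maxEA p T, conjBy g A ≤ T → conjBy g A ∈ maxEA p T :=
    fun g A hA h => ⟨h, isElementaryAbelian_map _ hA.2.1, fun D hD hDe =>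
      (card_conjBy g A).symm ▸ hA.2.2 D hD hDe⟩
  let W : Subgroup G :=
    { carrier := {x | x ∈ B ∧ ∀ A ∈ maxEA p T, A ≤ L → x ∈ Subgroup.centralizer (A : Set G)}
      one_mem' := ⟨one_mem B, fun A _ _ => one_mem _⟩
      mul_mem' := fun {x y} hx hy => ⟨mul_mem hx.1 hy.1, fun A h1 h2 =>
        mul_mem (hx.2 A h1 h2) (hy.2 A h1 h2)⟩
      inv_mem' := fun {x} hx => ⟨inv_mem hx.1, fun A h1 h2 => inv_mem (hx.2 A h1 h2)⟩ }
  have hWn : W.Normal := by
    refine Subgroup.normalizer_eq_top_iff.1 (eq_top_iff.2 ?_)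
    have hFr : Subgroup.normalizer (Q : Set G) ⊔ L = ⊤ := by
      let T₀ : Sylow p L := ((S.isPGroup'.to_le (inf_le_left : Q ≤ T)).of_equiv
        (Subgroup.subgroupOfEquivOfLe (inf_le_right : Q ≤ L)).symm).toSylow
          (not_dvd_relIndex_inf_of_normal S L)
      have hT₀ : (T₀ : Subgroup L).map L.subtype = Q :=
        Subgroup.map_subgroupOf_eq_of_le (inf_le_right : Q ≤ L)
      have hF := Sylow.normalizer_sup_eq_top T₀
      rwa [hT₀] at hF
    have hNQ : Subgroup.normalizer (Q : Set G) ≤ Subgroup.normalizer (W : Set G) := by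
      intro g hg
      refine conjBy_eq_iff.1 (conjBy_eq_of_le (conjBy_le_iff.2 fun x hx => ⟨hBn.conj_mem x hx.1 g, ?_⟩))
      intro A hA hAL
      have hAQ : A ≤ Q := le_inf hA.1 hAL
      have hA' : conjBy g⁻¹ A ≤ Q := conjBy_le_iff.2 fun a ha =>
        (Subgroup.mem_normalizer_iff.1 (inv_mem hg) a).1 (hAQ ha)
      have h' := hx.2 (conjBy g⁻¹ A)
        (hmaxconj g⁻¹ A hA (hA'.trans inf_le_left)) (hA'.trans inf_le_right)
      refine Subgroup.mem_centralizer_iff.2 fun a ha => ?_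
      have := Subgroup.mem_centralizer_iff.1 h' _ (conj_mem_conjBy (g := g⁻¹) ha)
      calc a * (g * x * g⁻¹) = g * (g⁻¹ * a * g⁻¹⁻¹ * x) * g⁻¹ := by group
        _ = g * (x * (g⁻¹ * a * g⁻¹⁻¹)) * g⁻¹ := by rw [this]
        _ = g * x * g⁻¹ * a := by group
    rw [← hFr]
    refine sup_le hNQ (hLQ.trans (sup_le (Subgroup.le_normalizer.trans hNQ) ?_))
    exact (Subgroup.centralizer_le (show (W : Set G) ⊆ B from fun x hx => hx.1)).trans
      (Subgroup.centralizer_le_normalizer _)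
  haveI := hWn
  have hBW : B ≤ W := Subgroup.normalClosure_le_normal fun z hz =>
    ⟨Subgroup.subset_normalClosure hz, fun A hA _ => by
      exact Subgroup.mem_centralizer_iff.2 fun a ha =>
        Subgroup.mem_centralizer_iff.1 hz.1.2 a (le_thompsonSubgroupOf hA ha)⟩
  have hAB : ∀ A ∈ maxEA p T, A ≤ L → A ≤ C := fun A hA hAL a ha => by
    refine Subgroup.mem_centralizer_iff.2 fun b hb => ?_
    exact (Subgroup.mem_centralizer_iff.1 ((hBW hb).2 A hA hAL) a ha).symm
  have hJC : J ≤ C := by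
    rw [hJ, thompsonSubgroupOf_eq]
    refine sSup_le fun A hA => hAB A hA ?_
    by_contra hAL
    by_cases hall : ∀ D ∈ maxEA p T, B₁ ≤ D
    · -- `B` normalizes `A`
      have hBA : B ≤ Subgroup.normalizer (A : Set G) := by
        intro b hb
        refine conjBy_eq_iff.1 (conjBy_eq_of_le (conjBy_le_iff.2 fun a ha => ?_))
        have hab : a * b⁻¹ * a⁻¹ ∈ B := hBn.conj_mem _ (inv_mem hb) a
        have hu : b * (a * b⁻¹ * a⁻¹) ∈ B₁ := by
          refine ⟨mul_mem hb hab, ?_⟩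
          rw [hpow b hb _ hab, conj_pow, inv_pow,
            Subgroup.mem_centralizer_iff.1 (inv_mem (hBpow b hb).1).2 a
              (le_thompsonSubgroupOf hA ha)]
          group
        rw [show b * a * b⁻¹ = b * (a * b⁻¹ * a⁻¹) * a by group]
        exact mul_mem (hall A hA hu) ha
      exact hAL fun a ha => hst B hBp a (quadratic_of_abelian_le hA.2.1.1 ha hBA)
    · push Not at hall
      obtain ⟨U, hU, hBU⟩ := hall
      obtain ⟨D, hD, -, hD2, hD3⟩ := maxEA_replacement_sylow hp S (D := T) le_rfl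
        Subgroup.le_normalizer (B := B₁) hB₁n (hB₁B.trans hBT)
        ⟨U, hU, ((Subgroup.commutator_mono hB₁B hB₁B).trans hBB).trans (iInf₂_le U hU), hBU⟩
      have hDL : D ≤ L := fun a ha =>
        hL₁ a (hst B₁ (hBp.to_le hB₁B) a (quadratic_of_abelian_le hD.2.1.1 ha hD3))
      exact hD2 fun x hx => mem_of_commute_maxEA hD (hBT hx.1) hx.2 fun a ha =>
        (Subgroup.mem_centralizer_iff.1 (hAB D hD hDL ha) x hx.1).symm
  intro g z hz hzp
  have hzB : z ∈ B := Subgroup.subset_normalClosure ⟨hz, hzp⟩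
  set R := T ⊓ C with hR
  have hFr : Subgroup.normalizer (R : Set G) ⊔ C = ⊤ := by
    let T₀ : Sylow p C := ((S.isPGroup'.to_le (inf_le_left : R ≤ T)).of_equiv
      (Subgroup.subgroupOfEquivOfLe (inf_le_right : R ≤ C)).symm).toSylow
        (not_dvd_relIndex_inf_of_normal S C)
    have hT₀ : (T₀ : Subgroup C).map C.subtype = R :=
      Subgroup.map_subgroupOf_eq_of_le (inf_le_right : R ≤ C)
    have hF := Sylow.normalizer_sup_eq_top T₀
    rwa [hT₀] at hF
  obtain ⟨n, hn, c, hc', rfl⟩ := Subgroup.mem_sup_of_normal_right.1 (hFr.ge (Subgroup.mem_top g))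
  have hnJ : n ∈ Subgroup.normalizer (J : Set G) := by
    refine conjBy_eq_iff.1 (conjBy_eq_of_le ?_)
    rw [hJ, thompsonSubgroupOf_eq, conjBy, Subgroup.map_le_iff_le_comap]
    refine sSup_le fun A hA => ?_
    rw [← Subgroup.map_le_iff_le_comap]
    have hAR : A ≤ R := le_inf hA.1 ((le_thompsonSubgroupOf hA).trans hJC)
    have hnA : conjBy n A ≤ R := conjBy_le_iff.2 fun a ha =>
      (Subgroup.mem_normalizer_iff.1 hn a).1 (hAR ha)
    exact le_sSup (hmaxconj n A hA (hnA.trans inf_le_left))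
  rw [show n * c * z * (n * c)⁻¹ = n * (c * z * c⁻¹) * n⁻¹ by group,
    mem_centralizer_iff'.1 hc' z hzB]
  exact (Subgroup.mem_normalizer_iff.1 (hNZ hnJ) z).1 hz

end CfsgLib.Fusion
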