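import Cfsg.Agent.Lib.Fusion.Transfer

/-!
# Central transfer, norm maps, abelian Sylow subgroups
-/

set_option autoImplicit false

open Subgroup
open scoped commutatorElement IsMulCommutative

namespace CfsgLib.Fusion

variable {G : Type*} [Group G]

/-- A central element of the commutator subgroup lying in an abelian subgroup `A` has order
dividing the index of `A`. -/
theorem pow_index_eq_one_of_central [Finite G] (A : Subgroup G) [IsMulCommutative A] {x : G}
    (hxc : x ∈ Subgroup.center G) (hx : x ∈ commutator G) (hxA : x ∈ A) : x ^ A.index = 1 := by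
  have h1 : MonoidHom.transfer (MonoidHom.id A) x = 1 := by
    have hle : commutator G ≤ (MonoidHom.transfer (MonoidHom.id A)).ker :=
      Abelianization.commutator_subset_ker _
    exact hle hx
  rw [MonoidHom.transfer_eq_pow _ _ fun k g₀ _ => by
    rw [mul_assoc, ← (Subgroup.mem_center_iff.1 (pow_mem hxc k) g₀), inv_mul_cancel_left]] at h1
  exact congrArg Subtype.val h1

theorem central_inf_commutator_eq_one [Finite G] (A : Subgroup G) [IsMulCommutative A]
    (hA : Nat.Coprime (Nat.card A) A.index) {x : G}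
    (hxc : x ∈ Subgroup.center G) (hx : x ∈ commutator G) (hxA : x ∈ A) : x = 1 := by
  have h1 := orderOf_dvd_of_pow_eq_one (pow_index_eq_one_of_central A hxc hx hxA)
  exact orderOf_eq_one_iff.1
    (Nat.eq_one_of_dvd_coprimes hA (Subgroup.orderOf_dvd_natCard _ hxA) h1)

/-- For an abelian normal Hall subgroup `A`: `A = ⁅A, G⁆ ⊔ (Z(G) ⊓ A)`. -/
theorem le_commutator_sup_center [Finite G] (A : Subgroup G) [A.Normal] [IsMulCommutative A]
    (hA : Nat.Coprime (Nat.card A) A.index) :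
    A ≤ ⁅A, (⊤ : Subgroup G)⁆ ⊔ (Subgroup.center G ⊓ A) := by
  classical
  letI : Fintype (G ⧸ A) := A.fintypeQuotientOfFiniteIndex
  intro a ha
  let F : G ⧸ A → A := fun q => ⟨q.out * a * q.out⁻¹, Subgroup.Normal.conj_mem ‹_› a ha _⟩
  let z : A := ∏ q, F q
  have hz : (z : G) ∈ Subgroup.center G := by
    rw [Subgroup.mem_center_iff]
    intro g
    let c : A →* A :=
      { toFun := fun b => ⟨g * b * g⁻¹, Subgroup.Normal.conj_mem ‹_› _ b.2 g⟩
        map_one' := Subtype.ext (by simp)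
        map_mul' := fun b b' => Subtype.ext (by simp [mul_assoc]) }
    have hc : c z = z := by
      rw [map_prod]
      refine Fintype.prod_equiv (MulAction.toPerm g) _ _ fun q => ?_
      have hmem : (g • q).out⁻¹ * (g * q.out) ∈ A := by
        rw [← QuotientGroup.eq, QuotientGroup.out_eq']
        conv_lhs => rw [← QuotientGroup.out_eq' q]
        rfl
      have hcomm : ((g • q).out⁻¹ * (g * q.out)) * a = a * ((g • q).out⁻¹ * (g * q.out)) :=
        congrArg Subtype.val (mul_comm (⟨_, hmem⟩ : A) ⟨a, ha⟩)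
      refine Subtype.ext ?_
      show g * (q.out * a * q.out⁻¹) * g⁻¹ = (g • q).out * a * (g • q).out⁻¹
      calc g * (q.out * a * q.out⁻¹) * g⁻¹
          = (g • q).out * (((g • q).out⁻¹ * (g * q.out)) * a) * (g * q.out)⁻¹ := by group
        _ = (g • q).out * (a * ((g • q).out⁻¹ * (g * q.out))) * (g * q.out)⁻¹ := by rw [hcomm]
        _ = (g • q).out * a * (g • q).out⁻¹ := by group
    have hc' : g * (z : G) * g⁻¹ = z := congrArg Subtype.val hc
    exact mul_inv_eq_iff_eq_mul.1 hc'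
  have hd : z * ((⟨a, ha⟩ : A) ^ A.index)⁻¹ ∈ (⁅A, (⊤ : Subgroup G)⁆).subgroupOf A := by
    rw [Subgroup.index_eq_card, Nat.card_eq_fintype_card, ← Finset.card_univ, ← Finset.prod_const,
      ← Finset.prod_inv_distrib, ← Finset.prod_mul_distrib]
    refine prod_mem fun q _ => ?_
    show q.out * a * q.out⁻¹ * a⁻¹ ∈ ⁅A, (⊤ : Subgroup G)⁆
    rw [← commutatorElement_def, Subgroup.commutator_comm]
    exact Subgroup.commutator_mem_commutator (Subgroup.mem_top _) ha
  have hpow : a ^ A.index ∈ ⁅A, (⊤ : Subgroup G)⁆ ⊔ (Subgroup.center G ⊓ A) := by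
    have hd' : (z : G) * (a ^ A.index)⁻¹ ∈ ⁅A, (⊤ : Subgroup G)⁆ := hd
    rw [show a ^ A.index = ((z : G) * (a ^ A.index)⁻¹)⁻¹ * z by group]
    exact Subgroup.mul_mem_sup (inv_mem hd') ⟨hz, z.2⟩
  obtain ⟨m, hm⟩ := exists_pow_eq_self_of_coprime
    (Nat.Coprime.coprime_dvd_left (Subgroup.orderOf_dvd_natCard _ ha) hA).symm
  rw [← hm]
  exact pow_mem hpow m

theorem commutator_top_eq_inf_commutator [Finite G] (A : Subgroup G) [A.Normal]
    [IsMulCommutative A] (hA : Nat.Coprime (Nat.card A) A.index) :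
    ⁅A, (⊤ : Subgroup G)⁆ = commutator G ⊓ A := by
  refine le_antisymm (le_inf (Subgroup.commutator_mono le_top le_rfl)
    (Subgroup.commutator_le_left _ _)) ?_
  have hdvd : Nat.card (A ⧸ A.focalSubgroupOf) ∣ Nat.card A :=
    Subgroup.card_quotient_dvd_card _
  rw [commutator_inf_eq_focal (Nat.Coprime.coprime_dvd_left hdvd hA)]
  exact focalSubgroup_le_of_control fun x _ g _ => ⟨g, Subgroup.mem_top g, rfl⟩

/-- An element of prime power order `q^k` normalizing a `p`-group `Q` centralizes it unless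
`q` divides some `p ^ i - 1`, `0 < i ≤ log |Q|`. -/
theorem mem_centralizer_of_prime_pow [Finite G] {p q : ℕ} [Fact p.Prime] [Fact q.Prime]
    {Q : Subgroup G} {a : ℕ} (hQ : Nat.card Q = p ^ a) {n : G}
    (hn : n ∈ Subgroup.normalizer (Q : Set G)) (hnq : ∃ k, n ^ q ^ k = 1) (hqp : q ≠ p)
    (h : ∀ i, 1 ≤ i → i ≤ a → ¬ q ∣ p ^ i - 1) : n ∈ Subgroup.centralizer (Q : Set G) := by
  obtain ⟨k, hk⟩ := hnq
  obtain ⟨j, -, hj⟩ := (Nat.dvd_prime_pow Fact.out).1 (orderOf_dvd_of_pow_eq_one hk)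
  have hZ : IsPGroup q (Subgroup.zpowers n) := IsPGroup.of_card ((Nat.card_zpowers n).trans hj)
  letI : MulAction (Subgroup.zpowers n) Q :=
    { smul := fun m x => ⟨(m : G) * x * (m : G)⁻¹,
        (Subgroup.mem_normalizer_iff.1 (Subgroup.zpowers_le.2 hn m.2) x).1 x.2⟩
      one_smul := fun x => Subtype.ext (by show (1 : G) * (x : G) * (1 : G)⁻¹ = x; group)
      mul_smul := fun m m' x => Subtype.ext (by
        show (m : G) * m' * x * ((m : G) * m')⁻¹ = m * (m' * x * (m' : G)⁻¹) * (m : G)⁻¹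
        group) }
  have hmod := hZ.card_modEq_card_fixedPoints Q
  let F : Subgroup Q := (Subgroup.centralizer ({n} : Set G)).subgroupOf Q
  have hF : (MulAction.fixedPoints (Subgroup.zpowers n) Q) = (F : Set Q) := by
    ext x
    rw [MulAction.mem_fixedPoints, SetLike.mem_coe, Subgroup.mem_subgroupOf,
      Subgroup.mem_centralizer_iff]
    constructor
    · intro hx w hw
      rw [Set.mem_singleton_iff.1 hw]
      exact mul_inv_eq_iff_eq_mul.1 (congrArg Subtype.val (hx ⟨n, Subgroup.mem_zpowers n⟩))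
    · rintro hx ⟨m, hm⟩
      obtain ⟨i, rfl⟩ := Subgroup.mem_zpowers_iff.1 hm
      refine Subtype.ext ?_
      show n ^ i * x * (n ^ i)⁻¹ = x
      rw [mul_inv_eq_iff_eq_mul]
      exact (Commute.zpow_left (hx n rfl) i)
  rw [hF, SetLike.coe_sort_coe, hQ] at hmod
  obtain ⟨b, hb, hb'⟩ := (Nat.dvd_prime_pow Fact.out).1 (hQ ▸ Subgroup.card_subgroup_dvd_card F)
  rcases eq_or_lt_of_le hb with rfl | hlt
  · have htop : F = ⊤ := Subgroup.eq_top_of_card_eq F (hb'.trans hQ.symm)
    refine Subgroup.mem_centralizer_iff.2 fun x hx => ?_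
    have hx' : (⟨x, hx⟩ : Q) ∈ F := htop ▸ Subgroup.mem_top _
    exact (Subgroup.mem_centralizer_iff.1 hx' n rfl).symm
  · exfalso
    rw [hb'] at hmod
    have h1 : q ∣ p ^ b * (p ^ (a - b) - 1) := by
      rw [Nat.mul_sub, mul_one, ← pow_add, Nat.add_sub_cancel' hb]
      exact (Nat.modEq_iff_dvd' (Nat.pow_le_pow_right (Fact.out : p.Prime).pos hb)).1 hmod.symm
    rcases (Fact.out : q.Prime).dvd_mul.1 h1 with h2 | h2
    · exact hqp ((Nat.prime_dvd_prime_iff_eq Fact.out Fact.out).1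
        ((Fact.out : q.Prime).dvd_of_dvd_pow h2))
    · exact h (a - b) (by omega) (by omega) h2

/-- Abelian Sylow with no possible automorphism of order prime to `p` inside `G`. -/
theorem hasNormalPComplement_of_abelian_of_not_dvd [Finite G] {p : ℕ} [Fact p.Prime]
    (P : Sylow p G) (hP : IsMulCommutative (P : Subgroup G)) {a : ℕ}
    (ha : Nat.card (P : Subgroup G) = p ^ a)
    (h : ∀ q : ℕ, q.Prime → q ≠ p → q ∣ Nat.card G → ∀ i, 1 ≤ i → i ≤ a → ¬ q ∣ p ^ i - 1) :
    Cfsg.HasNormalPComplement p G := by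
  refine hasNormalPComplement_of_normalizer_le_centralizer P
    (le_of_forall_prime_pow fun q hq x hx hk => ?_)
  haveI := Fact.mk hq
  by_cases hx1 : x = 1
  · subst hx1; exact one_mem _
  rcases eq_or_ne q p with rfl | hqp
  · obtain ⟨k, hk⟩ := hk
    obtain ⟨j, -, hj⟩ := (Nat.dvd_prime_pow Fact.out).1 (orderOf_dvd_of_pow_eq_one hk)
    have hz : IsPGroup q (Subgroup.zpowers x) := IsPGroup.of_card ((Nat.card_zpowers x).trans hj)
    obtain ⟨c, hc, hc2⟩ := exists_conj_le_of_not_dvd_relIndex P.2 Subgroup.le_normalizer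
      (fun hd => P.not_dvd_index (hd.trans
        (Subgroup.relIndex_dvd_index_of_le Subgroup.le_normalizer))) hz (Subgroup.zpowers_le.2 hx)
    have hxP : x ∈ (P : Subgroup G) := (Subgroup.mem_normalizer_iff.1 hc x).2
      (conjBy_le_iff.1 hc2 x (Subgroup.mem_zpowers x))
    exact Subgroup.mem_centralizer_iff.2 fun v hv =>
      congrArg Subtype.val (hP.is_comm.comm (⟨v, hv⟩ : (P : Subgroup G)) ⟨x, hxP⟩)
  · refine mem_centralizer_of_prime_pow ha hx hk hqp (h q hq hqp ?_)
    obtain ⟨k, hk⟩ := hk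
    obtain ⟨j, -, hj⟩ := (Nat.dvd_prime_pow hq).1 (orderOf_dvd_of_pow_eq_one hk)
    have hj0 : j ≠ 0 := fun h0 => hx1 (orderOf_eq_one_iff.1 (by rw [hj, h0, pow_zero]))
    exact (dvd_pow_self q hj0).trans (hj ▸ orderOf_dvd_natCard x)

end CfsgLib.Fusion
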