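import Mathlib.Algebra.CharP.Lemmas
import Mathlib.Algebra.CharP.Invertible
import Mathlib.FieldTheory.Finite.Basic
import Mathlib.GroupTheory.OrderOfElement
import Mathlib.GroupTheory.Subgroup.Centralizer
import Mathlib.Tactic.NoncommRing
import Mathlib.Tactic.Abel

/-!
# A quadratic element normalizing an abelian `p'`-group centralizes it (`p` odd)
-/

set_option autoImplicit false

namespace CfsgLib.Fusion

section ring

variable {R : Type*} [Ring R] {p m : ℕ} [CharP R p] [Fact p.Prime]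

theorem eq_zero_of_frobenius_fixed {N : R} (k : ℕ) (hk : 1 ≤ k) (hfix : N ^ p ^ k = N)
    (hN : N ^ 2 = 0) : N = 0 := by
  rw [← hfix]
  refine pow_eq_zero_of_le ?_ hN
  calc 2 ≤ p := (Fact.out : p.Prime).two_le
    _ ≤ p ^ k := Nat.le_self_pow (by omega) p

theorem pow_prime_pow_eq_self {X : R} {k : ℕ} (hk : p ^ k ≡ 1 [MOD m]) (hX : X ^ m = 1) :
    X ^ p ^ k = X := by
  have h1 : 1 ≤ p ^ k := Nat.one_le_pow _ _ (Fact.out : p.Prime).pos
  obtain ⟨j, hj⟩ := (Nat.modEq_iff_dvd' h1).1 hk.symm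
  rw [show p ^ k = 1 + m * j by omega, pow_add, pow_one, pow_mul, hX, one_pow, mul_one]

theorem second_difference_eq_zero {A X Y Z : R} (hA : (A - 1) ^ 2 = 0) (h1 : A * X = Y * A)
    (h2 : A * Y = Z * A) (hXY : Commute X Y) (hXZ : Commute X Z) (hYZ : Commute Y Z)
    {k : ℕ} (hk : 1 ≤ k) (hX : X ^ p ^ k = X) (hY : Y ^ p ^ k = Y) (hZ : Z ^ p ^ k = Z) :
    X - 2 * Y + Z = 0 := by
  have hA2 : A * A = 2 * A - 1 := by
    rw [← sub_eq_zero, ← hA]
    noncomm_ring
  have e1 : (2 * A - 1) * X = Z * (2 * A - 1) := by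
    rw [← hA2, mul_assoc, h1, ← mul_assoc, h2, mul_assoc]
  set N := 2 * (Y - Z) * (A - 1) with hNdef
  have hN : N = X - 2 * Y + Z := by
    have e2 : 2 * (A * X) - X = 2 * (Z * A) - Z := by
      rw [sub_mul, one_mul, mul_assoc] at e1
      rw [e1]
      noncomm_ring
    rw [h1] at e2
    rw [hNdef]
    calc 2 * (Y - Z) * (A - 1) = (2 * (Y * A) - X) - (2 * (Z * A) - Z) + (X - 2 * Y + Z) := by
          noncomm_ring
      _ = X - 2 * Y + Z := by rw [e2, sub_self, zero_add]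
  have hc2 : ∀ W : R, Commute (2 : R) W := fun W => Nat.cast_commute 2 W
  have hcomm : Commute N (2 * (Y - Z)) := by
    rw [hN]
    refine Commute.mul_right (hc2 _).symm (Commute.sub_right ?_ ?_)
    · exact ((hXY.sub_left ((hc2 Y).mul_left (Commute.refl Y))).add_left hYZ.symm)
    · exact ((hXZ.sub_left ((hc2 Z).mul_left hYZ)).add_left (Commute.refl Z))
  have hN2 : N ^ 2 = 0 := by
    calc N ^ 2 = N * (2 * (Y - Z)) * (A - 1) := by rw [sq, mul_assoc N (2 * (Y - Z)), ← hNdef]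
      _ = 2 * (Y - Z) * N * (A - 1) := by rw [hcomm.eq]
      _ = 2 * (Y - Z) * (2 * (Y - Z)) * (A - 1) ^ 2 := by
          simp only [hNdef, sq, mul_assoc]
      _ = 0 := by rw [hA, mul_zero]
  rw [← hN]
  refine eq_zero_of_frobenius_fixed k hk ?_ hN2
  rw [hN]
  have c1 : Commute X (2 * Y) := (hc2 X).symm.mul_right hXY
  have c2 : Commute (X - 2 * Y) Z := hXZ.sub_left ((hc2 Z).mul_left hYZ)
  rw [add_pow_char_pow_of_commute _ _ c2, sub_pow_char_pow_of_commute _ _ c1, (hc2 Y).mul_pow, hX, hY,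
    hZ]
  congr 3
  rw [show (2 : R) = 1 + 1 by norm_num, add_pow_char_pow_of_commute _ _ (Commute.one_left (1 : R)),
    one_pow]

theorem eq_of_quadratic_ring {A X Y Z : R} (hp : p ≠ 2) (hA : (A - 1) ^ 2 = 0)
    (h1 : A * X = Y * A) (h2 : A * Y = Z * A) (hXY : Commute X Y) (hXZ : Commute X Z)
    (hYZ : Commute Y Z) (hm : ¬ p ∣ m) (hX : X ^ m = 1) (hY : Y ^ m = 1) (hZ : Z ^ m = 1) :
    X = Y := by
  have hm0 : 0 < m := Nat.pos_of_ne_zero fun h => hm (h ▸ dvd_zero p)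
  set k := Nat.totient m with hk
  have hk1 : 1 ≤ k := Nat.totient_pos.2 hm0
  have hmod : p ^ k ≡ 1 [MOD m] :=
    Nat.ModEq.pow_totient ((Fact.out : p.Prime).coprime_iff_not_dvd.2 hm)
  have fX := pow_prime_pow_eq_self hmod hX
  have fY := pow_prime_pow_eq_self hmod hY
  have fZ := pow_prime_pow_eq_self hmod hZ
  have l1 := second_difference_eq_zero hA h1 h2 hXY hXZ hYZ hk1 fX fY fZ
  have sq_fix : ∀ W : R, W ^ p ^ k = W → (W * W) ^ p ^ k = W * W := fun W h => by
    rw [(Commute.refl W).mul_pow, h]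
  have l2 := second_difference_eq_zero hA
    (show A * (X * X) = Y * Y * A by rw [← mul_assoc, h1, mul_assoc, h1, ← mul_assoc])
    (show A * (Y * Y) = Z * Z * A by rw [← mul_assoc, h2, mul_assoc, h2, ← mul_assoc])
    ((hXY.mul_right hXY).mul_left (hXY.mul_right hXY))
    ((hXZ.mul_right hXZ).mul_left (hXZ.mul_right hXZ))
    ((hYZ.mul_right hYZ).mul_left (hYZ.mul_right hYZ)) hk1 (sq_fix X fX) (sq_fix Y fY) (sq_fix Z fZ)
  have hZe : Z = 2 * Y - X := by
    rw [← sub_eq_zero, ← l1]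
    noncomm_ring
  have hc2 : ∀ W : R, Commute (2 : R) W := fun W => Nat.cast_commute 2 W
  have h3 : (2 : R) * ((X - Y) * (X - Y)) = 0 := by
    rw [← l2, hZe]
    simp only [two_mul, sub_mul, mul_sub, add_mul, mul_add]
    rw [hXY.eq]
    abel
  have h4 : (X - Y) ^ 2 = 0 := by
    have hu : IsUnit ((2 : ℕ) : R) :=
      (CharP.isUnit_natCast_iff (R := R) (p := p) Fact.out).2 fun hd =>
        hp ((Nat.prime_dvd_prime_iff_eq Fact.out Nat.prime_two).1 hd)
    rw [sq]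
    exact hu.mul_right_eq_zero.1 (by simpa using h3)
  rw [← sub_eq_zero]
  refine eq_zero_of_frobenius_fixed k hk1 ?_ h4
  rw [sub_pow_char_pow_of_commute _ _ hXY, fX, fY]

end ring

section group

variable {G : Type*} [Group G] (V : Subgroup G)

/-- Conjugation as an additive endomorphism of `V`. -/
noncomputable def conjEnd : Subgroup.normalizer (V : Set G) →* AddMonoid.End (Additive V) where
  toFun n := MonoidHom.toAdditive (V.normalizerMonoidHom n).toMonoidHom
  map_one' := by rw [map_one]; rfl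
  map_mul' a b := by rw [map_mul]; rfl

theorem conjEnd_eq_iff (a b : Subgroup.normalizer (V : Set G)) :
    conjEnd V a = conjEnd V b ↔ ∀ v ∈ V, (a : G) * v * (a : G)⁻¹ = b * v * (b : G)⁻¹ := by
  constructor
  · intro h v hv
    exact congrArg (fun f : AddMonoid.End (Additive V) =>
      ((Additive.toMul (f (Additive.ofMul (⟨v, hv⟩ : V))) : V) : G)) h
  · intro h
    refine AddMonoidHom.ext fun v => ?_
    apply Additive.toMul.injective
    exact Subtype.ext (h _ (Additive.toMul v).2)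

/-- An element acting quadratically on an elementary abelian `p`-subgroup (`p` odd) commutes,
modulo the centralizer, with an element of order prime to `p` whose images commute. -/
theorem conj_eq_of_quadratic {p : ℕ} [Fact p.Prime] (hp : p ≠ 2) [IsMulCommutative V]
    (hV : ∀ v ∈ V, v ^ p = 1) {a x : G} (ha : a ∈ Subgroup.normalizer (V : Set G))
    (hx : x ∈ Subgroup.normalizer (V : Set G))
    (hquad : ∀ v ∈ V, a * (a * v * a⁻¹ * v⁻¹) * a⁻¹ = a * v * a⁻¹ * v⁻¹)
    {m : ℕ} (hm : ¬ p ∣ m) (hxm : x ^ m ∈ Subgroup.centralizer (V : Set G))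
    (hcomm : ∀ i j : ℕ, i ≤ 2 → j ≤ 2 →
      ((a ^ i * x * (a ^ i)⁻¹) * (a ^ j * x * (a ^ j)⁻¹)) *
        ((a ^ j * x * (a ^ j)⁻¹) * (a ^ i * x * (a ^ i)⁻¹))⁻¹ ∈ Subgroup.centralizer (V : Set G)) :
    ∀ v ∈ V, x * v * x⁻¹ = (a * x * a⁻¹) * v * (a * x * a⁻¹)⁻¹ := by
  letI : CommGroup V := { mul_comm := ‹IsMulCommutative V›.is_comm.comm }
  rcases subsingleton_or_nontrivial V with hs | hnt
  · intro v hv
    have hv1 : v = 1 := congrArg Subtype.val (Subsingleton.elim (⟨v, hv⟩ : V) 1)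
    simp [hv1]
  haveI : Nontrivial (AddMonoid.End (Additive V)) := by
    obtain ⟨u, hu⟩ := exists_ne (1 : V)
    refine ⟨⟨1, 0, fun h => hu ?_⟩⟩
    exact congrArg (fun f : AddMonoid.End (Additive V) => Additive.toMul (f (Additive.ofMul u))) h
  haveI : CharP (AddMonoid.End (Additive V)) p := by
    refine (CharP.charP_iff_prime_eq_zero Fact.out).2 (AddMonoidHom.ext fun v => ?_)
    show p • v = 0
    apply Additive.toMul.injective
    exact Subtype.ext (hV _ (Additive.toMul v).2)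
  set N := Subgroup.normalizer (V : Set G)
  set A := conjEnd V ⟨a, ha⟩ with hAdef
  have mem : ∀ i : ℕ, a ^ i * x * (a ^ i)⁻¹ ∈ N := fun i =>
    mul_mem (mul_mem (pow_mem ha i) hx) (inv_mem (pow_mem ha i))
  let X : ℕ → AddMonoid.End (Additive V) := fun i => conjEnd V ⟨_, mem i⟩
  have hXc : ∀ i j, i ≤ 2 → j ≤ 2 → Commute (X i) (X j) := by
    intro i j hi hj
    rw [Commute, SemiconjBy, ← map_mul, ← map_mul, conjEnd_eq_iff]
    intro v hv
    show ((a ^ i * x * (a ^ i)⁻¹) * (a ^ j * x * (a ^ j)⁻¹)) * v * _ =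
      ((a ^ j * x * (a ^ j)⁻¹) * (a ^ i * x * (a ^ i)⁻¹)) * v * _
    set s := (a ^ j * x * (a ^ j)⁻¹) * (a ^ i * x * (a ^ i)⁻¹) with hs
    set t := (a ^ i * x * (a ^ i)⁻¹) * (a ^ j * x * (a ^ j)⁻¹) with ht
    have hsN : s ∈ N := mul_mem (mem j) (mem i)
    have hv' : s * v * s⁻¹ ∈ V := (Subgroup.mem_normalizer_iff.1 hsN v).1 hv
    have h := Subgroup.mem_centralizer_iff.1 (hcomm i j hi hj) _ hv'
    calc t * v * t⁻¹ = (t * s⁻¹) * (s * v * s⁻¹) * (t * s⁻¹)⁻¹ := by group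
      _ = s * v * s⁻¹ := by rw [← h, mul_inv_cancel_right]
  have hAX : ∀ i, A * X i = X (i + 1) * A := by
    intro i
    rw [← map_mul, ← map_mul]
    refine congrArg (conjEnd V) (Subtype.ext ?_)
    show a * (a ^ i * x * (a ^ i)⁻¹) = a ^ (i + 1) * x * (a ^ (i + 1))⁻¹ * a
    rw [pow_succ']
    group
  have hAq : (A - 1) ^ 2 = 0 := by
    refine AddMonoidHom.ext fun v => ?_
    rw [sq]
    show A (A v - v) - (A v - v) = 0
    rw [sub_eq_zero]
    apply Additive.toMul.injective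
    refine Subtype.ext ?_
    have e : ∀ u : Additive V, ((Additive.toMul (A u) : V) : G) =
        a * ((Additive.toMul u : V) : G) * a⁻¹ := fun u => rfl
    rw [e, toMul_sub, Subgroup.coe_div, e, div_eq_mul_inv]
    exact hquad _ (Additive.toMul v).2
  have hpow : ∀ i, X i ^ m = 1 := by
    intro i
    rw [← map_pow, ← map_one (conjEnd V), conjEnd_eq_iff]
    intro v hv
    show (a ^ i * x * (a ^ i)⁻¹) ^ m * v * ((a ^ i * x * (a ^ i)⁻¹) ^ m)⁻¹ = 1 * v * 1⁻¹
    rw [conj_pow, one_mul, inv_one, mul_one]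
    have hw : (a ^ i)⁻¹ * v * a ^ i ∈ V :=
      (Subgroup.mem_normalizer_iff''.1 (pow_mem ha i) v).1 hv
    have h := Subgroup.mem_centralizer_iff.1 hxm _ hw
    calc a ^ i * x ^ m * (a ^ i)⁻¹ * v * (a ^ i * x ^ m * (a ^ i)⁻¹)⁻¹
        = a ^ i * (x ^ m * ((a ^ i)⁻¹ * v * a ^ i) * (x ^ m)⁻¹) * (a ^ i)⁻¹ := by group
      _ = v := by rw [← h]; group
  have hXY : X 0 = X 1 := eq_of_quadratic_ring hp hAq (hAX 0) (hAX 1) (hXc 0 1 (by omega) (by omega))
    (hXc 0 2 (by omega) (by omega)) (hXc 1 2 (by omega) (by omega)) hm (hpow 0) (hpow 1) (hpow 2)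
  intro v hv
  have h := (conjEnd_eq_iff V _ _).1 hXY v hv
  simpa using h

end group

end CfsgLib.Fusion
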