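import Cfsg.Agent.Lib.Fusion.Offender
import Cfsg.Agent.Lib.Fusion.Quadratic
import Cfsg.Agent.Lib.Fusion.PComplement
import Cfsg.Prelude.Def_LocalEven
import Mathlib.GroupTheory.GroupAction.Quotient

/-!
# No offenders for odd `p`, or when `S₄` is not involved
-/

set_option autoImplicit false
set_option linter.style.haveILetI false

open Subgroup

namespace CfsgLib.Fusion

variable {G : Type*} [Group G] [Finite G]

theorem card_perm_fin_four : Nat.card (Equiv.Perm (Fin 4)) = 24 := by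
  rw [Nat.card_eq_fintype_card, Fintype.card_perm, Fintype.card_fin]
  decide

/-- A four-group with two elements inducing noncommuting involutions gives a section `S₄`. -/
theorem involves_perm_four (U : Subgroup G) (a b : G) (hU : Nat.card U = 4)
    (ha : a ∈ Subgroup.normalizer (U : Set G)) (hb : b ∈ Subgroup.normalizer (U : Set G))
    (hUc : ∀ u ∈ U, ∀ v ∈ U, u * v = v * u)
    (ha2 : ∀ u ∈ U, a * a * u * (a * a)⁻¹ = u) (hb2 : ∀ u ∈ U, b * b * u * (b * b)⁻¹ = u)
    (h3 : ∀ u ∈ U, (a * b) ^ 3 * u * ((a * b) ^ 3)⁻¹ = u)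
    (hfree : ∀ u ∈ U, (a * b) * u * (a * b)⁻¹ = u → u = 1)
    (hane : ∃ u ∈ U, a * u * a⁻¹ ≠ u) :
    Cfsg.Involves (Equiv.Perm (Fin 4)) G := by
  classical
  haveI := Fact.mk (Nat.prime_three)
  set H := U ⊔ Subgroup.closure {a, b} with hH
  have hHN : H ≤ Subgroup.normalizer (U : Set G) := by
    refine sup_le Subgroup.le_normalizer ((Subgroup.closure_le _).2 ?_)
    rintro x (rfl | rfl)
    · exact ha
    · exact hb
  let ρ : H →* MulAut U := U.normalizerMonoidHom.comp (Subgroup.inclusion hHN)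
  have hρ : ∀ (h : H) (u : U), ((ρ h u : U) : G) = h * u * (h : G)⁻¹ := fun _ _ => rfl
  have haH : a ∈ H := Subgroup.mem_sup_right (Subgroup.subset_closure (Or.inl rfl))
  have hbH : b ∈ H := Subgroup.mem_sup_right (Subgroup.subset_closure (Or.inr rfl))
  set α := ρ ⟨a, haH⟩ with hα
  set β := ρ ⟨b, hbH⟩ with hβ
  set A3 := Subgroup.zpowers (α * β) with hA3
  have hα2 : α * α = 1 := MulEquiv.ext fun u => Subtype.ext (by
    rw [hα, ← map_mul, hρ, MulAut.one_apply]
    exact ha2 u u.2)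
  have hβ2 : β * β = 1 := MulEquiv.ext fun u => Subtype.ext (by
    rw [hβ, ← map_mul, hρ, MulAut.one_apply]
    exact hb2 u u.2)
  have hαβ3 : (α * β) ^ 3 = 1 := MulEquiv.ext fun u => Subtype.ext (by
    rw [hα, hβ, ← map_mul, ← map_pow, hρ, MulAut.one_apply]
    exact h3 u u.2)
  have hU1 : U ≠ ⊥ := fun h => by
    rw [h, Subgroup.card_bot] at hU
    exact absurd hU (by norm_num)
  have hαβ1 : α * β ≠ 1 := by
    intro h
    haveI : Nontrivial U := (Subgroup.nontrivial_iff_ne_bot U).2 hU1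
    obtain ⟨u, hu⟩ := exists_ne (1 : U)
    refine hu (Subtype.ext (hfree u u.2 ?_))
    have h2 := congrArg (fun e : MulAut U => ((e u : U) : G)) h
    simp only [MulAut.one_apply] at h2
    rwa [hα, hβ, ← map_mul, hρ] at h2
  have hord : orderOf (α * β) = 3 := orderOf_eq_prime hαβ3 hαβ1
  have hinvA : ∀ c : MulAut U, c * (α * β) * c⁻¹ = (α * β)⁻¹ →
      c ∈ Subgroup.normalizer (A3 : Set (MulAut U)) := by
    intro c hc
    refine conjBy_eq_iff.1 (conjBy_eq_of_le (conjBy_le_iff.2 fun x hx => ?_))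
    obtain ⟨z, rfl⟩ := Subgroup.mem_zpowers_iff.1 hx
    rw [← conj_zpow, hc, inv_zpow]
    exact inv_mem (zpow_mem (Subgroup.mem_zpowers _) z)
  have hαi : α⁻¹ = α := inv_eq_of_mul_eq_one_right hα2
  have hβi : β⁻¹ = β := inv_eq_of_mul_eq_one_right hβ2
  have hrangeN : ρ.range ≤ Subgroup.normalizer (A3 : Set (MulAut U)) := by
    rintro _ ⟨⟨h, hh⟩, rfl⟩
    obtain ⟨u, hu, w, hw, rfl⟩ := exists_mul_of_mem_sup_of_normalizer
      ((le_sup_right : Subgroup.closure {a, b} ≤ H).trans hHN) hh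
    have huH : u ∈ H := Subgroup.mem_sup_left hu
    have hwH : w ∈ H := Subgroup.mem_sup_right hw
    rw [show (⟨u * w, hh⟩ : H) = ⟨u, huH⟩ * ⟨w, hwH⟩ from rfl, map_mul,
      show ρ ⟨u, huH⟩ = 1 from MulEquiv.ext fun v => Subtype.ext (by
        rw [hρ, MulAut.one_apply]
        show u * v * u⁻¹ = v
        rw [hUc u hu v v.2, mul_inv_cancel_right]), one_mul]
    clear huH hu hh u
    induction hw using Subgroup.closure_induction with
    | mem z hz =>
      rcases hz with rfl | rfl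
      · refine hinvA α ?_
        rw [mul_inv_rev, hαi, hβi, ← mul_assoc, hα2, one_mul]
      · refine hinvA β ?_
        rw [mul_inv_rev, hαi, hβi, mul_assoc β (α * β), mul_assoc α β, hβ2, mul_one]
    | one => rw [show (⟨1, hwH⟩ : H) = 1 from rfl, map_one]; exact one_mem _
    | mul y z hy hz ey ez =>
      have hyH : y ∈ H := Subgroup.mem_sup_right hy
      have hzH : z ∈ H := Subgroup.mem_sup_right hz
      rw [show (⟨y * z, hwH⟩ : H) = ⟨y, hyH⟩ * ⟨z, hzH⟩ from rfl, map_mul]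
      exact mul_mem (ey hyH) (ez hzH)
    | inv y hy ey =>
      have hyH : y ∈ H := Subgroup.mem_sup_right hy
      rw [show (⟨y⁻¹, hwH⟩ : H) = (⟨y, hyH⟩ : H)⁻¹ from rfl, map_inv]
      exact inv_mem (ey hyH)
  set M : Subgroup H := A3.comap ρ with hM
  haveI hMn : M.Normal := ⟨fun x hx h => by
    show ρ (h * x * h⁻¹) ∈ A3
    rw [map_mul, map_mul, map_inv]
    exact (Subgroup.mem_normalizer_iff.1 (hrangeN ⟨h, rfl⟩) _).1 hx⟩
  let P₃ : Sylow 3 M := default
  set N' : Subgroup H := Subgroup.normalizer ((P₃ : Subgroup M).map M.subtype : Set H) with hN'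
  have hsup : N' ⊔ M = ⊤ := Sylow.normalizer_sup_eq_top P₃
  -- `P₃` maps onto `A3`
  have hA3r : A3 ≤ ρ.range := Subgroup.zpowers_le.2 ⟨⟨a, haH⟩ * ⟨b, hbH⟩, map_mul _ _ _⟩
  have hP₃ : ∀ c ∈ A3, ∃ π ∈ (P₃ : Subgroup M).map M.subtype, ρ π = c := by
    intro c hc
    let ρM : M →* A3 := (ρ.comp M.subtype).codRestrict A3 fun m => m.2
    have hsurj : Function.Surjective ρM := fun ⟨d, hd⟩ => by
      obtain ⟨h, rfl⟩ := hA3r hd
      exact ⟨⟨h, hd⟩, rfl⟩
    have htop : (P₃.mapSurjective hsurj : Subgroup A3) = ⊤ := by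
      refine ((P₃.mapSurjective hsurj).is_maximal' ?_ le_top).symm
      refine (IsPGroup.of_card (n := 1) ?_).to_subgroup ⊤
      rw [Nat.card_zpowers, hord, pow_one]
    obtain ⟨m, hm, hmc⟩ := (htop.ge (Subgroup.mem_top (⟨c, hc⟩ : A3)) :
      (⟨c, hc⟩ : A3) ∈ (P₃.mapSurjective hsurj : Subgroup A3))
    exact ⟨m, ⟨m, hm, rfl⟩, congrArg Subtype.val hmc⟩
  have hfull : ∀ h : H, ∃ n ∈ N', ρ n = ρ h := by
    intro h
    obtain ⟨n, hn, m, hm, rfl⟩ := Subgroup.mem_sup_of_normal_right.1 (hsup.ge (Subgroup.mem_top h))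
    obtain ⟨π, hπ, hπe⟩ := hP₃ (ρ m) hm
    exact ⟨n * π, mul_mem hn (Subgroup.le_normalizer hπ), by rw [map_mul, map_mul, hπe]⟩
  -- `U ∩ N' = 1`
  have hUN : ∀ u : H, (u : G) ∈ U → u ∈ N' → u = 1 := by
    intro u hu hn
    refine Subtype.ext (hfree u hu ?_)
    obtain ⟨π, hπ, hπe⟩ := hP₃ (α * β) (Subgroup.mem_zpowers _)
    have h1 : u * π * u⁻¹ * π⁻¹ ∈ (P₃ : Subgroup M).map M.subtype :=
      mul_mem ((Subgroup.mem_normalizer_iff.1 hn π).1 hπ) (inv_mem hπ)
    have h2 : ((u * π * u⁻¹ * π⁻¹ : H) : G) ∈ U := by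
      show (u : G) * π * (u : G)⁻¹ * (π : G)⁻¹ ∈ U
      rw [show (u : G) * π * (u : G)⁻¹ * (π : G)⁻¹ = u * (π * (u : G)⁻¹ * (π : G)⁻¹) by group]
      exact mul_mem hu ((Subgroup.mem_normalizer_iff.1 (hHN π.2) _).1 (inv_mem hu))
    have h4 : u * π * u⁻¹ * π⁻¹ = 1 := by
      obtain ⟨k, hk⟩ := (P₃.2.map M.subtype) ⟨_, h1⟩
      have hk' : (u * π * u⁻¹ * π⁻¹) ^ 3 ^ k = 1 := congrArg Subtype.val hk
      have hd1 : orderOf ((u * π * u⁻¹ * π⁻¹ : H) : G) ∣ 4 :=
        hU ▸ Subgroup.orderOf_dvd_natCard U h2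
      rw [Subgroup.orderOf_coe] at hd1
      exact orderOf_eq_one_iff.1 (Nat.eq_one_of_dvd_coprimes
        (Nat.Coprime.pow_right k (by norm_num : Nat.Coprime 4 3)) hd1
        (orderOf_dvd_of_pow_eq_one hk'))
    have h5 : ρ π ⟨u, hu⟩ = ⟨u, hu⟩ := Subtype.ext (by
      rw [hρ]
      have h6 : ((u * π * u⁻¹ * π⁻¹ : H) : G) = 1 := congrArg Subtype.val h4
      have h7 : (u : G) * π = π * u := by
        have : (u : G) * π * (u : G)⁻¹ * (π : G)⁻¹ = 1 := h6
        rw [mul_inv_eq_one, mul_inv_eq_iff_eq_mul] at this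
        exact this
      show (π : G) * u * (π : G)⁻¹ = u
      rw [← h7, mul_inv_cancel_right])
    rw [hπe, hα, hβ, ← map_mul] at h5
    exact (hρ (⟨a, haH⟩ * ⟨b, hbH⟩) ⟨u, hu⟩).symm.trans (congrArg Subtype.val h5)
  set U' : Subgroup H := U.subgroupOf H with hU'
  haveI hU'n : U'.Normal := (Subgroup.normal_subgroupOf_iff_le_normalizer le_sup_left).2 hHN
  set X : Subgroup H := U' ⊔ N' with hX
  -- the action on the cosets
  let N'' : Subgroup X := N'.subgroupOf X
  let φ : X →* Equiv.Perm (X ⧸ N'') := MulAction.toPermHom X (X ⧸ N'')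
  have hcos : Nat.card (X ⧸ N'') = 4 := by
    rw [← hU]
    refine (Nat.card_congr (Equiv.ofBijective (fun u : U =>
      ((⟨⟨u, Subgroup.mem_sup_left u.2⟩, Subgroup.mem_sup_left u.2⟩ : X) : X ⧸ N''))
      ⟨fun u v h => ?_, fun q => ?_⟩)).symm
    · have h1 := QuotientGroup.eq.1 h
      have h2 := hUN ((⟨u, Subgroup.mem_sup_left u.2⟩ : H)⁻¹ * ⟨v, Subgroup.mem_sup_left v.2⟩)
        (mul_mem (inv_mem u.2) v.2) h1
      exact Subtype.ext (inv_mul_eq_one.1 (congrArg Subtype.val h2))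
    · induction q using QuotientGroup.induction_on with
      | _ x =>
        obtain ⟨u, hu, n, hn, he⟩ := Subgroup.mem_sup_of_normal_left.1 x.2
        refine ⟨⟨u, hu⟩, QuotientGroup.eq.2 ?_⟩
        show u⁻¹ * (x : H) ∈ N'
        rw [← he, inv_mul_cancel_left]
        exact hn
  let ρX : X →* MulAut U := ρ.comp X.subtype
  set D : Subgroup X := N'' ⊓ ρX.ker with hD
  have hker : φ.ker ≤ D := by
    intro g hg
    have hfix : ∀ q : X ⧸ N'', g • q = q := fun q => Equiv.ext_iff.1 hg q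
    have hgN : g ∈ N'' := by
      have h := hfix ((1 : X) : X ⧸ N'')
      rw [MulAction.Quotient.smul_mk, smul_eq_mul, mul_one] at h
      have h' := QuotientGroup.eq.1 h
      rwa [mul_one, inv_mem_iff] at h'
    refine ⟨hgN, MulEquiv.ext fun u => Subtype.ext ?_⟩
    show ((g : H) : G) * u * ((g : H) : G)⁻¹ = u
    let u' : X := ⟨⟨u, Subgroup.mem_sup_left u.2⟩, Subgroup.mem_sup_left u.2⟩
    have h := hfix ((u' : X) : X ⧸ N'')
    rw [MulAction.Quotient.smul_mk, smul_eq_mul] at h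
    have h' := QuotientGroup.eq.1 h
    have h2 : (g * u')⁻¹ * u' * g ∈ N'' := mul_mem h' hgN
    have hmemU : (((g * u')⁻¹ * u' * g : X) : H) ∈ U' := by
      show ((((g * u')⁻¹ * u' * g : X) : H) : G) ∈ U
      show ((((g : H) : G) * u)⁻¹ * u * (g : H) : G) ∈ U
      rw [show (((g : H) : G) * u)⁻¹ * (u : G) * (g : H) =
        (u : G)⁻¹ * (((g : H) : G)⁻¹ * u * (g : H)) by group]
      exact mul_mem (inv_mem u.2) ((Subgroup.mem_normalizer_iff''.1 (hHN (g : H).2) _).1 u.2)
    have h3 := hUN (((g * u')⁻¹ * u' * g : X) : H) hmemU h2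
    have h3' : (((g : H) : G) * u)⁻¹ * u * (g : H) = 1 := congrArg Subtype.val h3
    rw [mul_assoc, inv_mul_eq_one] at h3'
    rw [h3', mul_inv_cancel_right]
  have h6 : 6 ∣ Nat.card ρ.range := by
    have h2 : 2 ∣ Nat.card ρ.range := by
      have hα1 : α ≠ 1 := fun h => by
        obtain ⟨u, hu, hne⟩ := hane
        exact hne ((hρ ⟨a, haH⟩ ⟨u, hu⟩).symm.trans (by rw [← hα, h]; rfl))
      rw [← orderOf_eq_prime (p := 2) (by rw [sq]; exact hα2) hα1]
      exact Subgroup.orderOf_dvd_natCard _ ⟨_, rfl⟩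
    have h3' : 3 ∣ Nat.card ρ.range := by
      rw [← hord, ← Nat.card_zpowers]
      exact Subgroup.card_dvd_of_le hA3r
    exact Nat.Coprime.mul_dvd_of_dvd_of_dvd (by norm_num : Nat.Coprime 2 3) h2 h3'
  have hDidx : 24 ≤ D.index := by
    have e1 : D.relIndex N'' = Nat.card ρ.range := by
      rw [hD, Subgroup.inf_relIndex_left, Subgroup.relIndex_ker]
      refine congrArg (fun K : Subgroup (MulAut U) => Nat.card K) ?_
      apply le_antisymm
      · rintro _ ⟨x, -, rfl⟩; exact ⟨_, rfl⟩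
      · rintro _ ⟨h, rfl⟩
        obtain ⟨n, hn, hne⟩ := hfull h
        exact ⟨⟨n, Subgroup.mem_sup_right hn⟩, hn, hne⟩
    rw [← Subgroup.relIndex_mul_index (inf_le_left : D ≤ N''), e1, show N''.index = 4 from hcos]
    have hpos : 0 < Nat.card ρ.range := Nat.card_pos
    have := Nat.le_of_dvd hpos h6
    omega
  have hrange : Function.Surjective φ := by
    rw [← MonoidHom.range_eq_top]
    refine Subgroup.eq_top_of_le_card _ ?_
    rw [← Nat.card_congr (QuotientGroup.quotientKerEquivRange φ).toEquiv]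
    show _ ≤ φ.ker.index
    rw [show Nat.card (Equiv.Perm (X ⧸ N'')) = 24 by
      rw [Nat.card_congr (Finite.equivFinOfCardEq hcos).permCongr, card_perm_fin_four]]
    exact hDidx.trans (Nat.le_of_dvd (Nat.pos_of_ne_zero Subgroup.index_ne_zero_of_finite)
      (Subgroup.index_dvd_of_le hker))
  let e1 : X ≃* X.map H.subtype := X.equivMapOfInjective H.subtype H.subtype_injective
  let ψ : X.map H.subtype →* Equiv.Perm (Fin 4) :=
    (((Finite.equivFinOfCardEq hcos).permCongrHom).toMonoidHom.comp φ).comp e1.symm.toMonoidHom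
  have hψ : Function.Surjective ψ :=
    ((Finite.equivFinOfCardEq hcos).permCongrHom.surjective.comp hrange).comp e1.symm.surjective
  have he : (ψ.ker.map (X.map H.subtype).subtype).subgroupOf (X.map H.subtype) = ψ.ker :=
    Subgroup.comap_map_eq_self_of_injective (X.map H.subtype).subtype_injective _
  haveI hn : ((ψ.ker.map (X.map H.subtype).subtype).subgroupOf (X.map H.subtype)).Normal :=
    he.symm ▸ inferInstance
  exact ⟨X.map H.subtype, ψ.ker.map (X.map H.subtype).subtype, hn,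
    ⟨(QuotientGroup.quotientMulEquivOfEq he).trans
      (QuotientGroup.quotientKerEquivOfSurjective ψ hψ)⟩⟩

variable {p : ℕ} [Fact p.Prime]

/-- An element with fixed hyperplane commutes with the abelian group of order prime to `p` it
normalizes, unless `p = 2` and `S₄` is involved. -/
theorem false_of_transvection (hfree : p ≠ 2 ∨ ¬ Cfsg.Involves (Equiv.Perm (Fin 4)) G)
    (V : Subgroup G) [V.Normal] (hVe : Cfsg.IsElementaryAbelian p V) (a k : G)
    (K : Subgroup (MulAut V)) (hKc : ∀ x ∈ K, ∀ y ∈ K, Commute x y) (hKp : ¬ p ∣ Nat.card K)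
    (haK : MulAut.conjNormal a ∈ Subgroup.normalizer (K : Set (MulAut V)))
    (hk : MulAut.conjNormal k ∈ K) (hap : (MulAut.conjNormal a : MulAut V) ^ p = 1)
    (hcard : letI : CommGroup V := { mul_comm := hVe.1.is_comm.comm }
      Nat.card V = p * Nat.card (fixV (Subgroup.zpowers (MulAut.conjNormal a : MulAut V))))
    (hnc : ¬ Commute (MulAut.conjNormal a : MulAut V) (MulAut.conjNormal k)) : False := by
  classical
  letI : CommGroup V := { mul_comm := hVe.1.is_comm.comm }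
  have hp := (Fact.out : p.Prime)
  haveI := hVe.1
  have hV : ∀ v : V, v ^ p = 1 := fun v => Subtype.ext (hVe.2 v v.2)
  have hVp : IsPGroup p V := fun v => ⟨1, by rw [pow_one]; exact hV v⟩
  set φ : G →* MulAut V := MulAut.conjNormal with hφdef
  have hφ : ∀ (g : G) (v : V), ((φ g v : V) : G) = g * v * g⁻¹ := fun g v => rfl
  set α := φ a
  set κ := φ k
  have hN : ∀ g : G, g ∈ Subgroup.normalizer (V : Set G) := fun g => by
    rw [Subgroup.normalizer_eq_top]; exact Subgroup.mem_top g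
  have hmemfix : ∀ v, v ∈ fixV (Subgroup.zpowers α) ↔ α v = v := by
    refine fun v => ⟨fun h => h α (Subgroup.mem_zpowers α), fun h c hc => ?_⟩
    have hle : Subgroup.zpowers α ≤ MulAction.stabilizer (MulAut V) v := Subgroup.zpowers_le.2 h
    exact hle hc
  -- the commutator map
  let ψ : V →* V := MonoidHom.mk' (fun v => α v * v⁻¹) fun v w => by
    rw [map_mul, mul_inv, mul_mul_mul_comm]
  have hψker : ψ.ker = fixV (Subgroup.zpowers α) := by
    ext v
    rw [MonoidHom.mem_ker, hmemfix]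
    exact mul_inv_eq_one
  have hψcard : Nat.card ψ.range = p := by
    have h := Subgroup.card_eq_card_quotient_mul_card_subgroup ψ.ker
    rw [Nat.card_congr (QuotientGroup.quotientKerEquivRange ψ).toEquiv, hψker, hcard] at h
    exact (Nat.eq_of_mul_eq_mul_right Nat.card_pos h).symm
  have hquad : ∀ v, α (α v * v⁻¹) = α v * v⁻¹ := by
    intro v
    have hinv : ∀ c ∈ Subgroup.zpowers α, ∀ w ∈ ψ.range, c w ∈ ψ.range := by
      rintro c hc _ ⟨w, rfl⟩
      refine ⟨c w, ?_⟩
      show α (c w) * (c w)⁻¹ = c (α w * w⁻¹)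
      obtain ⟨z, rfl⟩ := Subgroup.mem_zpowers_iff.1 hc
      rw [← MulAut.mul_apply, (Commute.self_zpow α z).eq, MulAut.mul_apply, map_mul, map_inv]
    have hne : ψ.range ≠ ⊥ := fun h => by
      rw [h, Subgroup.card_bot] at hψcard
      exact hp.one_lt.ne hψcard
    obtain ⟨w, hw, hw1, hwfix⟩ := exists_fixed_mod hVp
      (A := Subgroup.zpowers α) (fun x => ⟨1, Subtype.ext (by
        obtain ⟨z, hz⟩ := Subgroup.mem_zpowers_iff.1 x.2
        show (x : MulAut V) ^ p ^ 1 = 1
        rw [pow_one, ← hz, ← zpow_natCast, ← zpow_mul, mul_comm, zpow_mul, zpow_natCast, hap,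
          one_zpow])⟩) (M := ⊥) (fun c _ x hx => by
        rw [Subgroup.mem_bot.1 hx, map_one]; exact one_mem _) hinv (bot_lt_iff_ne_bot.2 hne)
    have hαw : α w = w := mul_inv_eq_one.1 (Subgroup.mem_bot.1 (hwfix α (Subgroup.mem_zpowers α)))
    have hle : ψ.range ≤ fixV (Subgroup.zpowers α) := by
      have hz : Subgroup.zpowers w = ψ.range := by
        refine Subgroup.eq_of_le_of_card_ge (Subgroup.zpowers_le.2 hw) ?_
        rw [hψcard, Nat.card_zpowers, orderOf_eq_prime (hV w) fun h => hw1 (Subgroup.mem_bot.2 h)]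
      rw [← hz]
      exact Subgroup.zpowers_le.2 ((hmemfix w).2 hαw)
    exact (hmemfix _).1 (hle ⟨v, rfl⟩)
  by_cases hp2 : p = 2
  swap
  · -- odd primes
    have hmem : ∀ i : ℕ, φ (a ^ i * k * (a ^ i)⁻¹) ∈ K := fun i => by
      rw [map_mul, map_mul, map_inv, map_pow]
      exact (Subgroup.mem_normalizer_iff.1 (pow_mem haK i) _).1 hk
    have hcent : ∀ g, φ g = 1 → g ∈ Subgroup.centralizer (V : Set G) := fun g hg =>
      mem_centralizer_iff'.2 fun v hv => by
        have := congrArg (fun e : MulAut V => ((e ⟨v, hv⟩ : V) : G)) hg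
        simpa [hφ] using this
    have hcomm₂ : ∀ X Y : G, φ X ∈ K → φ Y ∈ K → φ (X * Y * (Y * X)⁻¹) = 1 := fun X Y hX hY => by
      rw [map_mul, map_inv, mul_inv_eq_one, map_mul, map_mul]
      exact (hKc _ hX _ hY).eq
    have h := conj_eq_of_quadratic V hp2 (fun v hv => hVe.2 v hv) (hN a) (hN k)
      (fun v hv => by
        have h1 := congrArg Subtype.val (hquad ⟨v, hv⟩)
        exact h1)
      hKp (hcent _ (by
        rw [map_pow]
        exact orderOf_dvd_iff_pow_eq_one.1 (Subgroup.orderOf_dvd_natCard K hk)))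
      (fun i j _ _ => hcent _ (hcomm₂ _ _ (hmem i) (hmem j)))
    refine hnc ?_
    have h2 : κ = α * κ * α⁻¹ := by
      show φ k = φ a * φ k * (φ a)⁻¹
      rw [← map_inv, ← map_mul, ← map_mul]
      exact MulEquiv.ext fun v => Subtype.ext (h v v.2)
    exact (eq_mul_inv_iff_mul_eq.1 h2).symm
  subst hp2
  replace hfree : ¬ Cfsg.Involves (Equiv.Perm (Fin 4)) G := hfree.resolve_left (fun h => h rfl)
  refine hfree ?_
  -- the two involutions
  set b := k * a * k⁻¹ with hbdef
  set β := φ b with hβdef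
  have hβ : β = κ * α * κ⁻¹ := by rw [hβdef, hbdef, map_mul, map_mul, map_inv]
  set μ := α * β with hμdef
  have hαi : α⁻¹ = α := inv_eq_of_mul_eq_one_right (by rw [← sq]; exact hap)
  have hβ2 : β * β = 1 := by
    rw [hβ, show κ * α * κ⁻¹ * (κ * α * κ⁻¹) = κ * α ^ 2 * κ⁻¹ by rw [sq]; group, hap, mul_one,
      mul_inv_cancel]
  have hμK : μ ∈ K := by
    have e : μ = (α * κ * α⁻¹) * κ⁻¹ := by rw [hμdef, hβ, hαi, ← mul_assoc, ← mul_assoc]
    rw [e]
    exact mul_mem ((Subgroup.mem_normalizer_iff.1 haK _).1 hk) (inv_mem hk)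
  have hμ1 : μ ≠ 1 := by
    intro h
    refine hnc ?_
    rw [hμdef, hβ, mul_eq_one_iff_inv_eq, hαi] at h
    exact eq_mul_inv_iff_mul_eq.1 h
  have hμodd : ¬ 2 ∣ orderOf μ := fun hd => hKp (hd.trans (Subgroup.orderOf_dvd_natCard K hμK))
  -- the lines
  obtain ⟨x, hx1, hxim⟩ : ∃ x : V, x ≠ 1 ∧ ∀ v, α v = v ∨ α v = x * v := by
    haveI : Nontrivial ψ.range := (Subgroup.nontrivial_iff_ne_bot _).2 fun h => by
      rw [h, Subgroup.card_bot] at hψcard; omega
    obtain ⟨x, hx⟩ := exists_ne (1 : ψ.range)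
    refine ⟨x, fun h => hx (Subtype.ext h), fun v => ?_⟩
    have hz : Subgroup.zpowers (x : V) = ψ.range := by
      refine Subgroup.eq_of_le_of_card_ge (Subgroup.zpowers_le.2 x.2) ?_
      rw [hψcard, Nat.card_zpowers, orderOf_eq_prime (hV x) fun h => hx (Subtype.ext h)]
    obtain ⟨i, hi⟩ := Subgroup.mem_zpowers_iff.1 (hz.ge ⟨v, rfl⟩ : ψ v ∈ _)
    rcases Int.even_or_odd i with ⟨j, hj⟩ | ⟨j, hj⟩
    · left
      rw [hj, zpow_add, ← mul_zpow, ← sq, hV, one_zpow] at hi
      exact mul_inv_eq_one.1 hi.symm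
    · right
      rw [hj, zpow_add, zpow_mul, zpow_one, show (x : V) ^ (2 : ℤ) = 1 by rw [zpow_two, ← sq]; exact hV _, one_zpow,
        one_mul] at hi
      exact mul_inv_eq_iff_eq_mul.1 hi.symm
  have hαx : α x = x := by
    obtain ⟨v, hv⟩ : ∃ v, α v ≠ v := by
      by_contra h
      push Not at h
      exact hμ1 (by
        rw [hμdef, hβ, show α = 1 from MulEquiv.ext h, mul_one, mul_inv_cancel, mul_one])
    have h1 := (hxim v).resolve_left hv
    have h2 := hquad v
    rwa [h1, mul_inv_cancel_right] at h2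
  set y := κ x with hydef
  have hy1 : y ≠ 1 := fun h => hx1 (κ.map_eq_one_iff.1 h)
  have hyim : ∀ v, β v = v ∨ β v = y * v := by
    intro v
    have e : β v = κ (α (κ⁻¹ v)) := by rw [hβ]; rfl
    rcases hxim (κ⁻¹ v) with h | h
    · left; rw [e, h]; exact MulEquiv.apply_symm_apply κ v
    · right; rw [e, h, map_mul]; exact congrArg (y * ·) (MulEquiv.apply_symm_apply κ v)
  have hβy : β y = y := by
    rw [hydef, hβ]
    show κ (α (κ⁻¹ (κ x))) = κ x
    rw [show κ⁻¹ (κ x) = x from MulEquiv.symm_apply_apply κ x, hαx]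
  have hsq : ∀ v : V, v * v = 1 := fun v => by rw [← sq]; exact hV v
  have hμfix : ∀ v, μ (μ v) = v → μ v = v := by
    intro v hv
    have h2 : μ ^ 2 • v = v := by rw [sq]; exact hv
    obtain ⟨i, hi⟩ := exists_pow_eq_self_of_coprime (x := μ) (n := 2)
      (Nat.prime_two.coprime_iff_not_dvd.2 hμodd)
    have hst : μ ^ 2 ∈ MulAction.stabilizer (MulAut V) v := h2
    have := pow_mem hst i
    rwa [hi] at this
  have hμv : ∀ v, μ v = α (β v) := fun v => rfl
  have hxy : x ≠ y := by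
    intro he
    have hμx : μ x = x := by
      rw [hμv, show β x = x by rw [he]; exact hβy, hαx]
    refine hμ1 (MulEquiv.ext fun v => hμfix v ?_)
    have h1 : ∀ w, μ w = w ∨ μ w = x * w := by
      intro w
      rcases hyim w with h | h <;> rcases hxim w with h' | h' <;>
        simp only [hμv, h, ← he, map_mul, hαx, h']
      · exact Or.inl trivial
      · exact Or.inr trivial
      · exact Or.inr trivial
      · left; rw [← mul_assoc, hsq, one_mul]
    rcases h1 v with h | h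
    · rw [h, h]
    · rw [h, map_mul, hμx, h, ← mul_assoc, hsq, one_mul]
  have hxy1 : x * y ≠ 1 := fun h => hxy (mul_eq_one_iff_eq_inv.1 h |>.trans
    (inv_eq_of_mul_eq_one_right (hsq y)))
  have hαy : α y = x * y := by
    refine (hxim y).resolve_left fun hfix => ?_
    have hμy : μ y = y := by rw [hμv, hβy, hfix]
    rcases hyim x with h | h
    · have hμx : μ x = x := by rw [hμv, h, hαx]
      refine hμ1 (MulEquiv.ext fun v => hμfix v ?_)
      rcases hyim v with h1 | h1 <;> rcases hxim v with h2 | h2 <;>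
        simp only [hμv, h1, h2, map_mul, hfix, hαx, hβy, h]
      · rw [← mul_assoc, hsq, one_mul]
      · rw [← mul_assoc, hsq, one_mul]
      · rw [mul_left_comm x y, ← mul_assoc, hsq, one_mul, ← mul_assoc, hsq, one_mul]
    · have h4 : μ x = y * x := by rw [hμv, h, map_mul, hfix, hαx]
      have h5 := hμfix x (by rw [h4, map_mul, hμy, h4, ← mul_assoc, hsq, one_mul])
      rw [h4] at h5
      exact hy1 (mul_eq_right.1 h5)
  have hβx : β x = y * x := by
    refine (hyim x).resolve_left fun hfix => ?_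
    have hμx : μ x = x := by rw [hμv, hfix, hαx]
    have h4 : μ y = x * y := by rw [hμv, hβy, hαy]
    have h5 := hμfix y (by rw [h4, map_mul, hμx, h4, ← mul_assoc, hsq, one_mul])
    rw [h4] at h5
    exact hx1 (mul_eq_right.1 h5)
  have hμx : μ x = y := by rw [hμv, hβx, map_mul, hαy, hαx, mul_comm x y, mul_assoc, hsq, mul_one]
  have hμy : μ y = x * y := by rw [hμv, hβy, hαy]
  -- the four-group
  have hxp : ∀ v : V, (v : G) * v = 1 := fun v => congrArg Subtype.val (hsq v)
  let U₀ : Subgroup V := Subgroup.zpowers x ⊔ Subgroup.zpowers y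
  let U : Subgroup G := U₀.map V.subtype
  have hU₀mem : ∀ v ∈ U₀, v = 1 ∨ v = x ∨ v = y ∨ v = x * y := by
    let W : Subgroup V :=
      { carrier := {v | v = 1 ∨ v = x ∨ v = y ∨ v = x * y}
        one_mem' := Or.inl rfl
        mul_mem' := fun {v w} hv hw => by
          have e1 : x * (x * y) = y := by rw [← mul_assoc, hsq, one_mul]
          have e2 : y * (x * y) = x := by rw [mul_comm x y, ← mul_assoc, hsq, one_mul]
          show v * w = 1 ∨ v * w = x ∨ v * w = y ∨ v * w = x * y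
          rcases hv with e | e | e | e <;> rcases hw with f | f | f | f <;> rw [e, f] <;>
            simp [hsq, e1, e2, mul_comm y x, mul_comm (x * y) x, mul_comm (x * y) y]
        inv_mem' := fun {v} hv => by
          show v⁻¹ = 1 ∨ v⁻¹ = x ∨ v⁻¹ = y ∨ v⁻¹ = x * y
          rwa [show v⁻¹ = v from inv_eq_of_mul_eq_one_right (hsq v)] }
    exact fun v hv => (sup_le (Subgroup.zpowers_le.2 (Or.inr (Or.inl rfl)))
      (Subgroup.zpowers_le.2 (Or.inr (Or.inr (Or.inl rfl)))) : U₀ ≤ W) hv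
  have hxU : x ∈ U₀ := Subgroup.mem_sup_left (Subgroup.mem_zpowers x)
  have hyU : y ∈ U₀ := Subgroup.mem_sup_right (Subgroup.mem_zpowers y)
  have hU4 : Nat.card U = 4 := by
    rw [Subgroup.card_map_of_injective V.subtype_injective]
    have hset : (U₀ : Set V) = ↑({1, x, y, x * y} : Finset V) := by
      ext v
      constructor
      · intro hv
        rcases hU₀mem v hv with rfl | rfl | rfl | rfl <;> simp
      · intro hv
        simp at hv
        rcases hv with rfl | rfl | rfl | rfl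
        exacts [one_mem _, hxU, hyU, mul_mem hxU hyU]
    rw [← SetLike.coe_sort_coe, Nat.card_coe_set_eq, hset, Set.ncard_coe_finset]
    have n1 : x ≠ x * y := fun h => hy1 (mul_eq_left.1 h.symm)
    have n2 : y ≠ x * y := fun h => hx1 (mul_eq_right.1 h.symm)
    simp [Finset.card_insert_of_notMem, hx1.symm, hy1.symm, hxy1.symm, hxy, n1, n2]
  have hact : ∀ (g : G), (φ g x ∈ U₀) → (φ g y ∈ U₀) →
      g ∈ Subgroup.normalizer (U : Set G) := by
    intro g hgx hgy
    refine conjBy_eq_iff.1 (conjBy_eq_of_le (conjBy_le_iff.2 ?_))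
    rintro _ ⟨v, hv, rfl⟩
    refine ⟨φ g v, ?_, hφ g v⟩
    rcases hU₀mem v hv with rfl | rfl | rfl | rfl
    · rw [map_one]; exact one_mem _
    · exact hgx
    · exact hgy
    · rw [map_mul]; exact mul_mem hgx hgy
  have hαβ : φ (a * b) = μ := map_mul φ a b
  refine involves_perm_four U a b hU4
    (hact a (by rw [hαx]; exact hxU) (by rw [hαy]; exact mul_mem hxU hyU))
    (hact b (by rw [← hβdef, hβx]; exact mul_mem hyU hxU) (by rw [← hβdef, hβy]; exact hyU))
    ?_ ?_ ?_ ?_ ?_ ?_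
  · rintro _ ⟨v, -, rfl⟩ _ ⟨w, -, rfl⟩
    exact congrArg Subtype.val (mul_comm v w)
  · rintro _ ⟨v, -, rfl⟩
    have h : φ (a * a) v = v := by rw [map_mul, ← sq, hap, MulAut.one_apply]
    exact congrArg Subtype.val h
  · rintro _ ⟨v, -, rfl⟩
    have h : φ (b * b) v = v := by rw [map_mul, hβ2, MulAut.one_apply]
    exact congrArg Subtype.val h
  · rintro _ ⟨v, hv, rfl⟩
    have h : φ ((a * b) ^ 3) v = v := by
      rw [map_pow, hαβ]
      show μ (μ (μ v)) = v
      have e : μ (x * y) = x := by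
        rw [map_mul, hμx, hμy, mul_comm x y, ← mul_assoc, hsq, one_mul]
      rcases hU₀mem v hv with rfl | rfl | rfl | rfl
      · rw [map_one, map_one, map_one]
      · rw [hμx, hμy, e]
      · rw [hμy, e, hμx]
      · rw [e, hμx, hμy]
    exact congrArg Subtype.val h
  · rintro _ ⟨v, hv, rfl⟩ h
    have h' : μ v = v := by
      rw [← hαβ]; exact Subtype.ext h
    rcases hU₀mem v hv with rfl | rfl | rfl | rfl
    · rfl
    · rw [hμx] at h'; exact absurd h'.symm hxy
    · rw [hμy] at h'; exact absurd (mul_eq_right.1 h') hx1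
    · rw [map_mul, hμx, hμy] at h'
      exact absurd (mul_eq_right.1 h') (fun hh => hy1 hh)
  · exact ⟨(y : G), ⟨y, hyU, rfl⟩, fun h => hx1 (mul_eq_right.1
      ((hαy.symm.trans (Subtype.ext h : α y = y))))⟩

/-- An abelian `p`-group normalizing a faithful abelian group of order prime to `p` is not an offender. -/
theorem offender_lt (hfree : p ≠ 2 ∨ ¬ Cfsg.Involves (Equiv.Perm (Fin 4)) G)
    (V : Subgroup G) [V.Normal] (hVe : Cfsg.IsElementaryAbelian p V) (K A : Subgroup G)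
    (hKc : ∀ x ∈ K, ∀ y ∈ K, x * y * (y * x)⁻¹ ∈ Subgroup.centralizer (V : Set G))
    (hKp : ∀ x ∈ K, ∃ m : ℕ, ¬ p ∣ m ∧ x ^ m ∈ Subgroup.centralizer (V : Set G))
    (hAp : IsPGroup p A) (hAc : IsMulCommutative A)
    (hAK : A ≤ Subgroup.normalizer (K : Set G))
    (hfaith : ∀ a ∈ A, (∀ k ∈ K, a * k * (k * a)⁻¹ ∈ Subgroup.centralizer (V : Set G)) →
      a ∈ Subgroup.centralizer (V : Set G))
    (hA : ¬ A ≤ Subgroup.centralizer (V : Set G)) :
    Nat.card (V ⊓ Subgroup.centralizer (A : Set G) : Subgroup G) * Nat.card A <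
      Nat.card V * Nat.card (A ⊓ Subgroup.centralizer (V : Set G) : Subgroup G) := by
  classical
  letI : CommGroup V := { mul_comm := hVe.1.is_comm.comm }
  have hp := (Fact.out : p.Prime)
  have hV : ∀ v : V, v ^ p = 1 := fun v => Subtype.ext (hVe.2 v v.2)
  set φ : G →* MulAut V := MulAut.conjNormal with hφdef
  have hφ : ∀ (g : G) (v : V), ((φ g v : V) : G) = g * v * g⁻¹ := fun g v => rfl
  have hker : ∀ g, φ g = 1 ↔ g ∈ Subgroup.centralizer (V : Set G) := by
    intro g
    rw [mem_centralizer_iff']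
    constructor
    · intro h v hv
      have := congrArg (fun e : MulAut V => ((e ⟨v, hv⟩ : V) : G)) h
      simpa [hφ] using this
    · exact fun h => MulEquiv.ext fun v => Subtype.ext (h v v.2)
  set Kb := K.map φ
  set Ab := A.map φ
  have hKbc : ∀ x ∈ Kb, ∀ y ∈ Kb, Commute x y := by
    rintro _ ⟨x, hx, rfl⟩ _ ⟨y, hy, rfl⟩
    have h := (hker _).2 (hKc x hx y hy)
    rw [map_mul, map_inv, mul_inv_eq_one, map_mul, map_mul] at h
    exact h
  haveI : Finite (MulAut V) := Finite.of_injective MulEquiv.toEquiv fun a b h =>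
    MulEquiv.ext fun v => congrArg (fun e : V ≃ V => e v) h
  have hKbp : ¬ p ∣ Nat.card Kb := by
    intro hd
    obtain ⟨⟨z, hz⟩, hzo⟩ := exists_prime_orderOf_dvd_card' p hd
    rw [Subgroup.orderOf_mk] at hzo
    obtain ⟨x, hx, rfl⟩ := hz
    obtain ⟨m, hm, hxm⟩ := hKp x hx
    exact hm (hzo ▸ orderOf_dvd_of_pow_eq_one (by rw [← map_pow]; exact (hker _).2 hxm))
  have hAbc : ∀ x ∈ Ab, ∀ y ∈ Ab, Commute x y := by
    rintro _ ⟨x, hx, rfl⟩ _ ⟨y, hy, rfl⟩
    exact (show Commute x y from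
      congrArg Subtype.val (hAc.is_comm.comm (⟨x, hx⟩ : A) ⟨y, hy⟩)).map φ
  have hAbK : Ab ≤ Subgroup.normalizer (Kb : Set (MulAut V)) :=
    (Subgroup.map_mono hAK).trans (Subgroup.le_normalizer_map φ)
  have hf : ∀ α ∈ Ab, (∀ κ ∈ Kb, Commute α κ) → α = 1 := by
    rintro _ ⟨a, ha, rfl⟩ h
    refine (hker a).2 (hfaith a ha fun k hk => (hker _).1 ?_)
    rw [map_mul, map_inv, mul_inv_eq_one, map_mul, map_mul]
    exact h _ ⟨k, hk, rfl⟩
  obtain ⟨hle, heq⟩ := card_fixV_mul_le hV Kb hKbc hKbp Ab (hAp.map φ) hAbc hAbK hf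
  have hlt : Nat.card (fixV Ab) * Nat.card Ab < Nat.card V := by
    refine lt_of_le_of_ne hle fun he => ?_
    obtain ⟨_, ⟨a, ha, rfl⟩, _, ⟨k, hk, rfl⟩, h1, h2, h3⟩ := heq he fun hb => hA fun a ha =>
      (hker a).1 (Subgroup.mem_bot.1 (hb ▸ Subgroup.mem_map_of_mem φ ha))
    exact false_of_transvection hfree V hVe a k Kb hKbc hKbp (hAbK ⟨a, ha, rfl⟩) ⟨k, hk, rfl⟩ h1 h2 h3
  have hfix : Nat.card (fixV Ab) =
      Nat.card (V ⊓ Subgroup.centralizer (A : Set G) : Subgroup G) := by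
    refine Nat.card_congr ⟨fun v => ⟨((v : V) : G), (v : V).2, ?_⟩, fun g => ⟨⟨g, g.2.1⟩, ?_⟩,
      fun _ => rfl, fun _ => rfl⟩
    · refine Subgroup.mem_centralizer_iff.2 fun a ha => ?_
      have h := congrArg Subtype.val (v.2 (φ a) ⟨a, ha, rfl⟩)
      rw [hφ, mul_inv_eq_iff_eq_mul] at h
      exact h
    · rintro _ ⟨a, ha, rfl⟩
      refine Subtype.ext ?_
      rw [hφ, mul_inv_eq_iff_eq_mul]
      exact Subgroup.mem_centralizer_iff.1 g.2.2 a ha
  have hcardA : Nat.card A = Nat.card Ab *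
      Nat.card (A ⊓ Subgroup.centralizer (V : Set G) : Subgroup G) := by
    have e1 : Nat.card Ab = Nat.card (φ.subgroupMap A).range := by
      rw [MonoidHom.range_eq_top.2 (φ.subgroupMap_surjective A), Subgroup.card_top]
    rw [e1, ← Nat.card_congr (QuotientGroup.quotientKerEquivRange (φ.subgroupMap A)).toEquiv,
      Subgroup.card_eq_card_quotient_mul_card_subgroup (φ.subgroupMap A).ker]
    congr 1
    refine Nat.card_congr ⟨fun a => ⟨((a : A) : G), (a : A).2, (hker _).1 (congrArg Subtype.val a.2)⟩,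
      fun g => ⟨⟨g, g.2.1⟩, Subtype.ext ((hker _).2 g.2.2)⟩, fun _ => rfl, fun _ => rfl⟩
  rw [← hfix, hcardA, ← mul_assoc]
  exact Nat.mul_lt_mul_of_pos_right hlt Nat.card_pos

end CfsgLib.Fusion
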