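import Cfsg.Agent.Lib.Fusion.Thompson
import Cfsg.Agent.Lib.Fusion.OffenderFree
import Cfsg.Agent.Lib.Fusion.Quadratic
import Cfsg.Agent.Lib.Fusion.Abelian
import Cfsg.Agent.Lib.Coprime.Action

/-!
# Thompson's normal `p`-complement theorem
-/

set_option autoImplicit false

open Subgroup
open scoped commutatorElement

namespace CfsgLib.Fusion

universe u

section aux

variable {G : Type*} [Group G] {p : ℕ}

/-- `Z(P)` for a subgroup `P`. -/
abbrev centerOf (P : Subgroup G) : Subgroup G := P ⊓ Subgroup.centralizer (P : Set G)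

theorem normalizer_le_normalizer_centerOf [Finite G] (P : Subgroup G) :
    Subgroup.normalizer (P : Set G) ≤ Subgroup.normalizer (centerOf P : Set G) := by
  intro g hg
  refine conjBy_eq_iff.1 (conjBy_eq_of_le ?_)
  have h : conjBy g P = P := conjBy_eq_iff.2 hg
  refine le_inf (le_trans (conjBy_mono inf_le_left) h.le) ?_
  have h2 := conjBy_mono (g := g) (inf_le_right : centerOf P ≤ Subgroup.centralizer (P : Set G))
  rwa [conjBy_centralizer, h] at h2

theorem centerOf_ne_bot [Fact p.Prime] [Finite G] {P : Subgroup G} (hP : IsPGroup p P)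
    (hne : P ≠ ⊥) : centerOf P ≠ ⊥ := by
  haveI : Nontrivial P := (Subgroup.nontrivial_iff_ne_bot P).2 hne
  haveI := hP.center_nontrivial
  obtain ⟨z, hz⟩ := exists_ne (1 : Subgroup.center P)
  intro h
  refine hz (Subtype.ext (Subtype.ext ?_))
  have h2 : ((z : P) : G) ∈ centerOf P := ⟨(z : P).2, Subgroup.mem_centralizer_iff.2 fun w hw =>
    congrArg Subtype.val (Subgroup.mem_center_iff.1 z.2 ⟨w, hw⟩)⟩
  rw [h, Subgroup.mem_bot] at h2
  exact h2

theorem mem_centralizer_of_disjoint {K R : Subgroup G} (hK : K.Normal) (hR : R.Normal)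
    (h : Disjoint K R) {k : G} (hk : k ∈ K) : k ∈ Subgroup.centralizer (R : Set G) :=
  Subgroup.mem_centralizer_iff.2 fun r hr =>
    (Subgroup.commute_of_normal_of_disjoint _ _ hK hR h k r hk hr).eq.symm

theorem eq_one_of_pGroup_of_coprime {R : Subgroup G} (hR : IsPGroup p R) {g : G} (hg : g ∈ R)
    (hc : Nat.Coprime (orderOf g) p) : g = 1 := by
  obtain ⟨k, hk⟩ := hR ⟨g, hg⟩
  exact orderOf_eq_one_iff.1 (Nat.eq_one_of_dvd_coprimes (Nat.Coprime.pow_right k hc) dvd_rfl
    (orderOf_dvd_of_pow_eq_one (congrArg Subtype.val hk)))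

theorem pow_mul_conj_mul_inv {n z : G} (hc : Commute z (n * z * n⁻¹ * z⁻¹)) :
    ∀ j : ℕ, n * z ^ j * n⁻¹ = (n * z * n⁻¹ * z⁻¹) ^ j * z ^ j := by
  intro j
  induction j with
  | zero => simp
  | succ j ih =>
    set c := n * z * n⁻¹ * z⁻¹ with hcdef
    have hn : n * z * n⁻¹ = c * z := by rw [hcdef]; group
    calc n * z ^ (j + 1) * n⁻¹ = (n * z ^ j * n⁻¹) * (n * z * n⁻¹) := by rw [pow_succ]; group
      _ = c ^ j * (z ^ j * c) * z := by rw [ih, hn]; group
      _ = c ^ j * (c * z ^ j) * z := by rw [(hc.pow_left j).eq]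
      _ = c ^ (j + 1) * z ^ (j + 1) := by rw [pow_succ, pow_succ]; group

/-- A coprime element normalizing an abelian `p`-group and fixing its elements of order `p`
centralizes it. -/
theorem mem_centralizer_of_fix_omega [Finite G] [Fact p.Prime] {Z : Subgroup G}
    (hZp : IsPGroup p Z) (hZc : ∀ a ∈ Z, ∀ b ∈ Z, a * b = b * a) {n : G}
    (hn : n ∈ Subgroup.normalizer (Z : Set G)) (hcop : Nat.Coprime (orderOf n) p)
    (hfix : ∀ z ∈ Z, z ^ p = 1 → n * z * n⁻¹ = z) : n ∈ Subgroup.centralizer (Z : Set G) := by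
  rw [mem_centralizer_iff']
  suffices H : ∀ (k : ℕ), ∀ z ∈ Z, z ^ p ^ k = 1 → n * z * n⁻¹ = z by
    intro z hz
    obtain ⟨k, hk⟩ := hZp ⟨z, hz⟩
    exact H k z hz (congrArg Subtype.val hk)
  intro k
  induction k with
  | zero => intro z _ hz; rw [pow_zero, pow_one] at hz; simp [hz]
  | succ k ih =>
    intro z hz hzk
    have h1 := ih (z ^ p) (pow_mem hz p) (by rw [← pow_mul, ← pow_succ']; exact hzk)
    set c := n * z * n⁻¹ * z⁻¹ with hc
    have hcZ : c ∈ Z := Z.mul_mem ((Subgroup.mem_normalizer_iff.1 hn z).1 hz) (Z.inv_mem hz)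
    have h2 := pow_mul_conj_mul_inv (n := n) (z := z) (hZc z hz c hcZ) p
    rw [h1, ← hc] at h2
    have hcp : c ^ p = 1 := mul_right_cancel (h2.symm.trans (one_mul _).symm)
    have hcn : Commute c n := (mul_inv_eq_iff_eq_mul.1 (hfix c hcZ hcp)).symm
    have hone : c = 1 := eq_one_of_conj_eq_mul hcn (hZc c hcZ z hz) (by rw [hc]; group)
      (Nat.Coprime.coprime_dvd_left (orderOf_dvd_of_pow_eq_one hcp) hcop.symm)
    rw [hc, mul_inv_eq_one] at hone
    exact hone

theorem hasNormalPComplement_of_le [Fact p.Prime] [Finite G] {H K : Subgroup G} (h : H ≤ K)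
    (hK : Cfsg.HasNormalPComplement p K) : Cfsg.HasNormalPComplement p H :=
  hasNormalPComplement_of_injective (Subgroup.inclusion h) (Subgroup.inclusion_injective h) hK

theorem hasNormalPComplement_of_map [Fact p.Prime] [Finite G] {N : Subgroup G} {H : Subgroup N}
    {K : Subgroup G} (h : H.map N.subtype ≤ K) (hK : Cfsg.HasNormalPComplement p K) :
    Cfsg.HasNormalPComplement p H :=
  hasNormalPComplement_of_injective
    ((N.subtype.comp H.subtype).codRestrict K fun x => h ⟨x, x.2, rfl⟩)
    (fun a b hab => Subtype.ext (Subtype.ext (congrArg Subtype.val hab :))) hK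

/-- In a quotient by a normal subgroup of order prime to `p`, normalizers of `p`-subgroups are
images of normalizers. -/
theorem normalizer_map_le [Fact p.Prime] [Finite G] (K : Subgroup G) [K.Normal]
    (hK : ¬ p ∣ Nat.card K) {X : Subgroup G} (hX : IsPGroup p X) :
    Subgroup.normalizer (X.map (QuotientGroup.mk' K) : Set (G ⧸ K)) ≤
      (Subgroup.normalizer (X : Set G)).map (QuotientGroup.mk' K) := by
  intro y hy
  obtain ⟨g, rfl⟩ := QuotientGroup.mk'_surjective K y
  set f := QuotientGroup.mk' K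
  set M := (X.map f).comap f with hM
  have hXM : X ≤ M := Subgroup.le_comap_map f X
  have hinj : ∀ x ∈ X, f x = 1 → x = 1 := fun x hx h =>
    eq_one_of_pGroup_of_coprime hX hx ((not_dvd_card_iff_forall_coprime_orderOf K).1 hK x
      ((QuotientGroup.eq_one_iff x).1 h))
  have hKM : K ≤ M := fun k hk => by
    rw [hM, Subgroup.mem_comap, show f k = 1 from (QuotientGroup.eq_one_iff k).2 hk]
    exact one_mem _
  have hrel : ¬ p ∣ X.relIndex M := by
    have e1 := Subgroup.relIndex_mul_relIndex ⊥ X M bot_le hXM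
    have e2 := Subgroup.relIndex_mul_relIndex ⊥ K M bot_le hKM
    simp only [Subgroup.relIndex_bot_left] at e1 e2
    have e3 : K.relIndex M = Nat.card X := by
      conv_lhs => rw [← QuotientGroup.ker_mk' K]
      rw [Subgroup.relIndex_ker]
      rw [hM, Subgroup.map_comap_eq_self_of_surjective (QuotientGroup.mk'_surjective K),
        card_map_of_injOn f hinj]
    rw [e3, ← e1, mul_comm] at e2
    rwa [← Nat.eq_of_mul_eq_mul_left Nat.card_pos e2]
  have hgM : conjBy g X ≤ M := conjBy_le_iff.2 fun x hx => by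
    rw [hM, Subgroup.mem_comap, map_mul, map_mul, map_inv]
    exact (Subgroup.mem_normalizer_iff.1 hy _).1 (Subgroup.mem_map_of_mem f hx)
  obtain ⟨m, hm, hm'⟩ := exists_conj_le_of_not_dvd_relIndex hX hXM hrel (isPGroup_conjBy g hX) hgM
  rw [conjBy_conjBy] at hm'
  have hn := conjBy_eq_iff.1 (conjBy_eq_of_le hm')
  obtain ⟨x, hx, hfx⟩ := Subgroup.mem_comap.1 hm
  refine ⟨x⁻¹ * (m * g), mul_mem (inv_mem (Subgroup.le_normalizer hx)) hn, ?_⟩
  rw [map_mul, map_mul, map_inv, hfx, inv_mul_cancel_left]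

theorem centralizer_map_le [Fact p.Prime] [Finite G] (K : Subgroup G) [K.Normal]
    (hK : ¬ p ∣ Nat.card K) {X : Subgroup G} (hX : IsPGroup p X) :
    Subgroup.centralizer (X.map (QuotientGroup.mk' K) : Set (G ⧸ K)) ≤
      (Subgroup.centralizer (X : Set G)).map (QuotientGroup.mk' K) := by
  intro y hy
  obtain ⟨n, hn, rfl⟩ := normalizer_map_le K hK hX (Subgroup.centralizer_le_normalizer _ hy)
  refine ⟨n, mem_centralizer_iff'.2 fun x hx => ?_, rfl⟩
  have h2 := mem_centralizer_iff'.1 hy _ (Subgroup.mem_map_of_mem _ hx)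
  rw [← map_inv, ← map_mul, ← map_mul] at h2
  have h3 : (n * x * n⁻¹) * x⁻¹ ∈ K := by
    rw [← QuotientGroup.eq_one_iff, ← QuotientGroup.mk'_apply, map_mul, h2, map_inv, mul_inv_cancel]
  have h4 : n * x * n⁻¹ * x⁻¹ = 1 := eq_one_of_pGroup_of_coprime hX
    (X.mul_mem ((Subgroup.mem_normalizer_iff.1 hn x).1 hx) (X.inv_mem hx))
    ((not_dvd_card_iff_forall_coprime_orderOf K).1 hK _ h3)
  exact mul_inv_eq_one.1 h4

theorem normalizer_le_map_normalizer_comap {H : Type*} [Group H] (f : G →* H)
    (hf : Function.Surjective f) (X : Subgroup H) :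
    Subgroup.normalizer (X : Set H) ≤ (Subgroup.normalizer (X.comap f : Set G)).map f := by
  intro y hy
  obtain ⟨g, rfl⟩ := hf y
  refine ⟨g, Subgroup.mem_normalizer_iff.2 fun x => ?_, rfl⟩
  rw [Subgroup.mem_comap, Subgroup.mem_comap, map_mul, map_mul, map_inv]
  exact Subgroup.mem_normalizer_iff.1 hy (f x)

theorem exists_orderOf_of_mem [Finite G] (H : Subgroup G) {q : ℕ} (hq : q.Prime)
    (h : q ∣ Nat.card H) : ∃ x ∈ H, orderOf x = q := by
  haveI := Fact.mk hq
  obtain ⟨x, hx⟩ := exists_prime_orderOf_dvd_card' q h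
  exact ⟨x, x.2, by rw [Subgroup.orderOf_coe, hx]⟩

end aux

/-- Involvement passes up from subgroups. -/
theorem involves_of_injective {X H G : Type*} [Group X] [Group H] [Group G] (f : H →* G)
    (hf : Function.Injective f) (h : Cfsg.Involves X H) : Cfsg.Involves X G := by
  obtain ⟨K, R, hn, ⟨e⟩⟩ := h
  set R₀ := (R ⊓ K).map f with hR₀
  let f' : K ≃* K.map f := K.equivMapOfInjective f hf
  have hmap : (R.subgroupOf K).map f'.toMonoidHom = R₀.subgroupOf (K.map f) := by
    ext ⟨y, hy⟩
    constructor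
    · rintro ⟨⟨x, hx⟩, hxR, hxy⟩
      exact ⟨x, ⟨hxR, hx⟩, congrArg Subtype.val hxy⟩
    · rintro ⟨x, ⟨hxR, hx⟩, hxy⟩
      exact ⟨⟨x, hx⟩, hxR, Subtype.ext hxy⟩
  haveI hn' : (R₀.subgroupOf (K.map f)).Normal := hmap ▸ hn.map _ f'.surjective
  exact ⟨K.map f, R₀, hn', ⟨(QuotientGroup.congr _ _ f' hmap).symm.trans e⟩⟩

/-- Involvement passes up from homomorphic images. -/
theorem involves_of_surjective {X H G : Type*} [Group X] [Group H] [Group G] (f : G →* H)
    (hf : Function.Surjective f) (h : Cfsg.Involves X H) : Cfsg.Involves X G := by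
  obtain ⟨K, R, hn, ⟨e⟩⟩ := h
  let f' : K.comap f →* K := (f.comp (K.comap f).subtype).codRestrict K fun x => x.2
  have hf' : Function.Surjective f' := fun ⟨y, hy⟩ => by
    obtain ⟨x, rfl⟩ := hf y
    exact ⟨⟨x, hy⟩, rfl⟩
  let ψ : K.comap f →* K ⧸ R.subgroupOf K := (QuotientGroup.mk' _).comp f'
  have hker : (R.comap f).subgroupOf (K.comap f) = ψ.ker := by
    rw [← MonoidHom.comap_ker, QuotientGroup.ker_mk']
    rfl
  haveI hn' : ((R.comap f).subgroupOf (K.comap f)).Normal := hker.symm ▸ inferInstance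
  exact ⟨K.comap f, R.comap f, hn', ⟨((QuotientGroup.quotientMulEquivOfEq hker).trans
    (QuotientGroup.quotientKerEquivOfSurjective ψ
      ((QuotientGroup.mk'_surjective _).comp hf'))).trans e⟩⟩

theorem card_sup_mul_card_inf {G : Type*} [Group G] [Finite G] (H V : Subgroup G) [V.Normal] :
    Nat.card (H ⊔ V : Subgroup G) * Nat.card (H ⊓ V : Subgroup G) = Nat.card H * Nat.card V := by
  have e1 := Subgroup.relIndex_mul_relIndex ⊥ V (H ⊔ V) bot_le le_sup_right
  have e2 := Subgroup.relIndex_mul_relIndex ⊥ (H ⊓ V) H bot_le inf_le_left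
  simp only [Subgroup.relIndex_bot_left] at e1 e2
  rw [← e1, ← e2, Subgroup.relIndex_sup_right, inf_comm H V, Subgroup.inf_relIndex_right]
  ring

/-- The final configuration: no abelian subgroup of largest order lies outside the kernel. -/
theorem false_of_offender {G : Type*} [Group G] [Finite G] {p : ℕ} [Fact p.Prime]
    (hfree : p ≠ 2 ∨ ¬ Cfsg.Involves (Equiv.Perm (Fin 4)) G) (P : Sylow p G)
    (R : Subgroup G) [R.Normal] (hRP : R ≤ (P : Subgroup G))
    (hnp : ∀ W : Subgroup G, W.Normal → IsPGroup p W → W ≤ R)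
    (K : Subgroup (G ⧸ R)) [K.Normal] (hKp : ¬ p ∣ Nat.card K)
    (hKP : K ⊔ (P : Subgroup G).map (QuotientGroup.mk' R) = ⊤)
    (hKc : ∀ a ∈ K, ∀ b ∈ K, a * b = b * a)
    (V : Subgroup G) [V.Normal] (hVe : Cfsg.IsElementaryAbelian p V)
    (hCV : Subgroup.centralizer (V : Set G) = R)
    (A : Subgroup G) (hAP : A ≤ (P : Subgroup G)) (hAc : IsMulCommutative A) (hAR : ¬ A ≤ R)
    (hmax : Nat.card ((A ⊓ R) ⊔ V : Subgroup G) ≤ Nat.card A) : False := by
  classical
  set f := QuotientGroup.mk' R with hf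
  set L := K.comap f with hL
  haveI : L.Normal := Subgroup.Normal.comap inferInstance f
  have hmemR : ∀ g, f g = 1 ↔ g ∈ R := fun g => QuotientGroup.eq_one_iff g
  have hlt := offender_lt (p := p) hfree V hVe L A
    (fun x hx y hy => by
      rw [hCV, ← hmemR, map_mul, map_inv, mul_inv_eq_one, map_mul, map_mul]
      exact hKc _ hx _ hy)
    (fun x hx => ⟨Nat.card K, hKp, by
      rw [hCV, ← hmemR, map_pow]
      exact orderOf_dvd_iff_pow_eq_one.1 (Subgroup.orderOf_dvd_natCard _ hx)⟩)
    (P.2.to_le hAP) hAc (by rw [Subgroup.normalizer_eq_top]; exact le_top)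
    (fun a ha h => by
      rw [hCV]
      set P' := (P : Subgroup G).map f
      set P0 := P' ⊓ Subgroup.centralizer (K : Set (G ⧸ R)) with hP0
      haveI hCn : (Subgroup.centralizer (K : Set (G ⧸ R))).Normal := Subgroup.normal_centralizer
      have hP0n : P0.Normal := by
        refine Subgroup.normalizer_eq_top_iff.1 (eq_top_iff.2 ?_)
        rw [← hKP]
        refine sup_le (fun k hk => ?_)
          (CfsgLib.Coprime.inf_le_normalizer Subgroup.le_normalizer
            (by rw [Subgroup.normalizer_eq_top]; exact le_top))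
        refine Subgroup.centralizer_le_normalizer _ (Subgroup.mem_centralizer_iff.2 fun u hu => ?_)
        exact (Subgroup.mem_centralizer_iff.1 hu.2 k hk).symm
      haveI := hP0n
      have hW : IsPGroup p (P0.comap f) := by
        refine P.2.to_le ((Subgroup.comap_mono inf_le_left).trans ?_)
        rw [Subgroup.comap_map_eq, QuotientGroup.ker_mk']
        exact sup_le le_rfl hRP
      refine hnp _ (Subgroup.Normal.comap inferInstance f) hW
        ⟨Subgroup.mem_map_of_mem f (hAP ha), mem_centralizer_iff'.2 fun y hy => ?_⟩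
      obtain ⟨x, rfl⟩ := QuotientGroup.mk'_surjective R y
      have h' := h x hy
      rw [hCV, ← hmemR, map_mul, map_inv, mul_inv_eq_one, map_mul, map_mul] at h'
      exact mul_inv_eq_iff_eq_mul.2 h')
    (by rwa [hCV])
  rw [hCV] at hlt
  have hle : Nat.card ((A ⊓ R) ⊓ V : Subgroup G) ≤
      Nat.card (V ⊓ Subgroup.centralizer (A : Set G) : Subgroup G) :=
    Subgroup.card_le_of_le fun x hx => ⟨hx.2, Subgroup.mem_centralizer_iff.2 fun a ha =>
      congrArg Subtype.val (hAc.is_comm.comm (⟨a, ha⟩ : A) ⟨x, hx.1.1⟩)⟩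
  have e := card_sup_mul_card_inf (A ⊓ R) V
  have h2 : Nat.card (A ⊓ R : Subgroup G) * Nat.card V ≤
      Nat.card A * Nat.card (V ⊓ Subgroup.centralizer (A : Set G) : Subgroup G) := by
    rw [← e]; exact Nat.mul_le_mul hmax hle
  rw [mul_comm (Nat.card A), mul_comm (Nat.card (A ⊓ R : Subgroup G))] at h2
  exact absurd (h2.trans_lt hlt) (lt_irrefl _)

/-- Thompson's normal `p`-complement theorem, for odd `p` or when `S₄` is not involved. -/
theorem hasNormalPComplement_of_thompson_free {p : ℕ} [Fact p.Prime] :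
    ∀ (G : Type u) [Group G] [Finite G]
      (_ : p ≠ 2 ∨ ¬ Cfsg.Involves (Equiv.Perm (Fin 4)) G) (P : Sylow p G),
      Cfsg.HasNormalPComplement p
        (Subgroup.normalizer (Cfsg.thompsonSubgroupOf p (P : Subgroup G) : Set G)) →
      Cfsg.HasNormalPComplement p (Subgroup.centralizer (centerOf (P : Subgroup G) : Set G)) →
      Cfsg.HasNormalPComplement p G := by
  intro G
  induction hn : Nat.card G using Nat.strong_induction_on generalizing G with
  | _ n ih =>
  intro _ _ hfree P hJ hZ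
  classical
  by_contra hG
  haveI hnil : Group.IsNilpotent (P : Subgroup G) := P.2.isNilpotent
  -- induction inside a proper subgroup
  have key : ∀ N : Subgroup G, N ≠ ⊤ → ∀ T : Subgroup G, T ≤ N → T ≤ (P : Subgroup G) →
      ¬ p ∣ T.relIndex N →
      Cfsg.HasNormalPComplement p
        (Subgroup.normalizer (Cfsg.thompsonSubgroupOf p T : Set G)) →
      centerOf (P : Subgroup G) ≤ T → Cfsg.HasNormalPComplement p N := by
    intro N hN T hTN hTP hTi hTJ hTZ
    have hlt : Nat.card N < n := hn ▸ lt_of_le_of_ne (Subgroup.card_le_card_group N)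
      fun h => hN (Subgroup.eq_top_of_card_eq N h)
    let S : Sylow p N :=
      ((P.2.to_le hTP).of_equiv (Subgroup.subgroupOfEquivOfLe hTN).symm).toSylow hTi
    have hS : (S : Subgroup N) = T.subgroupOf N := rfl
    have hmap : (S : Subgroup N).map N.subtype = T := by
      rw [hS]; exact Subgroup.map_subgroupOf_eq_of_le hTN
    refine ih _ hlt N rfl (hfree.imp id fun h h' => h (involves_of_injective N.subtype N.subtype_injective h')) S ?_ ?_
    · refine hasNormalPComplement_of_map ?_ hTJ
      refine (Subgroup.le_normalizer_map N.subtype).trans (le_of_eq ?_)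
      rw [map_thompsonSubgroupOf N.subtype (fun x _ h => Subtype.ext h), hmap]
    · refine hasNormalPComplement_of_map ?_ hZ
      rintro _ ⟨c, hc, rfl⟩
      refine Subgroup.mem_centralizer_iff.2 fun z hz => ?_
      have hzT := hTZ hz
      refine congrArg Subtype.val (Subgroup.mem_centralizer_iff.1 hc ⟨z, hTN hzT⟩ ⟨hzT, ?_⟩)
      exact Subgroup.mem_centralizer_iff.2 fun w hw =>
        Subtype.ext (Subgroup.mem_centralizer_iff.1 hz.2 (w : G) (hTP hw))
  -- there is a `p`-subgroup with bad normalizer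
  obtain ⟨H0, hH0⟩ : ∃ H : Subgroup G, H ≤ (P : Subgroup G) ∧ H ≠ ⊥ ∧
      ¬ Cfsg.HasNormalPComplement p (Subgroup.normalizer (H : Set G)) ∧
      ¬ p ∣ ((P : Subgroup G) ⊓ Subgroup.normalizer (H : Set G)).relIndex
        (Subgroup.normalizer (H : Set G)) := by
    by_contra hcon
    refine hG (hasNormalPComplement_of_locallyPNilpotentAction P
      (locallyPNilpotentAction_of_hasNormalPComplement _ (fun Q hQ hQb => ?_) P.2))
    by_contra hbad
    obtain ⟨g, hg1, -, hg3⟩ := exists_conj_fully_normalized P hQ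
    refine hcon ⟨conjBy g Q, hg1, fun h => hQb ?_, fun h => hbad ?_, hg3⟩
    · rw [← conjBy_inv_conjBy g Q, h]; exact Subgroup.map_bot _
    · refine hasNormalPComplement_of_injective
        (((MulAut.conj g).toMonoidHom.comp
          (Subgroup.normalizer (Q : Set G)).subtype).codRestrict _ fun x => ?_) ?_ h
      · rw [← conjBy_normalizer]
        exact ⟨x, x.2, rfl⟩
      · intro a b hab
        exact Subtype.ext ((MulAut.conj g).injective (congrArg Subtype.val hab))
  haveI : Nonempty {H : Subgroup G // H ≤ (P : Subgroup G) ∧ H ≠ ⊥ ∧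
      ¬ Cfsg.HasNormalPComplement p (Subgroup.normalizer (H : Set G)) ∧
      ¬ p ∣ ((P : Subgroup G) ⊓ Subgroup.normalizer (H : Set G)).relIndex
        (Subgroup.normalizer (H : Set G))} := ⟨⟨H0, hH0⟩⟩
  obtain ⟨⟨H, hHP, hHb, hHbad, hHi⟩, hHmax⟩ := Finite.exists_max
    fun H : {H : Subgroup G // H ≤ (P : Subgroup G) ∧ H ≠ ⊥ ∧
      ¬ Cfsg.HasNormalPComplement p (Subgroup.normalizer (H : Set G)) ∧
      ¬ p ∣ ((P : Subgroup G) ⊓ Subgroup.normalizer (H : Set G)).relIndex
        (Subgroup.normalizer (H : Set G))} =>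
      Nat.card ((P : Subgroup G) ⊓ Subgroup.normalizer (H.1 : Set G) : Subgroup G)
  set T := (P : Subgroup G) ⊓ Subgroup.normalizer (H : Set G) with hT
  have hgood : ∀ Q : Subgroup G, Q ≤ (P : Subgroup G) → Q ≠ ⊥ →
      Nat.card T < Nat.card ((P : Subgroup G) ⊓ Subgroup.normalizer (Q : Set G) : Subgroup G) →
      Cfsg.HasNormalPComplement p (Subgroup.normalizer (Q : Set G)) := by
    intro Q hQ hQb hlt
    by_contra hbad
    obtain ⟨g, hg1, hg2, hg3⟩ := exists_conj_fully_normalized P hQ
    have h := hHmax ⟨conjBy g Q, hg1, fun h => hQb (by rw [← conjBy_inv_conjBy g Q, h]; exact Subgroup.map_bot _),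
      fun h => hbad (hasNormalPComplement_of_injective
        (((MulAut.conj g).toMonoidHom.comp
          (Subgroup.normalizer (Q : Set G)).subtype).codRestrict _ fun x => by
            rw [← conjBy_normalizer]; exact ⟨x, x.2, rfl⟩)
        (fun a b hab => Subtype.ext ((MulAut.conj g).injective (congrArg Subtype.val hab))) h), hg3⟩
    have h2 := Subgroup.card_le_of_le hg2
    rw [card_conjBy] at h2
    exact absurd (h2.trans h) (not_le.2 hlt)
  -- `H` is normal
  have hHn : Subgroup.normalizer (H : Set G) = ⊤ := by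
    by_contra hne
    refine hHbad (key _ hne T inf_le_right inf_le_left hHi ?_ ?_)
    · by_cases hTP : T = (P : Subgroup G)
      · rw [hTP]; exact hJ
      · have hTb : T ≠ ⊥ := fun h => hHb (le_bot_iff.1 (h ▸ le_inf hHP Subgroup.le_normalizer))
        refine hgood _ ((thompsonSubgroupOf_le T).trans inf_le_left)
          (thompsonSubgroupOf_ne_bot (P.2.to_le inf_le_left) hTb) ?_
        have hlt := lt_inf_normalizer (inf_le_left : T ≤ (P : Subgroup G)) hTP
        have h3 := Set.ncard_lt_ncard (SetLike.coe_ssubset_coe.2 hlt) (Set.toFinite _)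
        simp only [← Nat.card_coe_set_eq, SetLike.coe_sort_coe] at h3
        exact lt_of_lt_of_le h3 (Subgroup.card_le_of_le (inf_le_inf_left _
          (normalizer_le_normalizer_thompsonSubgroupOf T)))
    · intro z hz
      refine ⟨hz.1, Subgroup.centralizer_le_normalizer _ (Subgroup.mem_centralizer_iff.2 fun w hw => ?_)⟩
      exact Subgroup.mem_centralizer_iff.1 hz.2 w (hHP hw)
  haveI : H.Normal := Subgroup.normalizer_eq_top_iff.1 hHn
  -- proper subgroups containing `P` have complements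
  have keyP : ∀ N : Subgroup G, N ≠ ⊤ → (P : Subgroup G) ≤ N → Cfsg.HasNormalPComplement p N :=
    fun N hN hPN => key N hN _ hPN le_rfl
      (fun hd => P.not_dvd_index (hd.trans (Subgroup.relIndex_dvd_index_of_le hPN))) hJ inf_le_left
  -- no normal subgroup of order prime to `p`
  have hK : ∀ K : Subgroup G, K.Normal → ¬ p ∣ Nat.card K → K = ⊥ := by
    intro K hKn hKp
    by_contra hne
    haveI := hKn
    set f := QuotientGroup.mk' K
    have hlt : Nat.card (G ⧸ K) < n := by
      rw [← hn, Subgroup.card_eq_card_quotient_mul_card_subgroup K]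
      exact lt_mul_of_one_lt_right Nat.card_pos (Subgroup.one_lt_card_iff_ne_bot K |>.2 hne)
    have hinj : ∀ x ∈ (P : Subgroup G), f x = 1 → x = 1 := fun x hx h =>
      eq_one_of_pGroup_of_coprime P.2 hx ((not_dvd_card_iff_forall_coprime_orderOf K).1 hKp x
        ((QuotientGroup.eq_one_iff x).1 h))
    let P' : Sylow p (G ⧸ K) := P.mapSurjective (QuotientGroup.mk'_surjective K)
    have hP' : (P' : Subgroup (G ⧸ K)) = (P : Subgroup G).map f := rfl
    have hcomp : Cfsg.HasNormalPComplement p (G ⧸ K) := by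
      refine ih _ hlt (G ⧸ K) rfl (hfree.imp id fun h h' => h (involves_of_surjective f (QuotientGroup.mk'_surjective K) h')) P' ?_ ?_
      · rw [hP', ← map_thompsonSubgroupOf f hinj]
        exact hasNormalPComplement_of_le
          (normalizer_map_le K hKp (P.2.to_le (thompsonSubgroupOf_le _)))
          (hasNormalPComplement_of_surjective _ (f.subgroupMap_surjective _) hJ)
      · rw [hP']
        refine hasNormalPComplement_of_le (le_trans ?_
          (centralizer_map_le K hKp (P.2.to_le (inf_le_left (b := _)))))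
          (hasNormalPComplement_of_surjective _ (f.subgroupMap_surjective _) hZ)
        refine Subgroup.centralizer_le ?_
        rintro _ ⟨z, hz, rfl⟩
        refine ⟨⟨z, hz.1, rfl⟩, Subgroup.mem_centralizer_iff.2 ?_⟩
        rintro _ ⟨w, hw, rfl⟩
        rw [← map_mul, ← map_mul, Subgroup.mem_centralizer_iff.1 hz.2 w hw]
    refine hG (hasNormalPComplement_iff_coprime.2 fun g hg => ?_)
    have h1 : f g ∈ Cfsg.pResidual p (G ⧸ K) := by
      have h2 : Cfsg.pResidual p G ≤ (Cfsg.pResidual p (G ⧸ K)).comap f :=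
        (Subgroup.closure_le _).2 fun x hx =>
          mem_pResidual (Nat.Coprime.coprime_dvd_left (orderOf_map_dvd f x) hx)
      exact h2 hg
    have h3 := hasNormalPComplement_iff_coprime.1 hcomp _ h1
    have h4 : g ^ orderOf (f g) ∈ K := by
      rw [← QuotientGroup.eq_one_iff, ← QuotientGroup.mk'_apply, map_pow]
      exact pow_orderOf_eq_one _
    have h5 : (g ^ orderOf (f g)) ^ Nat.card K = 1 :=
      orderOf_dvd_iff_pow_eq_one.1 (Subgroup.orderOf_dvd_natCard _ h4)
    rw [← pow_mul] at h5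
    exact Nat.Coprime.coprime_dvd_left (orderOf_dvd_of_pow_eq_one h5)
      (Nat.Coprime.mul_left h3 (Nat.coprime_comm.2 ((Fact.out : p.Prime).coprime_iff_not_dvd.2 hKp)))
  -- normal subgroups with complements have no nontrivial elements of order prime to `p`
  have hDsmall : ∀ D : Subgroup G, D.Normal → Cfsg.HasNormalPComplement p D →
      ∀ g ∈ D, Nat.Coprime (orderOf g) p → g = 1 := by
    intro D hDn hD g hg hgc
    set M := (Cfsg.pResidual p D).map D.subtype with hM
    have hMn : M.Normal := by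
      refine ⟨fun x hx c => ?_⟩
      let e : D →* D :=
        { toFun := fun d => ⟨c * d * c⁻¹, hDn.conj_mem _ d.2 c⟩
          map_one' := Subtype.ext (by simp)
          map_mul' := fun a b => Subtype.ext (by simp [mul_assoc]) }
      obtain ⟨d, hd, rfl⟩ := hx
      have h2 : Cfsg.pResidual p D ≤ (Cfsg.pResidual p D).comap e :=
        (Subgroup.closure_le _).2 fun x hx =>
          mem_pResidual (Nat.Coprime.coprime_dvd_left (orderOf_map_dvd e x) hx)
      exact ⟨e d, h2 hd, rfl⟩
    have hMp : ¬ p ∣ Nat.card M := by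
      rw [hM, Subgroup.card_map_of_injective D.subtype_injective]
      exact hasNormalPComplement_iff_not_dvd.1 hD
    have hgM : g ∈ M := ⟨⟨g, hg⟩, mem_pResidual (by rwa [Subgroup.orderOf_mk]), rfl⟩
    rwa [hK M hMn hMp, Subgroup.mem_bot] at hgM
  -- the largest normal `p`-subgroup
  set R := (P : Subgroup G).normalCore with hRdef
  have hRP : R ≤ (P : Subgroup G) := Subgroup.normalCore_le _
  have hnp : ∀ W : Subgroup G, W.Normal → IsPGroup p W → W ≤ R := by
    intro W hWn hWp
    refine Subgroup.normal_le_normalCore.2 ?_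
    obtain ⟨S, hS⟩ := hWp.exists_le_sylow
    obtain ⟨g, hg⟩ := MulAction.exists_smul_eq G S P
    intro w hw
    have h1 : g⁻¹ * w * g ∈ (S : Subgroup G) := hS (by simpa using hWn.conj_mem w hw g⁻¹)
    rw [← hg, Sylow.coe_subgroup_smul]
    exact ⟨_, h1, by simp [MulAut.conj_apply, mul_assoc]⟩
  have hHR : H ≤ R := hnp H inferInstance (P.2.to_le hHP)
  have hRb : R ≠ ⊥ := fun h => hHb (le_bot_iff.1 (h ▸ hHR))
  have hnpc : ∀ C : Subgroup G, C.Normal → (∀ g ∈ C, Nat.Coprime (orderOf g) p → g = 1) → C ≤ R := by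
    intro C hC h
    haveI := pResidual_normal (G := C) (p := p)
    refine hnp C hC (IsPGroup.of_equiv (isPGroup_quotient_pResidual (p := p) (⊥ : Subgroup C) ?_)
      QuotientGroup.quotientBot)
    refine (Subgroup.closure_le _).2 fun g hg => ?_
    exact Subtype.ext (h g g.2 (by rw [Subgroup.orderOf_coe]; exact hg))
  set f := QuotientGroup.mk' R with hf
  set P' := (P : Subgroup G).map f with hP'
  have hcomapP : P'.comap f = (P : Subgroup G) := by
    rw [hP', Subgroup.comap_map_eq, QuotientGroup.ker_mk', sup_eq_left]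
    exact hRP
  have hRneP : R ≠ (P : Subgroup G) := by
    intro h
    refine hG (hasNormalPComplement_congr (Subgroup.topEquiv (G := G)) |>.1 ?_)
    refine hasNormalPComplement_of_le (le_of_eq ?_) hJ
    haveI : (P : Subgroup G).Normal := by rw [← h]; infer_instance
    exact (le_antisymm le_top (le_trans (Subgroup.normalizer_eq_top (P : Subgroup G)).ge
      (normalizer_le_normalizer_thompsonSubgroupOf _))).symm
  have hP'b : P' ≠ ⊥ := by
    intro h
    refine hRneP (le_antisymm hRP ?_)
    rw [← hcomapP, h, MonoidHom.comap_bot, QuotientGroup.ker_mk']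
  -- normalizers of characteristic subgroups of `P'` in the quotient
  have hquot : ∀ X : Subgroup (G ⧸ R), X ≤ P' → X ≠ ⊥ →
      P' ≤ Subgroup.normalizer (X : Set (G ⧸ R)) →
      Cfsg.HasNormalPComplement p (Subgroup.normalizer (X : Set (G ⧸ R))) := by
    intro X hX hXb hXn
    have h1 : X.comap f ≤ (P : Subgroup G) := (Subgroup.comap_mono hX).trans hcomapP.le
    have hne : Subgroup.normalizer (X.comap f : Set G) ≠ ⊤ := by
      intro ht
      have hle := hnp _ (Subgroup.normalizer_eq_top_iff.1 ht) (P.2.to_le h1)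
      refine hXb (le_bot_iff.1 ?_)
      rw [← Subgroup.map_comap_eq_self_of_surjective (QuotientGroup.mk'_surjective R) X,
        ← QuotientGroup.map_mk'_self R]
      exact Subgroup.map_mono hle
    have hPN : (P : Subgroup G) ≤ Subgroup.normalizer (X.comap f : Set G) := by
      intro u hu
      refine Subgroup.mem_normalizer_iff.2 fun x => ?_
      rw [Subgroup.mem_comap, Subgroup.mem_comap, map_mul, map_mul, map_inv]
      exact Subgroup.mem_normalizer_iff.1 (hXn ⟨u, hu, rfl⟩) (f x)
    exact hasNormalPComplement_of_le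
      (normalizer_le_map_normalizer_comap f (QuotientGroup.mk'_surjective R) X)
      (hasNormalPComplement_of_surjective _ (f.subgroupMap_surjective _) (keyP _ hne hPN))
  let P'' : Sylow p (G ⧸ R) := P.mapSurjective (QuotientGroup.mk'_surjective R)
  have hP'' : (P'' : Subgroup (G ⧸ R)) = P' := rfl
  have hP'p : IsPGroup p P' := P.2.map f
  have hQcomp : Cfsg.HasNormalPComplement p (G ⧸ R) := by
    have hlt : Nat.card (G ⧸ R) < n := by
      rw [← hn, Subgroup.card_eq_card_quotient_mul_card_subgroup R]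
      exact lt_mul_of_one_lt_right Nat.card_pos (Subgroup.one_lt_card_iff_ne_bot R |>.2 hRb)
    refine ih _ hlt (G ⧸ R) rfl (hfree.imp id fun h h' => h (involves_of_surjective f (QuotientGroup.mk'_surjective R) h')) P'' ?_ ?_
    · rw [hP'']
      exact hquot _ (thompsonSubgroupOf_le _) (thompsonSubgroupOf_ne_bot hP'p hP'b)
        (le_trans Subgroup.le_normalizer (normalizer_le_normalizer_thompsonSubgroupOf _))
    · rw [hP'']
      exact hasNormalPComplement_of_le (Subgroup.centralizer_le_normalizer _)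
        (hquot _ inf_le_left (centerOf_ne_bot hP'p hP'b)
          (le_trans Subgroup.le_normalizer (normalizer_le_normalizer_centerOf _)))
  haveI hKn : (Cfsg.pResidual p (G ⧸ R)).Normal := pResidual_normal
  set K := Cfsg.pResidual p (G ⧸ R) with hKdef
  have hKp : ¬ p ∣ Nat.card K := hasNormalPComplement_iff_not_dvd.1 hQcomp
  have hKc : K.IsComplement' P' := hasNormalPComplement_iff_forall_sylow.1 hQcomp P''
  have hmemK : ∀ g : G, Nat.Coprime (orderOf g) p → f g ∈ K := fun g hg =>
    mem_pResidual (Nat.Coprime.coprime_dvd_left (orderOf_map_dvd f g) hg)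
  set L := K.comap f with hL
  haveI hLn : L.Normal := Subgroup.Normal.comap hKn f
  have hpL : ∀ S : Subgroup G, IsPGroup p S → S ≤ L → S ≤ R := by
    intro S hS hSL x hx
    refine (QuotientGroup.eq_one_iff x).1 ?_
    exact eq_one_of_pGroup_of_coprime (hS.map f) (Subgroup.mem_map_of_mem f hx)
      ((not_dvd_card_iff_forall_coprime_orderOf K).1 hKp _ (hSL hx))
  -- `C(R) ≤ R`
  have hCR : Subgroup.centralizer (R : Set G) ≤ R := by
    haveI hCn : (Subgroup.centralizer (R : Set G)).Normal := Subgroup.normal_centralizer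
    set D := Subgroup.centralizer (R : Set G) ⊓ L with hD
    haveI hDn : D.Normal := inferInstance
    obtain ⟨S, -, hSD, hSp, hSi⟩ := exists_le_not_dvd_relIndex (p := p)
      (IsPGroup.of_bot (G := G) (p := p)) (bot_le (a := D))
    have hSR : S ≤ R := hpL S hSp (hSD.trans inf_le_right)
    let S' : Sylow p D := (hSp.of_equiv (Subgroup.subgroupOfEquivOfLe hSD).symm).toSylow hSi
    have hDc : Cfsg.HasNormalPComplement p D := by
      refine hasNormalPComplement_of_normalizer_le_centralizer S' fun d _ => ?_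
      exact Subgroup.mem_centralizer_iff.2 fun a ha => Subtype.ext
        (Subgroup.mem_centralizer_iff.1 d.2.1 (a : G) (hSR ha))
    exact hnpc _ hCn fun g hg hgc => hDsmall D hDn hDc g ⟨hg, hmemK g hgc⟩ hgc
  have hZR : centerOf (P : Subgroup G) ≤ centerOf R := by
    intro z hz
    have h1 : z ∈ Subgroup.centralizer (R : Set G) :=
      Subgroup.mem_centralizer_iff.2 fun w hw => Subgroup.mem_centralizer_iff.1 hz.2 w (hRP hw)
    exact ⟨hCR h1, h1⟩
  -- `C(Ω₁ Z(R)) ≤ R`
  have hV : ∀ g : G, g ∈ Subgroup.centralizer {x : G | x ∈ centerOf R ∧ x ^ p = 1} → g ∈ R := by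
    set Vs := {x : G | x ∈ centerOf R ∧ x ^ p = 1} with hVs
    have hRN : ∀ g : G, g ∈ Subgroup.normalizer (centerOf R : Set G) := fun g =>
      normalizer_le_normalizer_centerOf R (by rw [Subgroup.normalizer_eq_top]; exact Subgroup.mem_top g)
    have hCn : (Subgroup.centralizer Vs).Normal := by
      refine ⟨fun c hc g => Subgroup.mem_centralizer_iff.2 fun x hx => ?_⟩
      have hx' : g⁻¹ * x * g ∈ Vs := ⟨(Subgroup.mem_normalizer_iff''.1 (hRN g) x).1 hx.1, by
        rw [show g⁻¹ * x * g = g⁻¹ * x * (g⁻¹)⁻¹ by group, conj_pow, hx.2, mul_one, mul_inv_cancel]⟩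
      have h := Subgroup.mem_centralizer_iff.1 hc _ hx'
      calc x * (g * c * g⁻¹) = g * (g⁻¹ * x * g * c) * g⁻¹ := by group
        _ = g * (c * (g⁻¹ * x * g)) * g⁻¹ := by rw [h]
        _ = g * c * g⁻¹ * x := by group
    haveI hZn : (centerOf R).Normal := Subgroup.normalizer_eq_top_iff.1
      (eq_top_iff.2 fun g _ => hRN g)
    haveI : (Subgroup.centralizer (centerOf R : Set G)).Normal := Subgroup.normal_centralizer
    set D2 := Subgroup.centralizer (centerOf R : Set G) ⊓ L with hD2
    have hD2c : Cfsg.HasNormalPComplement p D2 :=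
      hasNormalPComplement_of_le (le_trans inf_le_left (Subgroup.centralizer_le hZR)) hZ
    intro g hg
    refine hnpc _ hCn (fun c hc hcc => hDsmall D2 inferInstance hD2c c ⟨?_, hmemK c hcc⟩ hcc) hg
    refine mem_centralizer_of_fix_omega (P.2.to_le (inf_le_left.trans hRP))
      (fun a ha b hb => Subgroup.mem_centralizer_iff.1 hb.2 a ha.1) (hRN c) hcc fun z hz hzp => ?_
    rw [← Subgroup.mem_centralizer_iff.1 hc z ⟨hz, hzp⟩, mul_inv_cancel_right]
  -- `K` is abelian
  have hKb : K ≠ ⊥ := by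
    intro h
    refine hG (hasNormalPComplement_of_isPGroup ?_)
    have h2 : IsPGroup p (G ⧸ R) := by
      refine (IsPGroup.of_equiv (isPGroup_quotient_pResidual (p := p) (⊥ : Subgroup (G ⧸ R))
        (h ▸ le_rfl)) QuotientGroup.quotientBot)
    intro g
    obtain ⟨k, hk⟩ := h2 (f g)
    rw [← map_pow, QuotientGroup.mk'_apply, QuotientGroup.eq_one_iff] at hk
    obtain ⟨j, hj⟩ := (P.2.to_le hRP) ⟨_, hk⟩
    exact ⟨k + j, by rw [pow_add, pow_mul]; exact congrArg Subtype.val hj⟩
  obtain ⟨q, hq, hqd⟩ := Nat.exists_prime_and_dvd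
    (show Nat.card K ≠ 1 from fun h => hKb (Subgroup.card_eq_one.1 h))
  haveI := Fact.mk hq
  obtain ⟨Q0, -, hQ0K, hQ0q, hQ0i⟩ := exists_le_not_dvd_relIndex (p := q)
    (IsPGroup.of_bot (G := G ⧸ R) (p := q)) (bot_le (a := K))
  obtain ⟨Q, hQK, hQq, hQi, hQP⟩ : ∃ Q : Subgroup (G ⧸ R), Q ≤ K ∧ IsPGroup q Q ∧
      ¬ q ∣ Q.relIndex K ∧ P' ≤ Subgroup.normalizer (Q : Set (G ⧸ R)) := by
    set N := Subgroup.normalizer (Q0 : Set (G ⧸ R)) with hN
    have hgK : ∀ g : G ⧸ R, conjBy g K = K := fun g =>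
      conjBy_eq_iff.2 (by rw [Subgroup.normalizer_eq_top]; exact Subgroup.mem_top g)
    have hKN : N ⊔ K = ⊤ := by
      rw [eq_top_iff]
      intro g _
      obtain ⟨k, hk, hk'⟩ := exists_conj_le_of_not_dvd_relIndex hQ0q hQ0K hQ0i
        (isPGroup_conjBy g hQ0q) (le_trans (conjBy_mono hQ0K) (hgK g).le)
      rw [conjBy_conjBy] at hk'
      have h2 := conjBy_eq_iff.1 (conjBy_eq_of_le hk')
      rw [sup_comm, show g = k⁻¹ * (k * g) by group]
      exact Subgroup.mul_mem_sup (inv_mem hk) h2
    have h1 : K.index ∣ Nat.card N := by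
      have e := Subgroup.relIndex_sup_right N K
      rw [hKN, Subgroup.relIndex_top_right] at e
      rw [e]
      exact Subgroup.relIndex_dvd_card _ _
    obtain ⟨S, -, hSN, hSp, hSi⟩ := exists_le_not_dvd_relIndex (p := p)
      (IsPGroup.of_bot (G := G ⧸ R) (p := p)) (bot_le (a := N))
    obtain ⟨a, ha⟩ := hP'p.exists_card_eq
    have h2 : p ^ a ∣ Nat.card S := by
      have e1 := Subgroup.relIndex_mul_relIndex ⊥ S N bot_le hSN
      simp only [Subgroup.relIndex_bot_left] at e1
      rw [hKc.symm.index_eq_card, ha, ← e1] at h1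
      exact Nat.Coprime.dvd_of_dvd_mul_right
        (Nat.Coprime.pow_left a ((Fact.out : p.Prime).coprime_iff_not_dvd.2 hSi)) h1
    obtain ⟨c, hc⟩ := MulAction.exists_smul_eq (G ⧸ R) (hSp.exists_le_sylow.choose) P''
    have hSc : conjBy c S = P' := by
      refine Subgroup.eq_of_le_of_card_ge ?_ ?_
      · rw [← hP'', ← hc, Sylow.coe_subgroup_smul]
        exact Subgroup.map_mono hSp.exists_le_sylow.choose_spec
      · rw [card_conjBy, ha]
        exact Nat.le_of_dvd Nat.card_pos h2
    refine ⟨conjBy c Q0, (conjBy_mono hQ0K).trans (hgK c).le, isPGroup_conjBy c hQ0q, ?_, ?_⟩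
    · have h := not_dvd_relIndex_conjBy c hQ0i
      rwa [hgK c] at h
    · rw [← hSc, ← conjBy_normalizer]
      exact conjBy_mono hSN
  have hQb : Q ≠ ⊥ := by
    rintro rfl
    rw [Subgroup.relIndex_bot_left] at hQi
    exact hQi hqd
  set Zq := centerOf Q with hZqdef
  have hZqb : Zq ≠ ⊥ := centerOf_ne_bot hQq hQb
  have hZqn : P' ≤ Subgroup.normalizer (Zq : Set (G ⧸ R)) :=
    hQP.trans (normalizer_le_normalizer_centerOf Q)
  have hM : P' ⊔ Zq = ⊤ := by
    by_contra hne
    set M0 := (P' ⊔ Zq).comap f with hM0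
    have hPM : (P : Subgroup G) ≤ M0 :=
      hcomapP.ge.trans (Subgroup.comap_mono le_sup_left)
    have hM0t : M0 ≠ ⊤ := by
      intro h
      refine hne ?_
      rw [← Subgroup.map_comap_eq_self_of_surjective (QuotientGroup.mk'_surjective R) (P' ⊔ Zq),
        ← hM0, h, Subgroup.map_top_of_surjective _ (QuotientGroup.mk'_surjective R)]
    have hMc := keyP M0 hM0t hPM
    haveI hres := pResidual_normal (G := M0) (p := p)
    obtain ⟨g, hg, hgq⟩ : ∃ g ∈ Zq.comap f, orderOf g = q := by
      refine exists_orderOf_of_mem _ hq ?_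
      have hz : q ∣ Nat.card Zq := by
        obtain ⟨j, hj⟩ := (hQq.to_le (inf_le_left : Zq ≤ Q)).exists_card_eq
        rw [hj]
        refine dvd_pow_self q fun h0 => hZqb (Subgroup.card_eq_one.1 ?_)
        rw [hj, h0, pow_zero]
      have h2 : Nat.card Zq ∣ Nat.card (Zq.comap f) := by
        have h := Subgroup.card_map_dvd (H := Zq.comap f) f
        rwa [Subgroup.map_comap_eq_self_of_surjective (QuotientGroup.mk'_surjective R)] at h
      exact hz.trans h2
    have hqp : q ≠ p := fun h => hKp (h ▸ hqd)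
    have hgc : Nat.Coprime (orderOf g) p := by rw [hgq]; exact (Nat.coprime_primes hq Fact.out).2 hqp
    have hgM : g ∈ M0 := Subgroup.comap_mono le_sup_right hg
    have hdis : Disjoint (Cfsg.pResidual p M0) (R.subgroupOf M0) := by
      rw [Subgroup.disjoint_def]
      intro y hy hy'
      exact Subtype.ext (eq_one_of_pGroup_of_coprime (P.2.to_le hRP) hy'
        (by rw [Subgroup.orderOf_coe]; exact hasNormalPComplement_iff_coprime.1 hMc y hy))
    have h3 : g ∈ Subgroup.centralizer (R : Set G) := Subgroup.mem_centralizer_iff.2 fun r hr => by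
      have hrM : r ∈ M0 := hPM (hRP hr)
      have h4 := mem_centralizer_of_disjoint hres inferInstance hdis
        (mem_pResidual (g := (⟨g, hgM⟩ : M0)) (by rwa [Subgroup.orderOf_mk]))
      exact congrArg Subtype.val (Subgroup.mem_centralizer_iff.1 h4 ⟨r, hrM⟩ hr)
    have h5 := eq_one_of_pGroup_of_coprime (P.2.to_le hRP) (hCR h3) hgc
    rw [h5, orderOf_one] at hgq
    exact hq.one_lt.ne hgq
  have hKZ : K ≤ Zq := by
    intro k hk
    have hm := hM.symm ▸ Subgroup.mem_top k
    have hm' : k ∈ ((P' ⊔ Zq : Subgroup (G ⧸ R)) : Set (G ⧸ R)) := hm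
    rw [Subgroup.coe_mul_of_left_le_normalizer_right _ _ hZqn] at hm'
    obtain ⟨u, hu, z, hz, rfl⟩ := hm'
    have huK : u ∈ K := by
      have h := mul_mem hk (inv_mem (hQK hz.1))
      rwa [mul_inv_cancel_right] at h
    show u * z ∈ Zq
    rw [eq_one_of_pGroup_of_coprime hP'p hu
      ((not_dvd_card_iff_forall_coprime_orderOf K).1 hKp u huK), one_mul]
    exact hz
  suffices hJR : Cfsg.thompsonSubgroupOf p (P : Subgroup G) ≤ R by
    revert hJR

    intro hJR
    refine hG (hasNormalPComplement_congr (Subgroup.topEquiv (G := G)) |>.1 ?_)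
    refine hasNormalPComplement_of_le (le_of_eq ?_) hJ
    have hJeq : Cfsg.thompsonSubgroupOf p (P : Subgroup G) = Cfsg.thompsonSubgroupOf p R := by
      have hmax : ∀ A, IsMaxEA p (P : Subgroup G) A → A ≤ R := fun A hA =>
        (le_thompsonSubgroupOf hA).trans hJR
      rw [thompsonSubgroupOf_eq p (P : Subgroup G), thompsonSubgroupOf_eq p R]
      apply le_antisymm
      · refine sSup_le fun A hA => le_sSup (show IsMaxEA p R A from
          ⟨hmax A hA, hA.2.1, fun B hB hBe => hA.2.2 B (hB.trans hRP) hBe⟩)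
      · refine sSup_le fun A hA => le_sSup (show IsMaxEA p (P : Subgroup G) A from
          ⟨hA.1.trans hRP, hA.2.1, fun B hB hBe => ?_⟩)
        obtain ⟨A0, hA0⟩ := exists_isMaxEA p (P : Subgroup G)
        exact (hA0.2.2 B hB hBe).trans (hA.2.2 A0 (hmax A0 hA0) hA0.2.1)
    rw [hJeq]
    exact (le_antisymm le_top (le_trans (Subgroup.normalizer_eq_top R).ge
      (normalizer_le_normalizer_thompsonSubgroupOf R))).symm
  rw [thompsonSubgroupOf_eq]
  refine sSup_le fun A hA => by_contra fun hAR => ?_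
  have hA' : IsMaxEA p (P : Subgroup G) A := hA
  let Vs : Subgroup G :=
    { carrier := {x : G | x ∈ centerOf R ∧ x ^ p = 1}
      one_mem' := ⟨one_mem _, one_pow p⟩
      mul_mem' := fun {a b} ha hb => ⟨mul_mem ha.1 hb.1, by
        have hc : Commute a b := Subgroup.mem_centralizer_iff.1 hb.1.2 a ha.1.1
        rw [hc.mul_pow, ha.2, hb.2, one_mul]⟩
      inv_mem' := fun {a} ha => ⟨inv_mem ha.1, by rw [inv_pow, ha.2, inv_one]⟩ }
  haveI hVn : Vs.Normal := by
    refine ⟨fun x hx g => ⟨?_, by rw [conj_pow, hx.2, mul_one, mul_inv_cancel]⟩⟩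
    have hg : g ∈ Subgroup.normalizer (R : Set G) := by
      rw [Subgroup.normalizer_eq_top]; exact Subgroup.mem_top g
    exact (Subgroup.mem_normalizer_iff.1 (normalizer_le_normalizer_centerOf R hg) x).1 hx.1
  have hVR : Vs ≤ R := fun x hx => hx.1.1
  have hVe : Cfsg.IsElementaryAbelian p Vs :=
    ⟨⟨⟨fun a b => Subtype.ext (Subgroup.mem_centralizer_iff.1 b.2.1.2 a a.2.1.1)⟩⟩, fun x hx => hx.2⟩
  have hRC : R ≤ Subgroup.centralizer (Vs : Set G) := fun r hr =>
    Subgroup.mem_centralizer_iff.2 fun v hv => (Subgroup.mem_centralizer_iff.1 hv.1.2 r hr).symm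
  refine false_of_offender hfree P R hRP hnp K hKp hKc.sup_eq_top
    (fun a ha b hb => Subgroup.mem_centralizer_iff.1 (hKZ hb).2 a (hKZ ha).1) Vs hVe
    (le_antisymm hV hRC) A hA'.1 hA'.2.1.1 hAR ?_
  refine hA'.2.2 _ (sup_le (inf_le_left.trans hA'.1) (hVR.trans hRP)) ?_
  have hcross : ∀ u ∈ A ⊓ R, ∀ v ∈ Vs, u * v = v * u := fun u hu v hv =>
    Subgroup.mem_centralizer_iff.1 hv.1.2 u hu.2
  have hcl : IsMulCommutative
      (Subgroup.closure (((A ⊓ R : Subgroup G) : Set G) ∪ (Vs : Set G))) := by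
    refine Subgroup.isMulCommutative_closure ?_
    rintro u (hu | hu) v (hv | hv)
    · exact congrArg Subtype.val (hA'.2.1.1.is_comm.comm (⟨u, hu.1⟩ : A) ⟨v, hv.1⟩)
    · exact hcross u hu v hv
    · exact (hcross v hv u hu).symm
    · exact congrArg Subtype.val (hVe.1.is_comm.comm (⟨u, hu⟩ : Vs) ⟨v, hv⟩)
  rw [← Subgroup.sup_eq_closure] at hcl
  refine ⟨hcl, fun x hx => ?_⟩
  obtain ⟨u, hu, v, hv, rfl⟩ := Subgroup.mem_sup_of_normal_right.1 hx
  rw [(show Commute u v from hcross u hu v hv).mul_pow, hA'.2.1.2 u hu.1, hv.2, one_mul]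

/-- Thompson's normal `p`-complement theorem, for odd `p`. -/
theorem hasNormalPComplement_of_thompson {p : ℕ} [Fact p.Prime] (hp : p ≠ 2) :
    ∀ (G : Type u) [Group G] [Finite G] (P : Sylow p G),
      Cfsg.HasNormalPComplement p
        (Subgroup.normalizer (Cfsg.thompsonSubgroupOf p (P : Subgroup G) : Set G)) →
      Cfsg.HasNormalPComplement p (Subgroup.centralizer (centerOf (P : Subgroup G) : Set G)) →
      Cfsg.HasNormalPComplement p G :=
  fun G _ _ P => hasNormalPComplement_of_thompson_free G (Or.inl hp) P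

end CfsgLib.Fusion
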