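import Cfsg.Agent.Lib.Fusion.ZJFamilies
import Cfsg.Agent.Lib.Fusion.ThompsonComplement
import Cfsg.Agent.Lib.Coprime.Action

/-!
# A `p`-stable subgroup above a Sylow subgroup
-/

set_option autoImplicit false
set_option linter.style.haveILetI false

open Subgroup
open scoped commutatorElement

namespace CfsgLib.Fusion

universe u

variable {G : Type u} [Group G] [Finite G] {p : ℕ} [hpf : Fact p.Prime]

/-- If every proper subgroup above a Sylow subgroup is a `p`-group and `O_p(G) = 1`, then `G` has an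
abelian normal `p`-complement, for `p` odd or when `S₄` is not involved. -/
theorem exists_abelian_complement_free (hfree : p ≠ 2 ∨ ¬ Cfsg.Involves (Equiv.Perm (Fin 4)) G)
    (T : Sylow p G) (hO : Cfsg.pCore p G = ⊥)
    (hmax : ∀ M : Subgroup G, (T : Subgroup G) ≤ M → M ≠ ⊤ → IsPGroup p M) :
    ∃ K : Subgroup G, K.Normal ∧ ¬ p ∣ Nat.card K ∧ IsMulCommutative K ∧
      K ⊔ (T : Subgroup G) = ⊤ := by
  have hbot : ∀ N : Subgroup G, N.Normal → IsPGroup p N → N = ⊥ := fun N hN hNp => by
    haveI := hN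
    rw [eq_bot_iff, ← hO]
    exact CfsgLib.Coprime.le_pCore hNp
  have hcompl : Cfsg.HasNormalPComplement p G := by
    by_cases hT : (T : Subgroup G) = ⊥
    · refine hasNormalPComplement_of_not_dvd fun hd => T.not_dvd_index ?_
      rwa [hT, Subgroup.index_bot]
    · refine hasNormalPComplement_of_thompson_free G hfree T ?_ ?_
      · refine hasNormalPComplement_of_isPGroup (hmax _ ?_ fun h => thompsonSubgroupOf_ne_bot T.2 hT ?_)
        · exact Subgroup.le_normalizer.trans (normalizer_le_normalizer_thompsonSubgroupOf _)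
        · exact hbot _ (Subgroup.normalizer_eq_top_iff.1 h) (T.2.to_le (thompsonSubgroupOf_le _))
      · refine hasNormalPComplement_of_isPGroup (hmax _ ?_ fun h => centerOf_ne_bot T.2 hT ?_)
        · intro t ht
          exact Subgroup.mem_centralizer_iff.2 fun z hz =>
            (Subgroup.mem_centralizer_iff.1 hz.2 t ht).symm
        · refine hbot _ ⟨fun z hz g => ?_⟩ (T.2.to_le inf_le_left)
          have hg : g ∈ Subgroup.centralizer (centerOf (T : Subgroup G) : Set G) :=
            h ▸ Subgroup.mem_top g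
          rwa [show g * z * g⁻¹ = z by
            rw [← Subgroup.mem_centralizer_iff.1 hg z hz, mul_inv_cancel_right]]
  haveI hKn := pResidual_normal (G := G) (p := p)
  set K := Cfsg.pResidual p G with hK
  have hKp : ¬ p ∣ Nat.card K := hasNormalPComplement_iff_not_dvd.1 hcompl
  have hKT : K ⊔ (T : Subgroup G) = ⊤ := pResidual_sup_sylow T
  refine ⟨K, hKn, hKp, ?_, hKT⟩
  have hcop : (Nat.card (T : Subgroup G)).Coprime (Nat.card K) := by
    obtain ⟨n, hn⟩ := T.2.exists_card_eq
    rw [hn]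
    exact Nat.Coprime.pow_left n ((Fact.out : p.Prime).coprime_iff_not_dvd.2 hKp)
  have hTK : (T : Subgroup G) ≤ Subgroup.normalizer (K : Set G) := by
    rw [Subgroup.normalizer_eq_top]; exact le_top
  haveI : Group.IsNilpotent (T : Subgroup G) := T.2.isNilpotent
  have hsolv : Group.IsSolvable (T : Subgroup G) ∨ Group.IsSolvable K :=
    Or.inl inferInstance
  -- invariant subgroups of `K` are trivial or everything
  have hinv : ∀ R : Subgroup G, R ≤ K → (T : Subgroup G) ≤ Subgroup.normalizer (R : Set G) →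
      R ≠ ⊥ → R = K := by
    intro R hRK hTR hR
    have htop : R ⊔ (T : Subgroup G) = ⊤ := by
      by_contra hne
      refine hR ((eq_bot_iff).2 fun x hx => ?_)
      refine Subgroup.mem_bot.2 (eq_one_of_pGroup_of_coprime (hmax _ le_sup_right hne)
        (Subgroup.mem_sup_left hx) ((not_dvd_card_iff_forall_coprime_orderOf K).1 hKp x (hRK hx)))
    refine le_antisymm hRK fun x hx => ?_
    obtain ⟨r, hr, t, ht, rfl⟩ :=
      CfsgLib.Coprime.mem_sup_exists hTR (htop.ge (Subgroup.mem_top x))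
    have htK : t ∈ K := (K.mul_mem_cancel_left (hRK hr)).1 hx
    rw [eq_one_of_pGroup_of_coprime T.2 ht
      ((not_dvd_card_iff_forall_coprime_orderOf K).1 hKp t htK), mul_one]
    exact hr
  by_cases hK1 : Nat.card K = 1
  · haveI := (Nat.card_eq_one_iff_unique.1 hK1).1
    exact ⟨⟨fun a b => Subsingleton.elim _ _⟩⟩
  obtain ⟨q, hq, hqK⟩ := Nat.exists_prime_and_dvd hK1
  haveI : Fact q.Prime := ⟨hq⟩
  obtain ⟨R, hR, hTR⟩ := CfsgLib.Coprime.exists_invariant_sylow hTK hcop hsolv q
  have hR1 : R ≠ ⊥ := by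
    intro h
    have h2 := hR.2
    rw [h, Subgroup.card_bot] at h2
    have hpos : 0 < (Nat.card K).factorization q :=
      hq.factorization_pos_of_dvd Nat.card_pos.ne' hqK
    exact (Nat.one_lt_pow hpos.ne' hq.one_lt).ne h2
  have hRK : R = K := hinv R hR.1 hTR hR1
  haveI : Group.IsNilpotent K := (hRK ▸ hR.isPGroup).isNilpotent
  by_cases hcomm : ⁅K, K⁆ = ⊥
  · exact ⟨⟨fun a b => Subtype.ext (commutatorElement_eq_one_iff_mul_comm.1
      (Subgroup.mem_bot.1 (hcomm ▸ Subgroup.commutator_mem_commutator a.2 b.2)))⟩⟩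
  · exfalso
    have h := hinv _ (Subgroup.commutator_le_self K)
      (by rw [Subgroup.normalizer_eq_top]; exact le_top) hcomm
    refine hK1 ?_
    rw [eq_bot_of_le_commutator le_rfl h.ge, Subgroup.card_bot]

/-- If every proper subgroup above a Sylow subgroup is a `p`-group and `O_p(G) = 1`, then `G` has an
abelian normal `p`-complement, for `p` odd. -/
theorem exists_abelian_complement (hp : p ≠ 2) (T : Sylow p G) (hO : Cfsg.pCore p G = ⊥)
    (hmax : ∀ M : Subgroup G, (T : Subgroup G) ≤ M → M ≠ ⊤ → IsPGroup p M) :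
    ∃ K : Subgroup G, K.Normal ∧ ¬ p ∣ Nat.card K ∧ IsMulCommutative K ∧
      K ⊔ (T : Subgroup G) = ⊤ :=
  exists_abelian_complement_free (Or.inl hp) T hO hmax

theorem exists_pow_coprime (x : G) :
    ∃ k : ℕ, Nat.Coprime (orderOf (x ^ p ^ k)) p := by
  obtain ⟨k, m, hm, hkm⟩ := Nat.exists_eq_pow_mul_and_not_dvd (orderOf_pos x).ne' p
    (Fact.out : p.Prime).ne_one
  refine ⟨k, ?_⟩
  rw [orderOf_pow' _ (pow_ne_zero k (Fact.out : p.Prime).ne_zero), hkm,
    Nat.gcd_eq_right (Dvd.intro m rfl), Nat.mul_div_cancel_left _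
      (pow_pos (Fact.out : p.Prime).pos k), Nat.coprime_comm]
  exact (Fact.out : p.Prime).coprime_iff_not_dvd.2 hm

/-- If every proper subgroup above a Sylow subgroup is a `p`-group, then the conjugation action on
every normal `p`-subgroup is `p`-stable. -/
theorem isPStableOn_of_maximal_sylow (hp : p ≠ 2) (T : Sylow p G)
    (hmax : ∀ M : Subgroup G, (T : Subgroup G) ≤ M → M ≠ ⊤ → IsPGroup p M)
    (P : Subgroup G) [hPn : P.Normal] (hP : IsPGroup p P) : Cfsg.IsPStableOn p P := by
  intro a ha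
  set C := Subgroup.centralizer (P : Set G) with hC
  haveI hCn : C.Normal := inferInstance
  haveI := CfsgLib.Coprime.pCore_normal' (G := G ⧸ C) p
  set D := (Cfsg.pCore p (G ⧸ C)).comap (QuotientGroup.mk' C) with hD
  haveI hDn : D.Normal := Subgroup.Normal.comap inferInstance _
  show a ∈ D
  have hCD : C ≤ D := fun c hc => by
    show QuotientGroup.mk' C c ∈ Cfsg.pCore p (G ⧸ C)
    rw [show QuotientGroup.mk' C c = 1 from (QuotientGroup.eq_one_iff c).2 hc]
    exact one_mem _
  have hDT : D ≤ C ⊔ ((T : Subgroup G) ⊓ D) := by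
    rw [← Subgroup.relIndex_eq_one]
    have h1 : (C ⊔ ((T : Subgroup G) ⊓ D)).relIndex D ∣ ((T : Subgroup G) ⊓ D).relIndex D :=
      Subgroup.relIndex_dvd_of_le_left _ le_sup_right
    have h2 : (C ⊔ ((T : Subgroup G) ⊓ D)).relIndex D ∣ C.relIndex D :=
      Subgroup.relIndex_dvd_of_le_left _ le_sup_left
    obtain ⟨k, hk⟩ := (CfsgLib.Coprime.pCore_isPGroup (G := G ⧸ C) p).exists_card_eq
    have h3 : C.relIndex D = p ^ k := by
      have h := Subgroup.relIndex_comap (f := QuotientGroup.mk' C) ⊥ D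
      rw [MonoidHom.comap_bot, QuotientGroup.ker_mk', Subgroup.relIndex_bot_left,
        Subgroup.map_comap_eq_self_of_surjective (QuotientGroup.mk'_surjective C)] at h
      rw [h, hk]
    obtain ⟨j, -, hj⟩ := (Nat.dvd_prime_pow (Fact.out : p.Prime)).1 (h3 ▸ h2)
    rcases Nat.eq_zero_or_pos j with rfl | hjpos
    · rw [hj, pow_zero]
    · exact absurd ((dvd_pow_self p hjpos.ne').trans (hj ▸ h1))
        (not_dvd_relIndex_inf_of_normal T D)
  -- the quotient by `D`
  let π := QuotientGroup.mk' D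
  have hπ : Function.Surjective π := QuotientGroup.mk'_surjective D
  let T' : Sylow p (G ⧸ D) := T.mapSurjective hπ
  have hT' : (T' : Subgroup (G ⧸ D)) = (T : Subgroup G).map π := Sylow.coe_mapSurjective hπ T
  have hO : Cfsg.pCore p (G ⧸ D) = ⊥ := by
    haveI := CfsgLib.Coprime.pCore_normal' (G := G ⧸ D) p
    set E := (Cfsg.pCore p (G ⧸ D)).comap π with hE
    haveI : E.Normal := Subgroup.Normal.comap inferInstance _
    have hDE : D ≤ E := fun x hx => by
      show π x ∈ Cfsg.pCore p (G ⧸ D)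
      rw [show π x = 1 from (QuotientGroup.eq_one_iff x).2 hx]
      exact one_mem _
    haveI : (E.map (QuotientGroup.mk' C)).Normal :=
      Subgroup.Normal.map inferInstance _ (QuotientGroup.mk'_surjective C)
    have hEp : IsPGroup p (E.map (QuotientGroup.mk' C)) := by
      rintro ⟨_, x, hx, rfl⟩
      obtain ⟨k, hk⟩ := (CfsgLib.Coprime.pCore_isPGroup (G := G ⧸ D) p) ⟨π x, hx⟩
      have hk' : x ^ p ^ k ∈ D := by
        rw [← QuotientGroup.eq_one_iff]
        exact congrArg Subtype.val hk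
      obtain ⟨j, hj⟩ := (CfsgLib.Coprime.pCore_isPGroup (G := G ⧸ C) p)
        ⟨QuotientGroup.mk' C (x ^ p ^ k), hk'⟩
      refine ⟨k + j, Subtype.ext ?_⟩
      show QuotientGroup.mk' C x ^ p ^ (k + j) = 1
      have hj' : QuotientGroup.mk' C (x ^ p ^ k) ^ p ^ j = 1 := congrArg Subtype.val hj
      rw [pow_add, pow_mul, ← map_pow, hj']
    have hED : E ≤ D := fun x hx => CfsgLib.Coprime.le_pCore hEp ⟨x, hx, rfl⟩
    rw [eq_bot_iff]
    intro y hy
    obtain ⟨x, rfl⟩ := hπ y
    exact Subgroup.mem_bot.2 ((QuotientGroup.eq_one_iff x).2 (hED hy))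
  have hmax' : ∀ M : Subgroup (G ⧸ D), (T' : Subgroup (G ⧸ D)) ≤ M → M ≠ ⊤ → IsPGroup p M := by
    intro M hM hne
    have h := hmax (M.comap π) (by rw [← Subgroup.map_le_iff_le_comap, ← hT']; exact hM)
      (fun h => hne (by rw [← Subgroup.map_comap_eq_self_of_surjective hπ M, h,
        Subgroup.map_top_of_surjective π hπ]))
    have h2 := h.map π
    rwa [Subgroup.map_comap_eq_self_of_surjective hπ] at h2
  obtain ⟨K, hKn, hKp, hKc, hKT⟩ := exists_abelian_complement hp T' hO hmax'
  haveI := hKn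
  -- the quadratic element acts on `P` as a `p`-element
  have hquad : ∀ v ∈ P, a * (a * v * a⁻¹ * v⁻¹) * a⁻¹ = a * v * a⁻¹ * v⁻¹ := by
    intro v hv
    have h1 : a * v * a⁻¹ * v⁻¹ ∈ ⁅P, Subgroup.zpowers a⁆ := by
      rw [show a * v * a⁻¹ * v⁻¹ = (⁅v, a⁆)⁻¹ by rw [commutatorElement_def]; group]
      exact inv_mem (Subgroup.commutator_mem_commutator hv (Subgroup.mem_zpowers a))
    rw [Subgroup.commutator_eq_bot_iff_le_centralizer] at ha
    rw [← (Subgroup.mem_centralizer_iff.1 (ha h1) a (Subgroup.mem_zpowers a)).symm,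
      mul_inv_cancel_right]
  have hap : ∃ k : ℕ, a ^ p ^ k ∈ C := by
    obtain ⟨n, hn⟩ := hP.exists_card_eq
    refine ⟨n, mem_centralizer_iff'.2 fun v hv => ?_⟩
    set w := a * v * a⁻¹ * v⁻¹ with hw
    have hwP : w ∈ P := mul_mem (hPn.conj_mem v hv a) (inv_mem hv)
    have key : ∀ j : ℕ, a ^ j * v * (a ^ j)⁻¹ = w ^ j * v := by
      intro j
      induction j with
      | zero => simp
      | succ j ih =>
        calc a ^ (j + 1) * v * (a ^ (j + 1))⁻¹ = a * (a ^ j * v * (a ^ j)⁻¹) * a⁻¹ := by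
              rw [pow_succ']; group
          _ = (a * w ^ j * a⁻¹) * (a * v * a⁻¹) := by rw [ih]; group
          _ = w ^ j * (w * v) := by
              rw [← conj_pow, show a * w * a⁻¹ = w from hquad v hv,
                show a * v * a⁻¹ = w * v by rw [hw]; group]
          _ = w ^ (j + 1) * v := by rw [pow_succ, mul_assoc (w ^ j) w v]
    have h2 : w ^ Nat.card P = 1 :=
      orderOf_dvd_iff_pow_eq_one.1 (Subgroup.orderOf_dvd_natCard _ hwP)
    rw [key, ← hn, h2, one_mul]
  -- commutation of `a` with the complement modulo `D`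
  have hcommK : ∀ x : G, π x ∈ K → Nat.Coprime (orderOf x) p →
      x⁻¹ * (a * x * a⁻¹) ∈ D := by
    intro x hx hxcop
    set z := x⁻¹ * (a * x * a⁻¹) with hz
    set m := orderOf x with hm
    have hmp : ¬ p ∣ m := (Fact.out : p.Prime).coprime_iff_not_dvd.1 (Nat.coprime_comm.1 hxcop)
    have key : ∀ N : Subgroup G, N.Normal → N ≤ P → ∃ E : Subgroup G, E.Normal ∧ z ∈ E ∧
        ∀ e ∈ E, Nat.Coprime (orderOf e) p → ∀ n ∈ N, e * n * e⁻¹ = n := by
      intro N hN hNP
      induction hc : Nat.card N using Nat.strong_induction_on generalizing N with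
      | _ c ih =>
      by_cases hN1 : N = ⊥
      · exact ⟨⊤, inferInstance, Subgroup.mem_top z, fun e _ _ n hn => by
          rw [hN1] at hn; rw [Subgroup.mem_bot.1 hn]; simp⟩
      haveI := hN
      obtain ⟨M, ⟨hMn, hMlt⟩, hMmax⟩ := (Set.toFinite {M : Subgroup G | M.Normal ∧ M < N}
        ).exists_maximal ⟨⊥, inferInstance, bot_lt_iff_ne_bot.2 hN1⟩
      haveI := hMn
      obtain ⟨E, hEn, hzE, hEfix⟩ :=
        ih _ (hc ▸ card_lt_card_of_lt hMlt) M hMn (hMlt.le.trans hNP) rfl
      haveI := hEn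
      let ν := QuotientGroup.mk' M
      set V := N.map ν with hV
      haveI hVn : V.Normal := hN.map ν (QuotientGroup.mk'_surjective M)
      have hbig : ∀ W : Subgroup G, W.Normal → M ≤ W → W ≤ N → W = M ∨ W = N := fun W hW h1 h2 => by
        by_contra hcon
        push Not at hcon
        exact hcon.1 (le_antisymm (hMmax ⟨hW, lt_of_le_of_ne h2 hcon.2⟩ h1) h1)
      have hV1 : V ≠ ⊥ := fun h => hMlt.not_ge fun n hn =>
        (QuotientGroup.eq_one_iff n).1 (Subgroup.mem_bot.1 (h.le ⟨n, hn, rfl⟩))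
      have hVp : IsPGroup p V := (hP.to_le hNP).map ν
      -- normal subgroups of the quotient inside `V`
      have hirr : ∀ W : Subgroup (G ⧸ M), W.Normal → W ≤ V → W ≠ V → W = ⊥ := by
        intro W hW hWV hne
        haveI := hW
        have h := hbig (W.comap ν) inferInstance
          (fun y hy => by
            show ν y ∈ W
            rw [show ν y = 1 from (QuotientGroup.eq_one_iff y).2 hy]; exact one_mem _)
          (fun y hy => by
            obtain ⟨n, hn, hny⟩ := hWV hy
            have h3 := mul_mem hn (hMlt.le ((QuotientGroup.eq (s := M)).1 hny))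
            rwa [mul_inv_cancel_left] at h3)
        rw [← Subgroup.map_comap_eq_self_of_surjective (QuotientGroup.mk'_surjective M) W]
        rcases h with h | h
        · rw [h, Subgroup.map_eq_bot_iff, QuotientGroup.ker_mk']
        · exact absurd (by rw [hV, ← h]; exact (Subgroup.map_comap_eq_self_of_surjective
            (QuotientGroup.mk'_surjective M) W).symm) hne
      haveI : Group.IsNilpotent V := hVp.isNilpotent
      haveI hVc : IsMulCommutative V := by
        have h : ⁅V, V⁆ = ⊥ := hirr _ inferInstance (Subgroup.commutator_le_self V) fun h =>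
          hV1 (eq_bot_of_le_commutator le_rfl h.ge)
        exact ⟨⟨fun b d => Subtype.ext (commutatorElement_eq_one_iff_mul_comm.1
          (Subgroup.mem_bot.1 (h ▸ Subgroup.commutator_mem_commutator b.2 d.2)))⟩⟩
      have hVexp : ∀ v ∈ V, v ^ p = 1 := by
        let W : Subgroup (G ⧸ M) :=
          { carrier := {v | v ∈ V ∧ v ^ p = 1}
            one_mem' := ⟨one_mem _, one_pow p⟩
            mul_mem' := fun {b d} hb hd => ⟨mul_mem hb.1 hd.1, by
              rw [(show Commute b d from congrArg Subtype.val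
                (hVc.is_comm.comm (⟨b, hb.1⟩ : V) ⟨d, hd.1⟩)).mul_pow, hb.2, hd.2, one_mul]⟩
            inv_mem' := fun {b} hb => ⟨inv_mem hb.1, by rw [inv_pow, hb.2, inv_one]⟩ }
        have hWn : W.Normal := ⟨fun v hv g => ⟨hVn.conj_mem v hv.1 g, by
          rw [conj_pow, hv.2, mul_one, mul_inv_cancel]⟩⟩
        by_contra hcon
        push Not at hcon
        obtain ⟨v, hv, hvp⟩ := hcon
        have hW := hirr W hWn (fun _ h => h.1) fun h => hvp (h.ge hv).2
        haveI : Nontrivial V := (Subgroup.nontrivial_iff_ne_bot V).2 hV1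
        obtain ⟨u, hu⟩ := exists_prime_orderOf_dvd_card' (G := V) p (by
          obtain ⟨n, hn0, hn⟩ := hVp.nontrivial_iff_card.1 inferInstance
          exact hn ▸ dvd_pow_self p hn0.ne')
        have hu1 : (u : G ⧸ M) ∈ W := ⟨u.2, by
          have := pow_orderOf_eq_one u
          rw [hu] at this
          exact congrArg Subtype.val this⟩
        rw [hW, Subgroup.mem_bot] at hu1
        rw [show u = 1 from Subtype.ext hu1, orderOf_one] at hu
        exact (Fact.out : p.Prime).one_lt.ne hu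
      -- `D` centralizes the factor
      have hDV : D ≤ Cfsg.sectionKernel N M := by
        set X := ((T : Subgroup G) ⊓ D).map ν
        have hCV : C.map ν ≤ Subgroup.centralizer (V : Set (G ⧸ M)) := by
          rintro _ ⟨c, hc, rfl⟩
          refine Subgroup.mem_centralizer_iff.2 ?_
          rintro _ ⟨n, hn, rfl⟩
          rw [← map_mul, ← map_mul, Subgroup.mem_centralizer_iff.1 hc n (hNP hn)]
        have hVT : V ≤ (T : Subgroup G).map ν :=
          Subgroup.map_mono (hNP.trans (hP.le_sylow_of_normal T))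
        have hDle : D.map ν ≤ C.map ν ⊔ X := by
          rw [← Subgroup.map_sup]; exact Subgroup.map_mono hDT
        have h1 : ⁅V, D.map ν⁆ ≤ ⁅V, X⁆ := by
          rw [Subgroup.commutator_le]
          intro v hv d hd
          obtain ⟨y, hy, rfl⟩ := hd
          obtain ⟨c, hc, t, ht, rfl⟩ := Subgroup.mem_sup_of_normal_left.1 (hDT hy)
          have hcv := Subgroup.mem_centralizer_iff.1 (hCV ⟨c, hc, rfl⟩)
          have hw : ν t * v * (ν t)⁻¹ ∈ V := hVn.conj_mem v hv _
          rw [show ⁅v, ν (c * t)⁆ = ⁅v, ν t⁆ by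
            rw [map_mul, commutatorElement_def, commutatorElement_def]
            have h2 := hcv _ (inv_mem hw)
            calc v * (ν c * ν t) * v⁻¹ * (ν c * ν t)⁻¹
                = v * (ν c * (ν t * v * (ν t)⁻¹)⁻¹ * (ν c)⁻¹) := by group
              _ = v * (ν t * v * (ν t)⁻¹)⁻¹ := by rw [← h2, mul_inv_cancel_right]
              _ = v * ν t * v⁻¹ * (ν t)⁻¹ := by group]
          exact Subgroup.commutator_mem_commutator hv ⟨t, ht, rfl⟩
        haveI : (D.map ν).Normal := hDn.map ν (QuotientGroup.mk'_surjective M)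
        haveI : Group.IsNilpotent ((T : Subgroup G).map ν) := (T.2.map ν).isNilpotent
        have h3 : ⁅V, D.map ν⁆ = ⊥ := hirr _ inferInstance
          (Subgroup.commutator_le_left _ _) fun h => hV1 (eq_bot_of_le_commutator hVT
            (h.ge.trans (h1.trans (Subgroup.commutator_mono le_rfl
              (Subgroup.map_mono inf_le_left)))))
        intro d hd
        show ν d ∈ Subgroup.centralizer ((N.map ν : Subgroup (G ⧸ M)) : Set (G ⧸ M))
        refine Subgroup.mem_centralizer_iff.2 fun v hv => ?_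
        exact commutatorElement_eq_one_iff_mul_comm.1
          (Subgroup.mem_bot.1 (h3 ▸ Subgroup.commutator_mem_commutator hv ⟨d, hd, rfl⟩))
      -- the quadratic action
      have hnorm : ∀ g : G ⧸ M, g ∈ Subgroup.normalizer (V : Set (G ⧸ M)) := fun g => by
        rw [Subgroup.normalizer_eq_top]; exact Subgroup.mem_top g
      have hiK : ∀ i : ℕ, π (a ^ i * x * (a ^ i)⁻¹) ∈ K := fun i => by
        rw [map_mul, map_mul, map_inv]; exact hKn.conj_mem _ hx _
      have hsk : ∀ d ∈ D, ν d ∈ Subgroup.centralizer (V : Set (G ⧸ M)) := fun d hd => hDV hd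
      have hxy := conj_eq_of_quadratic V hp hVexp (hnorm (ν a)) (hnorm (ν x))
        (fun v hv => by
          obtain ⟨n, hn, rfl⟩ := hv
          simp only [← map_mul, ← map_inv]
          rw [hquad n (hNP hn)])
        hmp (by
          rw [← map_pow, hm, pow_orderOf_eq_one, map_one]; exact one_mem _)
        (fun i j _ _ => by
          simp only [← map_pow, ← map_mul, ← map_inv]
          refine hsk _ ?_
          rw [← QuotientGroup.eq_one_iff]
          show π _ = 1
          rw [map_mul, map_inv, map_mul π (a ^ i * x * (a ^ i)⁻¹), map_mul π (a ^ j * x * (a ^ j)⁻¹),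
            mul_inv_eq_one]
          exact congrArg Subtype.val (hKc.is_comm.comm (⟨_, hiK i⟩ : K) ⟨_, hiK j⟩))
      have hzV : z ∈ Cfsg.sectionKernel N M := by
        show ν z ∈ Subgroup.centralizer ((N.map ν : Subgroup (G ⧸ M)) : Set (G ⧸ M))
        refine mem_centralizer_iff'.2 fun v hv => ?_
        rw [hz, map_mul, map_inv, map_mul, map_mul, map_inv]
        calc (ν x)⁻¹ * (ν a * ν x * (ν a)⁻¹) * v * ((ν x)⁻¹ * (ν a * ν x * (ν a)⁻¹))⁻¹
            = (ν x)⁻¹ * ((ν a * ν x * (ν a)⁻¹) * v * (ν a * ν x * (ν a)⁻¹)⁻¹) * ν x := by group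
          _ = (ν x)⁻¹ * (ν x * v * (ν x)⁻¹) * ν x := by rw [← hxy v hv]
          _ = v := by group
      haveI hskn : (Cfsg.sectionKernel N M).Normal :=
        Subgroup.Normal.comap inferInstance _
      refine ⟨E ⊓ Cfsg.sectionKernel N M, inferInstance, ⟨hzE, hzV⟩, fun e he hec n hn => ?_⟩
      set w := e * n * e⁻¹ * n⁻¹ with hw
      have hwM : w ∈ M := by
        rw [← QuotientGroup.eq_one_iff]
        show ν w = 1
        have h := Subgroup.mem_centralizer_iff.1 (show ν e ∈ Subgroup.centralizer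
          ((N.map ν : Subgroup (G ⧸ M)) : Set (G ⧸ M)) from he.2) (ν n) ⟨n, hn, rfl⟩
        rw [hw, map_mul, map_mul, map_mul, map_inv, map_inv, ← h]
        group
      have hw1 : w = 1 := CfsgLib.Coprime.eq_one_of_conj_eq_mul
        (show e * n * e⁻¹ = w * n by rw [hw]; group) (hEfix e he.1 hec w hwM) (by
          obtain ⟨k, hk⟩ := hP ⟨w, hNP (hMlt.le hwM)⟩
          exact Nat.Coprime.coprime_dvd_right
            (orderOf_dvd_of_pow_eq_one (congrArg Subtype.val hk)) (Nat.Coprime.pow_right k hec))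
      rwa [hw, mul_inv_eq_one] at hw1
    obtain ⟨E, hEn, hzE, hEfix⟩ := key P hPn le_rfl
    haveI : (E.map (QuotientGroup.mk' C)).Normal :=
      hEn.map _ (QuotientGroup.mk'_surjective C)
    have hEp : IsPGroup p (E.map (QuotientGroup.mk' C)) := by
      rintro ⟨_, e, he, rfl⟩
      obtain ⟨k, hk⟩ := exists_pow_coprime (p := p) e
      refine ⟨k, Subtype.ext ?_⟩
      show QuotientGroup.mk' C e ^ p ^ k = 1
      rw [← map_pow]
      exact (QuotientGroup.eq_one_iff _).2 (mem_centralizer_iff'.2 (hEfix _ (pow_mem he _) hk))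
    exact CfsgLib.Coprime.le_pCore hEp ⟨z, hzE, rfl⟩
  have hcent : ∀ k ∈ K, π a * k * (π a)⁻¹ = k := by
    intro k hk
    obtain ⟨x, rfl⟩ := hπ k
    obtain ⟨j, hj⟩ := exists_pow_coprime (p := p) x
    have hpow : π x ∈ Subgroup.zpowers (π (x ^ p ^ j)) := by
      obtain ⟨i, hi⟩ := exists_pow_eq_self_of_coprime (x := π x)
        (Nat.Coprime.pow_left j ((Fact.out : p.Prime).coprime_iff_not_dvd.2 fun hd =>
          hKp (hd.trans (Subgroup.orderOf_dvd_natCard _ hk))))
      rw [map_pow]
      exact Subgroup.mem_zpowers_iff.2 ⟨i, by rw [zpow_natCast]; exact hi⟩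
    have h1 := hcommK (x ^ p ^ j) (by rw [map_pow]; exact pow_mem hk _) hj
    rw [← QuotientGroup.eq_one_iff] at h1
    have h2 : (π (x ^ p ^ j))⁻¹ * (π a * π (x ^ p ^ j) * (π a)⁻¹) = 1 := by
      rw [← map_inv, ← map_inv, ← map_mul, ← map_mul, ← map_mul]; exact h1
    rw [inv_mul_eq_one, eq_comm] at h2
    obtain ⟨i, hi⟩ := Subgroup.mem_zpowers_iff.1 hpow
    rw [← hi, ← conj_zpow, h2]
  set W := Subgroup.centralizer (K : Set (G ⧸ D))
  have haW : π a ∈ W := mem_centralizer_iff'.2 hcent
  set X := W ⊓ (T' : Subgroup (G ⧸ D)) with hX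
  have hXn : X.Normal := by
    refine Subgroup.normalizer_eq_top_iff.1 (eq_top_iff.2 ?_)
    rw [← hKT]
    refine sup_le (fun k hk => Subgroup.mem_normalizer_iff.2 fun w => ?_) ?_
    · have hfix : ∀ u ∈ W, k * u * k⁻¹ = u := fun u hu => by
        rw [Subgroup.mem_centralizer_iff.1 hu k hk, mul_inv_cancel_right]
      constructor
      · intro hw; rw [hfix w hw.1]; exact hw
      · intro hw
        have := hfix _ hw.1
        rw [mul_left_inj, mul_right_inj] at this
        rwa [this] at hw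
    · refine CfsgLib.Coprime.inf_le_normalizer ?_ Subgroup.le_normalizer
      rw [Subgroup.normalizer_eq_top]; exact le_top
  have hX1 : X = ⊥ := by
    haveI := hXn
    rw [eq_bot_iff, ← hO]
    exact CfsgLib.Coprime.le_pCore (T'.2.to_le inf_le_right)
  obtain ⟨k, hk, t, ht, hkt⟩ := Subgroup.mem_sup_of_normal_left.1 (hKT.ge (Subgroup.mem_top (π a)))
  have htW : t ∈ W := by
    have hkW : k ∈ W := Subgroup.mem_centralizer_iff.2 fun y hy =>
      congrArg Subtype.val (hKc.is_comm.comm (⟨y, hy⟩ : K) ⟨k, hk⟩)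
    rwa [← hkt, W.mul_mem_cancel_left hkW] at haW
  have ht1 : t = 1 := Subgroup.mem_bot.1 (hX1 ▸ ⟨htW, ht⟩)
  rw [ht1, mul_one] at hkt
  obtain ⟨n, hn⟩ := hap
  have h3 : π a ^ p ^ n = 1 := by
    rw [← map_pow]; exact (QuotientGroup.eq_one_iff _).2 (hCD hn)
  have hcop := (not_dvd_card_iff_forall_coprime_orderOf K).1 hKp (π a) (hkt ▸ hk)
  exact (QuotientGroup.eq_one_iff a).1 (orderOf_eq_one_iff.1
    (Nat.eq_one_of_dvd_coprimes (Nat.Coprime.pow_right n hcop) dvd_rfl
      (orderOf_dvd_of_pow_eq_one h3)))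

/-- A subgroup above the Sylow subgroup that is not a `p`-group and acts stably. -/
theorem exists_stable_subgroup (hp : p ≠ 2) (T : Sylow p G)
    (hc : Subgroup.centralizer (Cfsg.pCore p G : Set G) ≤ Cfsg.pCore p G) (hG : ¬ IsPGroup p G) :
    ∃ H : Subgroup G, (T : Subgroup G) ≤ H ∧ ¬ IsPGroup p H ∧
      Subgroup.centralizer (Cfsg.pCore p H : Set H) ≤ Cfsg.pCore p H ∧
      ∀ (P : Subgroup H) [P.Normal], IsPGroup p P → Cfsg.IsPStableOn p P := by
  obtain ⟨H, ⟨hTH, hH⟩, hmin⟩ := (Set.toFinite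
    {H : Subgroup G | (T : Subgroup G) ≤ H ∧ ¬ IsPGroup p H}).exists_minimal
      ⟨⊤, le_top, fun h => hG (h.of_equiv Subgroup.topEquiv)⟩
  refine ⟨H, hTH, hH, ?_, ?_⟩
  · haveI := CfsgLib.Coprime.pCore_normal' (G := G) p
    have hle : (Cfsg.pCore p G).subgroupOf H ≤ Cfsg.pCore p H :=
      CfsgLib.Coprime.le_pCore (((CfsgLib.Coprime.pCore_isPGroup p).of_equiv
        (Subgroup.subgroupOfEquivOfLe ((((CfsgLib.Coprime.pCore_isPGroup p).le_sylow_of_normal T)).trans hTH)).symm))
    intro x hx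
    refine hle (show (x : G) ∈ Cfsg.pCore p G from hc (Subgroup.mem_centralizer_iff.2 fun y hy => ?_))
    exact congrArg Subtype.val (Subgroup.mem_centralizer_iff.1 hx
      ⟨y, hTH (((CfsgLib.Coprime.pCore_isPGroup p).le_sylow_of_normal T) hy)⟩ (hle hy))
  · intro P hPn hP
    refine isPStableOn_of_maximal_sylow hp (T.subtype hTH) (fun M hM hne => ?_) P hP
    by_contra hMp
    have hlt : M.map H.subtype ≤ H := Subgroup.map_subtype_le M
    have := hmin (show M.map H.subtype ∈ {H : Subgroup G | (T : Subgroup G) ≤ H ∧ ¬ IsPGroup p H}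
      from ⟨fun t ht => ⟨⟨t, hTH ht⟩, hM ht, rfl⟩, fun h => hMp (h.of_equiv
        (M.equivMapOfInjective H.subtype H.subtype_injective).symm)⟩) hlt
    refine hne (eq_top_iff.2 fun y _ => ?_)
    obtain ⟨z, hz, hzy⟩ := this y.2
    rwa [← H.subtype_injective hzy]

end CfsgLib.Fusion
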