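import Cfsg.Agent.Lib.Fusion.PComplement
import Mathlib.Data.Fintype.Lattice

/-!
# The Thompson subgroup (elementary abelian version) and Thompson's replacement theorem
-/

set_option autoImplicit false

open Subgroup
open scoped commutatorElement

namespace CfsgLib.Fusion

variable {G : Type*} [Group G] {p : ℕ}

/-- `A` is an elementary abelian subgroup of `P` of largest order. -/
def IsMaxEA (p : ℕ) (P A : Subgroup G) : Prop :=
  A ≤ P ∧ Cfsg.IsElementaryAbelian p A ∧
    ∀ B : Subgroup G, B ≤ P → Cfsg.IsElementaryAbelian p B → Nat.card B ≤ Nat.card A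

theorem isElementaryAbelian_map {H : Type*} [Group H] {A : Subgroup G} (f : G →* H)
    (h : Cfsg.IsElementaryAbelian p A) : Cfsg.IsElementaryAbelian p (A.map f) := by
  refine ⟨⟨⟨?_⟩⟩, ?_⟩
  · rintro ⟨_, a, ha, rfl⟩ ⟨_, b, hb, rfl⟩
    apply Subtype.ext
    show f a * f b = f b * f a
    have hab : a * b = b * a := congrArg Subtype.val (h.1.is_comm.comm (⟨a, ha⟩ : A) ⟨b, hb⟩)
    rw [← map_mul, ← map_mul, hab]
  · rintro _ ⟨a, ha, rfl⟩
    rw [← map_pow, h.2 a ha, map_one]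

theorem card_map_of_injOn {H : Type*} [Group H] {A : Subgroup G} (f : G →* H)
    (hf : ∀ x ∈ A, f x = 1 → x = 1) : Nat.card (A.map f) = Nat.card A := by
  refine (Nat.card_congr (Equiv.ofBijective (f.subgroupMap A)
    ⟨?_, f.subgroupMap_surjective A⟩)).symm
  rw [injective_iff_map_eq_one]
  intro x hx
  exact Subtype.ext (hf x x.2 (congrArg Subtype.val hx))

theorem isElementaryAbelian_bot : Cfsg.IsElementaryAbelian p (⊥ : Subgroup G) := by
  refine ⟨⟨⟨fun a b => Subsingleton.elim _ _⟩⟩, fun a ha => ?_⟩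
  rw [Subgroup.mem_bot.1 ha, one_pow]

theorem thompsonSubgroupOf_eq [Finite G] (p : ℕ) (P : Subgroup G) :
    Cfsg.thompsonSubgroupOf p P = sSup {A | IsMaxEA p P A} := by
  apply le_antisymm
  · rw [Cfsg.thompsonSubgroupOf, Subgroup.map_le_iff_le_comap, Cfsg.thompsonSubgroup]
    refine sSup_le fun A hA => ?_
    rw [← Subgroup.map_le_iff_le_comap]
    refine le_sSup (show IsMaxEA p P (A.map P.subtype) from
      ⟨Subgroup.map_subtype_le _, isElementaryAbelian_map _ hA.1, fun B hB hBe => ?_⟩)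
    rw [Subgroup.card_map_of_injective P.subtype_injective,
      ← Nat.card_congr (Subgroup.subgroupOfEquivOfLe hB).toEquiv]
    exact hA.2 _ ⟨⟨⟨fun a b => Subtype.ext (Subtype.ext
      (show ((a : P) : G) * b = b * a from congrArg Subtype.val
        (hBe.1.is_comm.comm (⟨((a : P) : G), a.2⟩ : B) ⟨((b : P) : G), b.2⟩)))⟩⟩,
      fun a ha => Subtype.ext (hBe.2 _ ha)⟩
  · refine sSup_le fun A hA => ?_
    obtain ⟨hAP, hAe, hmax⟩ := hA
    rw [← Subgroup.map_subgroupOf_eq_of_le hAP, Cfsg.thompsonSubgroupOf]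
    refine Subgroup.map_mono (le_sSup ⟨⟨⟨⟨fun a b => Subtype.ext (Subtype.ext
      (show ((a : P) : G) * b = b * a from congrArg Subtype.val
        (hAe.1.is_comm.comm (⟨((a : P) : G), a.2⟩ : A) ⟨((b : P) : G), b.2⟩)))⟩⟩,
      fun a ha => Subtype.ext (hAe.2 _ ha)⟩, fun B hB => ?_⟩)
    rw [Nat.card_congr (Subgroup.subgroupOfEquivOfLe hAP).toEquiv,
      ← Subgroup.card_map_of_injective (K := B) P.subtype_injective]
    exact hmax _ (Subgroup.map_subtype_le _) (isElementaryAbelian_map _ hB)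

theorem thompsonSubgroupOf_le [Finite G] (P : Subgroup G) : Cfsg.thompsonSubgroupOf p P ≤ P := by
  rw [thompsonSubgroupOf_eq]
  exact sSup_le fun A hA => hA.1

theorem exists_isMaxEA [Finite G] (p : ℕ) (P : Subgroup G) : ∃ A, IsMaxEA p P A := by
  haveI : Nonempty {A : Subgroup G // A ≤ P ∧ Cfsg.IsElementaryAbelian p A} :=
    ⟨⟨⊥, bot_le, isElementaryAbelian_bot⟩⟩
  obtain ⟨A, hA⟩ := Finite.exists_max
    fun A : {A : Subgroup G // A ≤ P ∧ Cfsg.IsElementaryAbelian p A} => Nat.card A.1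
  exact ⟨A.1, A.2.1, A.2.2, fun B hB hBe => hA ⟨B, hB, hBe⟩⟩

theorem le_thompsonSubgroupOf [Finite G] {P A : Subgroup G} (h : IsMaxEA p P A) :
    A ≤ Cfsg.thompsonSubgroupOf p P := by
  rw [thompsonSubgroupOf_eq]
  exact le_sSup (show A ∈ {A | IsMaxEA p P A} from h)

theorem thompsonSubgroupOf_ne_bot [Finite G] [Fact p.Prime] {P : Subgroup G} (hP : IsPGroup p P)
    (hne : P ≠ ⊥) : Cfsg.thompsonSubgroupOf p P ≠ ⊥ := by
  obtain ⟨A, hA⟩ := exists_isMaxEA p P
  refine fun h => ?_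
  have hA0 : A = ⊥ := le_bot_iff.1 (h ▸ le_thompsonSubgroupOf hA)
  haveI : Nontrivial P := (Subgroup.nontrivial_iff_ne_bot P).2 hne
  obtain ⟨k, hk, hk'⟩ := hP.nontrivial_iff_card.1 inferInstance
  obtain ⟨x, hx⟩ := exists_prime_orderOf_dvd_card' p (G := P) (by
    rw [hk']; exact dvd_pow_self p hk.ne')
  have hle := hA.2.2 (Subgroup.zpowers (x : G)) (Subgroup.zpowers_le.2 x.2)
    ⟨inferInstance, fun a ha => by
      obtain ⟨i, rfl⟩ := Subgroup.mem_zpowers_iff.1 ha
      rw [← zpow_natCast, ← zpow_mul, mul_comm, zpow_mul, zpow_natCast, ← hx,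
        ← Subgroup.orderOf_coe, pow_orderOf_eq_one, one_zpow]⟩
  rw [hA0, Subgroup.card_bot, Nat.card_zpowers, Subgroup.orderOf_coe, hx] at hle
  exact absurd hle (not_le.2 (Fact.out : p.Prime).one_lt)

theorem conjBy_thompsonSubgroupOf [Finite G] (g : G) (P : Subgroup G) :
    conjBy g (Cfsg.thompsonSubgroupOf p P) ≤ Cfsg.thompsonSubgroupOf p (conjBy g P) := by
  rw [thompsonSubgroupOf_eq p P, conjBy, Subgroup.map_le_iff_le_comap]
  refine sSup_le fun A hA => ?_
  rw [← Subgroup.map_le_iff_le_comap]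
  refine le_thompsonSubgroupOf ⟨conjBy_mono hA.1, isElementaryAbelian_map _ hA.2.1, fun B hB hBe => ?_⟩
  have h := hA.2.2 (conjBy g⁻¹ B) (by
    have := conjBy_mono (g := g⁻¹) hB
    rwa [conjBy_inv_conjBy] at this) (isElementaryAbelian_map _ hBe)
  rw [card_conjBy] at h
  exact h.trans (card_conjBy g A).ge

theorem normalizer_le_normalizer_thompsonSubgroupOf [Finite G] (P : Subgroup G) :
    Subgroup.normalizer (P : Set G) ≤
      Subgroup.normalizer (Cfsg.thompsonSubgroupOf p P : Set G) := by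
  intro g hg
  refine conjBy_eq_iff.1 (conjBy_eq_of_le ?_)
  refine (conjBy_thompsonSubgroupOf g P).trans ?_
  rw [conjBy_eq_iff.2 hg]

/-- `J` commutes with homomorphisms injective on `P`. -/
theorem map_thompsonSubgroupOf [Finite G] {H : Type*} [Group H] [Finite H] (f : G →* H)
    {P : Subgroup G} (hf : ∀ x ∈ P, f x = 1 → x = 1) :
    (Cfsg.thompsonSubgroupOf p P).map f = Cfsg.thompsonSubgroupOf p (P.map f) := by
  have pull : ∀ B : Subgroup H, B ≤ P.map f → Cfsg.IsElementaryAbelian p B →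
      Cfsg.IsElementaryAbelian p (P ⊓ B.comap f) ∧ (P ⊓ B.comap f).map f = B := by
    intro B hB hBe
    refine ⟨⟨⟨⟨fun a b => Subtype.ext ?_⟩⟩, fun a ha => ?_⟩, le_antisymm ?_ ?_⟩
    · show (a : G) * b = b * a
      refine mul_inv_eq_one.1 (hf _ (mul_mem (mul_mem a.2.1 b.2.1)
        (inv_mem (mul_mem b.2.1 a.2.1))) ?_)
      rw [map_mul, map_inv, map_mul, map_mul, show f a * f b = f b * f a from
        congrArg Subtype.val (hBe.1.is_comm.comm (⟨f a, a.2.2⟩ : B) ⟨f b, b.2.2⟩),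
        mul_inv_cancel]
    · exact hf _ (pow_mem ha.1 p) (by rw [map_pow]; exact hBe.2 _ ha.2)
    · rintro _ ⟨a, ha, rfl⟩
      exact ha.2
    · intro b hb
      obtain ⟨a, ha, rfl⟩ := hB hb
      exact ⟨a, ⟨ha, hb⟩, rfl⟩
  rw [thompsonSubgroupOf_eq p P, thompsonSubgroupOf_eq p (P.map f)]
  apply le_antisymm
  · rw [Subgroup.map_le_iff_le_comap]
    refine sSup_le fun A hA => ?_
    rw [← Subgroup.map_le_iff_le_comap]
    refine le_sSup (show IsMaxEA p (P.map f) (A.map f) from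
      ⟨Subgroup.map_mono hA.1, isElementaryAbelian_map _ hA.2.1, fun B hB hBe => ?_⟩)
    obtain ⟨h1, h2⟩ := pull B hB hBe
    rw [← h2, card_map_of_injOn f fun x (hx : x ∈ P ⊓ B.comap f) => hf x hx.1,
      card_map_of_injOn f fun x hx => hf x (hA.1 hx)]
    exact hA.2.2 _ inf_le_left h1
  · refine sSup_le fun B hB => ?_
    obtain ⟨h1, h2⟩ := pull B hB.1 hB.2.1
    rw [← h2]
    refine Subgroup.map_mono (le_sSup (show IsMaxEA p P (P ⊓ B.comap f) from
      ⟨inf_le_left, h1, fun C hC hCe => ?_⟩))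
    rw [← card_map_of_injOn f fun x (hx : x ∈ P ⊓ B.comap f) => hf x hx.1, h2,
      ← card_map_of_injOn f fun x (hx : x ∈ C) => hf x (hC hx)]
    exact hB.2.2 _ (Subgroup.map_mono hC) (isElementaryAbelian_map _ hCe)

/-- A proper subgroup of a nilpotent group grows in its normalizer. -/
theorem lt_inf_normalizer {P T : Subgroup G} [Group.IsNilpotent P] (hTP : T ≤ P) (hne : T ≠ P) :
    T < P ⊓ Subgroup.normalizer (T : Set G) := by
  have hlt' : T.subgroupOf P < ⊤ := by
    rw [lt_top_iff_ne_top, Ne, Subgroup.subgroupOf_eq_top]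
    exact fun hPT => hne (le_antisymm hTP hPT)
  have h1 := Group.normalizerCondition_of_isNilpotent (G := P) (T.subgroupOf P) hlt'
  refine lt_of_le_of_ne (le_inf hTP Subgroup.le_normalizer) fun he => h1.ne ?_
  refine le_antisymm Subgroup.le_normalizer fun x hx => ?_
  show (x : G) ∈ T
  rw [he]
  refine ⟨x.2, Subgroup.mem_normalizer_iff.2 fun y => ?_⟩
  by_cases hy : y ∈ P
  · exact Subgroup.mem_normalizer_iff.1 hx ⟨y, hy⟩
  · exact iff_of_false (fun hy' => hy (hTP hy')) fun hy' =>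
      hy (by simpa [mul_assoc] using mul_mem (mul_mem (inv_mem x.2) (hTP hy')) x.2)

/-- Thompson's replacement theorem. -/
theorem thompson_replacement [Finite G] [Fact p.Prime] {P V A : Subgroup G} (hP : IsPGroup p P)
    (hVP : V ≤ P) (hPV : P ≤ Subgroup.normalizer (V : Set G))
    (hV : Cfsg.IsElementaryAbelian p V) (hA : IsMaxEA p P A)
    (hVA : ¬ V ≤ Subgroup.normalizer (A : Set G)) :
    ∃ B, IsMaxEA p P B ∧ B ≤ Subgroup.normalizer (A : Set G) ∧
      Nat.card (A ⊓ V : Subgroup G) < Nat.card (B ⊓ V : Subgroup G) := by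
  obtain ⟨hAP, hAe, hmax⟩ := hA
  haveI : Group.IsNilpotent P := hP.isNilpotent
  -- choose `x`
  let W : ℕ → Subgroup G := fun k => Nat.rec V (fun _ W => ⁅W, A⁆) k
  have hWV : ∀ k, W k ≤ V := by
    intro k
    induction k with
    | zero => exact le_rfl
    | succ k ih =>
      exact (Subgroup.commutator_mono ih le_rfl).trans
        (Subgroup.le_normalizer_iff_commutator_le_left.1 (hAP.trans hPV))
  have hWP : ∀ k, W k ≤ P.lowerCentralSeries k := by
    intro k
    induction k with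
    | zero => exact hVP
    | succ k ih => exact Subgroup.commutator_mono ih hAP
  obtain ⟨n, hn⟩ := P.isNilpotent_iff_lowerCentralSeries.1 inferInstance
  classical
  have hex : ∃ k, W k ≤ Subgroup.normalizer (A : Set G) := ⟨n, (hWP n).trans (hn ▸ bot_le)⟩
  obtain ⟨k, hk⟩ : ∃ k, Nat.find hex = k + 1 := by
    refine ⟨Nat.find hex - 1, (Nat.succ_pred_eq_of_pos (Nat.pos_of_ne_zero fun h0 => hVA ?_)).symm⟩
    have h := Nat.find_spec hex
    rwa [h0] at h
  have hk1 : W (k + 1) ≤ Subgroup.normalizer (A : Set G) := hk ▸ Nat.find_spec hex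
  obtain ⟨x, hxW, hxN⟩ := SetLike.not_le_iff_exists.1 (Nat.find_min hex (show k < Nat.find hex by omega))
  have hxV : x ∈ V := hWV k hxW
  set d : G → G := fun a => a * x * a⁻¹ * x⁻¹ with hd
  have hdN : ∀ a ∈ A, d a ∈ V ∧ d a ∈ Subgroup.normalizer (A : Set G) := by
    intro a ha
    have h1 : d a ∈ W (k + 1) := by
      show d a ∈ ⁅W k, A⁆
      rw [Subgroup.commutator_comm, hd]
      exact Subgroup.commutator_mem_commutator ha hxW
    exact ⟨hWV (k + 1) h1, hk1 h1⟩
  set M := Subgroup.closure (d '' (A : Set G)) with hM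
  have hMV : M ≤ V := (Subgroup.closure_le _).2 (by rintro _ ⟨a, ha, rfl⟩; exact (hdN a ha).1)
  have hVc : ∀ u ∈ V, ∀ w ∈ V, u * w = w * u := fun u hu w hw =>
    congrArg Subtype.val (hV.1.is_comm.comm (⟨u, hu⟩ : V) ⟨w, hw⟩)
  have hAc : ∀ u ∈ A, ∀ w ∈ A, u * w = w * u := fun u hu w hw =>
    congrArg Subtype.val (hAe.1.is_comm.comm (⟨u, hu⟩ : A) ⟨w, hw⟩)
  have hAV : ∀ a ∈ A, ∀ v ∈ V, a * v * a⁻¹ ∈ V := fun a ha v hv =>
    (Subgroup.mem_normalizer_iff.1 (hPV (hAP ha)) v).1 hv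
  set C := A ⊓ Subgroup.centralizer (M : Set G) with hC
  have key : ∀ a ∈ A, ∀ b ∈ A, (d a)⁻¹ * d b ∈ A → a⁻¹ * b ∈ C := by
    intro a ha b hb hw
    refine ⟨A.mul_mem (A.inv_mem ha) hb, ?_⟩
    suffices hs : M ≤ Subgroup.centralizer ({a⁻¹ * b} : Set G) by
      refine Subgroup.mem_centralizer_iff.2 fun u hu => ?_
      exact (Subgroup.mem_centralizer_iff.1 (hs hu) (a⁻¹ * b) rfl).symm
    refine (Subgroup.closure_le _).2 ?_
    rintro _ ⟨c, hc, rfl⟩
    refine Subgroup.mem_centralizer_iff.2 fun w hw' => ?_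
    rw [Set.mem_singleton_iff.1 hw']
    -- `c` fixes `(d a)⁻¹ * d b`
    have hfix : c * (d b) * c⁻¹ * (d b)⁻¹ = c * (d a) * c⁻¹ * (d a)⁻¹ := by
      have e1 := hAc c hc _ hw
      calc c * d b * c⁻¹ * (d b)⁻¹ = c * d a * c⁻¹ * (c * ((d a)⁻¹ * d b) * c⁻¹) * (d b)⁻¹ := by
            group
        _ = c * d a * c⁻¹ * (((d a)⁻¹ * d b) * c * c⁻¹) * (d b)⁻¹ := by rw [e1]
        _ = c * d a * c⁻¹ * (d a)⁻¹ := by group
    have comm2 : ∀ u ∈ A, c * d u * c⁻¹ * (d u)⁻¹ = u * d c * u⁻¹ * (d c)⁻¹ := by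
      intro u hu
      have huc : c * u = u * c := hAc c hc u hu
      have m1 := hAV _ (mul_mem hc hu) x hxV
      have m2 := hAV u hu x hxV
      have m3 := hAV c hc x hxV
      have e1 : c * d u * c⁻¹ * (d u)⁻¹ =
          ((c * u) * x * (c * u)⁻¹) * ((c * x * c⁻¹)⁻¹ * x) * (u * x * u⁻¹)⁻¹ := by
        simp only [hd]; group
      have e2 : u * d c * u⁻¹ * (d c)⁻¹ =
          ((c * u) * x * (c * u)⁻¹) * ((u * x * u⁻¹)⁻¹ * x) * (c * x * c⁻¹)⁻¹ := by
        rw [huc]; simp only [hd]; group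
      rw [e1, e2, mul_assoc, mul_assoc ((c * u) * x * (c * u)⁻¹)]
      congr 1
      rw [hVc _ (mul_mem (inv_mem m3) hxV) _ (inv_mem m2), hVc _ (inv_mem m3) x hxV, ← mul_assoc]
    rw [comm2 a ha, comm2 b hb, mul_left_inj] at hfix
    calc a⁻¹ * b * d c = a⁻¹ * (b * d c * b⁻¹) * b := by group
      _ = a⁻¹ * (a * d c * a⁻¹) * b := by rw [hfix]
      _ = d c * (a⁻¹ * b) := by group
  set B := M ⊔ C with hB
  have hBcard : Nat.card A ≤ Nat.card B := by
    let g : A ⧸ C.subgroupOf A → M ⧸ (A ⊓ M).subgroupOf M := fun q =>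
      QuotientGroup.mk (⟨d (q.out : G), Subgroup.subset_closure ⟨_, q.out.2, rfl⟩⟩ : M)
    have hg : Function.Injective g := by
      intro q r hqr
      have h1 := key _ q.out.2 _ r.out.2 (QuotientGroup.eq.1 hqr).1
      rw [← QuotientGroup.out_eq' q, ← QuotientGroup.out_eq' r]
      exact QuotientGroup.eq.2 h1
    let f : (M ⧸ (A ⊓ M).subgroupOf M) × C → B := fun z =>
      ⟨(z.1.out : G) * z.2, mul_mem (Subgroup.mem_sup_left z.1.out.2) (Subgroup.mem_sup_right z.2.2)⟩
    have hf : Function.Injective f := by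
      rintro ⟨q, c⟩ ⟨r, e⟩ h
      have h' : (q.out : G) * c = r.out * e := congrArg Subtype.val h
      have hqr : q = r := by
        rw [← QuotientGroup.out_eq' q, ← QuotientGroup.out_eq' r]
        refine QuotientGroup.eq.2 ⟨?_, ((q.out)⁻¹ * r.out : M).2⟩
        show (q.out : G)⁻¹ * r.out ∈ A
        rw [show (q.out : G)⁻¹ * r.out = (c : G) * (e : G)⁻¹ by
          rw [eq_mul_inv_iff_mul_eq, mul_assoc, ← h', inv_mul_cancel_left]]
        exact mul_mem c.2.1 (inv_mem e.2.1)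
      subst hqr
      exact Prod.ext rfl (Subtype.ext (mul_left_cancel h'))
    refine le_trans ?_ (Nat.card_le_card_of_injective f hf)
    rw [Nat.card_prod, Subgroup.card_eq_card_quotient_mul_card_subgroup (C.subgroupOf A),
      Nat.card_congr (Subgroup.subgroupOfEquivOfLe (inf_le_left : C ≤ A)).toEquiv]
    exact Nat.mul_le_mul_right _ (Nat.card_le_card_of_injective g hg)
  have hBc : B ≤ Subgroup.centralizer (B : Set G) := by
    rw [hB, Subgroup.le_centralizer_iff]
    refine sup_le ?_ ?_ <;> rw [Subgroup.le_centralizer_iff] <;> refine sup_le ?_ ?_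
    · exact fun u hu => Subgroup.mem_centralizer_iff.2 fun w hw => hVc _ (hMV hw) _ (hMV hu)
    · exact fun u hu => hu.2
    · exact fun u hu => Subgroup.mem_centralizer_iff.2 fun w hw =>
        (Subgroup.mem_centralizer_iff.1 hw.2 u hu).symm
    · exact fun u hu => Subgroup.mem_centralizer_iff.2 fun w hw => hAc _ hw.1 _ hu.1
  have hBp : ∀ b ∈ B, b ^ p = 1 := by
    intro b hb
    rw [hB, Subgroup.sup_eq_closure] at hb
    induction hb using Subgroup.closure_induction with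
    | mem z hz =>
      rcases hz with hz | hz
      · exact hV.2 _ (hMV hz)
      · exact hAe.2 _ hz.1
    | one => exact one_pow p
    | mul y z hy hz ey ez =>
      have hc : Commute y z := by
        rw [← Subgroup.sup_eq_closure] at hy hz
        exact Subgroup.mem_centralizer_iff.1 (hBc hz) y hy
      rw [hc.mul_pow, ey, ez, one_mul]
    | inv y _ ey => rw [inv_pow, ey, inv_one]
  have hBea : Cfsg.IsElementaryAbelian p B :=
    ⟨⟨⟨fun u w => Subtype.ext (Subgroup.mem_centralizer_iff.1 (hBc w.2) u u.2)⟩⟩, hBp⟩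
  have hBP : B ≤ P := sup_le (hMV.trans hVP) (inf_le_left.trans hAP)
  have hBN : B ≤ Subgroup.normalizer (A : Set G) :=
    sup_le ((Subgroup.closure_le _).2 (by rintro _ ⟨a, ha, rfl⟩; exact (hdN a ha).2))
      (inf_le_left.trans Subgroup.le_normalizer)
  refine ⟨B, ⟨hBP, hBea, fun D hD hDe => (hmax D hD hDe).trans hBcard⟩, hBN, ?_⟩
  have hle : A ⊓ V ≤ B ⊓ V := by
    refine le_inf (fun u hu => Subgroup.mem_sup_right ⟨hu.1, ?_⟩) inf_le_right
    exact Subgroup.mem_centralizer_iff.2 fun w hw => hVc _ (hMV hw) _ hu.2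
  have hne : ¬ M ≤ A := by
    intro hMA
    refine hxN ?_
    have hxP : x ∈ P := hVP hxV
    refine conjBy_eq_iff.1 (conjBy_eq_of_le (conjBy_le_iff.2 fun a ha => ?_))
    have h1 := hMA (Subgroup.subset_closure ⟨a, ha, rfl⟩)
    rw [show x * a * x⁻¹ = (d a)⁻¹ * a by simp only [hd]; group]
    exact mul_mem (inv_mem h1) ha
  have hlt : A ⊓ V < B ⊓ V := lt_of_le_of_ne hle fun he => hne fun u hu => by
    have h2 : u ∈ A ⊓ V := he ▸ ⟨Subgroup.mem_sup_left hu, hMV hu⟩
    exact h2.1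
  have := Set.ncard_lt_ncard (SetLike.coe_ssubset_coe.2 hlt) (Set.toFinite _)
  simpa only [← Nat.card_coe_set_eq, SetLike.coe_sort_coe] using this

end CfsgLib.Fusion
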