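import Cfsg.Agent.Lib.Fusion.ZJ

/-!
# The ZJ theorem for the families of abelian subgroups of largest order
-/

set_option autoImplicit false
set_option linter.style.haveILetI false

open Subgroup
open scoped commutatorElement

namespace CfsgLib.Fusion

variable {G : Type*} [Group G] {p : ℕ}

theorem map_mem_maxAb {H : Type*} [Group H] (e : G ≃* H) {D A : Subgroup G} (h : A ∈ maxAb D) :
    A.map e.toMonoidHom ∈ maxAb (D.map e.toMonoidHom) := by
  refine ⟨Subgroup.map_mono h.1, isMulCommutative_map _ h.2.1, fun B hB hBc => ?_⟩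
  have h1 := h.2.2 (B.map e.symm.toMonoidHom) (by
    rintro _ ⟨x, hx, rfl⟩
    obtain ⟨d, hd, rfl⟩ := hB hx
    simpa using hd) (isMulCommutative_map _ hBc)
  rwa [← Nat.card_congr (B.equivMapOfInjective e.symm.toMonoidHom e.symm.injective).toEquiv,
    Nat.card_congr (A.equivMapOfInjective e.toMonoidHom e.injective).toEquiv] at h1

theorem map_mem_maxEA {H : Type*} [Group H] (e : G ≃* H) {D A : Subgroup G} (h : A ∈ maxEA p D) :
    A.map e.toMonoidHom ∈ maxEA p (D.map e.toMonoidHom) := by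
  refine ⟨Subgroup.map_mono h.1, isElementaryAbelian_map _ h.2.1, fun B hB hBc => ?_⟩
  have h1 := h.2.2 (B.map e.symm.toMonoidHom) (by
    rintro _ ⟨x, hx, rfl⟩
    obtain ⟨d, hd, rfl⟩ := hB hx
    simpa using hd) (isElementaryAbelian_map _ hBc)
  rwa [← Nat.card_congr (B.equivMapOfInjective e.symm.toMonoidHom e.symm.injective).toEquiv,
    Nat.card_congr (A.equivMapOfInjective e.toMonoidHom e.injective).toEquiv] at h1

theorem maxAb_nonempty [Finite G] (D : Subgroup G) : (maxAb D).Nonempty := by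
  haveI : Nonempty {A : Subgroup G // A ≤ D ∧ IsMulCommutative A} :=
    ⟨⟨⊥, bot_le, ⟨⟨fun a b => Subsingleton.elim _ _⟩⟩⟩⟩
  obtain ⟨A, hA⟩ := Finite.exists_max
    fun A : {A : Subgroup G // A ≤ D ∧ IsMulCommutative A} => Nat.card A.1
  exact ⟨A.1, A.2.1, A.2.2, fun B hB hBc => hA ⟨B, hB, hBc⟩⟩

theorem maxEA_nonempty [Finite G] (D : Subgroup G) : (maxEA p D).Nonempty := exists_isMaxEA p D

/-- Members inside a smaller subgroup. -/
theorem maxAb_inter {D Q A₀ : Subgroup G} (h₀ : A₀ ∈ maxAb D) (h₀Q : A₀ ≤ Q) :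
    {A : Subgroup G | A ∈ maxAb D ∧ A ≤ Q} = maxAb (D ⊓ Q) := by
  ext A
  exact ⟨fun ⟨h, hQ⟩ => ⟨le_inf h.1 hQ, h.2.1, fun B hB => h.2.2 B (hB.trans inf_le_left)⟩,
    fun h => ⟨⟨h.1.trans inf_le_left, h.2.1, fun B hB hBc =>
      (h₀.2.2 B hB hBc).trans (h.2.2 A₀ (le_inf h₀.1 h₀Q) h₀.2.1)⟩, h.1.trans inf_le_right⟩⟩

theorem maxEA_inter {D Q A₀ : Subgroup G} (h₀ : A₀ ∈ maxEA p D) (h₀Q : A₀ ≤ Q) :
    {A : Subgroup G | A ∈ maxEA p D ∧ A ≤ Q} = maxEA p (D ⊓ Q) := by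
  ext A
  exact ⟨fun ⟨h, hQ⟩ => ⟨le_inf h.1 hQ, h.2.1, fun B hB => h.2.2 B (hB.trans inf_le_left)⟩,
    fun h => ⟨⟨h.1.trans inf_le_left, h.2.1, fun B hB hBc =>
      (h₀.2.2 B hB hBc).trans (h.2.2 A₀ (le_inf h₀.1 h₀Q) h₀.2.1)⟩, h.1.trans inf_le_right⟩⟩

theorem thompsonSubgroupAOf_eq (D : Subgroup G) :
    Cfsg.thompsonSubgroupAOf D = sSup (maxAb D) := by
  rw [Cfsg.thompsonSubgroupAOf, Cfsg.thompsonSubgroupA, ← image_maxAbelianSubgroups, sSup_image,
    (Subgroup.gc_map_comap D.subtype).l_sSup]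

theorem mem_of_commute_maxAb {D A : Subgroup G} [Finite G] (hA : A ∈ maxAb D) {x : G} (hxD : x ∈ D)
    (hx : ∀ a ∈ A, a * x = x * a) : x ∈ A := by
  have hc : IsMulCommutative (Subgroup.closure ((A : Set G) ∪ {x})) := by
    refine Subgroup.isMulCommutative_closure ?_
    rintro u (hu | rfl) v (hv | rfl)
    · exact congrArg Subtype.val (hA.2.1.is_comm.comm (⟨u, hu⟩ : A) ⟨v, hv⟩)
    · exact hx u hu
    · exact (hx v hv).symm
    · rfl
  have hle : A ≤ Subgroup.closure ((A : Set G) ∪ {x}) := fun a ha =>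
    Subgroup.subset_closure (Or.inl ha)
  have he : A = Subgroup.closure ((A : Set G) ∪ {x}) := Subgroup.eq_of_le_of_card_ge hle
    (hA.2.2 _ ((Subgroup.closure_le _).2 (Set.union_subset hA.1 (Set.singleton_subset_iff.2 hxD))) hc)
  rw [he]
  exact Subgroup.subset_closure (Or.inr rfl)

theorem mem_of_commute_maxEA {D A : Subgroup G} [Finite G] (hA : A ∈ maxEA p D) {x : G} (hxD : x ∈ D)
    (hxp : x ^ p = 1) (hx : ∀ a ∈ A, a * x = x * a) : x ∈ A := by
  have hc : IsMulCommutative (Subgroup.closure ((A : Set G) ∪ {x})) := by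
    refine Subgroup.isMulCommutative_closure ?_
    rintro u (hu | rfl) v (hv | rfl)
    · exact congrArg Subtype.val (hA.2.1.1.is_comm.comm (⟨u, hu⟩ : A) ⟨v, hv⟩)
    · exact hx u hu
    · exact (hx v hv).symm
    · rfl
  have hle : A ≤ Subgroup.closure ((A : Set G) ∪ {x}) := fun a ha =>
    Subgroup.subset_closure (Or.inl ha)
  have hpow : ∀ u ∈ Subgroup.closure ((A : Set G) ∪ {x}), u ^ p = 1 := by
    intro u hu
    induction hu using Subgroup.closure_induction with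
    | mem u hu => rcases hu with hu | rfl; exacts [hA.2.1.2 u hu, hxp]
    | one => exact one_pow p
    | mul u v hu hv h1 h2 =>
      rw [(show Commute u v from
        congrArg Subtype.val (hc.is_comm.comm (⟨u, hu⟩ : Subgroup.closure _) ⟨v, hv⟩)).mul_pow, h1, h2,
        one_mul]
    | inv u _ h1 => rw [inv_pow, h1, inv_one]
  have he : A = Subgroup.closure ((A : Set G) ∪ {x}) := Subgroup.eq_of_le_of_card_ge hle
    (hA.2.2 _ ((Subgroup.closure_le _).2 (Set.union_subset hA.1 (Set.singleton_subset_iff.2 hxD)))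
      ⟨hc, hpow⟩)
  rw [he]
  exact Subgroup.subset_closure (Or.inr rfl)

theorem commute_sSup_of_commute {𝒮 : Set (Subgroup G)} {x : G}
    (h : ∀ A ∈ 𝒮, ∀ a ∈ A, a * x = x * a) :
    x ∈ Subgroup.centralizer ((sSup 𝒮 : Subgroup G) : Set G) := by
  refine Subgroup.mem_centralizer_iff.2 fun a ha => ?_
  have : sSup 𝒮 ≤ Subgroup.centralizer ({x} : Set G) := sSup_le fun A hA a ha =>
    Subgroup.mem_centralizer_iff.2 fun y hy => by
      rw [Set.mem_singleton_iff] at hy; subst hy; exact (h A hA a ha).symm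
  exact (Subgroup.mem_centralizer_iff.1 (this ha) x rfl).symm

variable [Finite G]

/-- `Z(J(D))` is the intersection of the abelian subgroups of largest order. -/
theorem iInf_maxAb (D : Subgroup G) : (⨅ A ∈ maxAb D, A) = Cfsg.centerThompsonAOf D := by
  rw [Cfsg.centerThompsonAOf, thompsonSubgroupAOf_eq]
  apply le_antisymm
  · intro x hx
    have hx' : ∀ A ∈ maxAb D, x ∈ A := fun A hA => (iInf₂_le A hA : _ ≤ A) hx
    obtain ⟨A₀, hA₀⟩ := maxAb_nonempty D
    exact ⟨le_sSup hA₀ (hx' _ hA₀), commute_sSup_of_commute fun A hA a ha =>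
      congrArg Subtype.val (hA.2.1.is_comm.comm (⟨a, ha⟩ : A) ⟨x, hx' A hA⟩)⟩
  · refine le_iInf₂ fun A hA x hx => mem_of_commute_maxAb hA
      ((sSup_le fun B hB => hB.1 : sSup (maxAb D) ≤ D) hx.1)
      fun a ha => Subgroup.mem_centralizer_iff.1 hx.2 a (le_sSup hA ha)

theorem Iof_maxAb_top (D S : Subgroup G) (hDS : D ≤ S) :
    Iof (maxAb D) S = Cfsg.centerThompsonAOf D := by
  rw [← iInf_maxAb]
  exact le_antisymm (le_iInf₂ fun A hA => Iof_le hA (hA.1.trans hDS))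
    (le_Iof fun A hA _ => iInf₂_le A hA)

theorem mem_iInf_maxEA_iff {D : Subgroup G} {x : G} :
    x ∈ (⨅ A ∈ maxEA p D, A) ↔
      x ∈ D ∧ x ^ p = 1 ∧ x ∈ Subgroup.centralizer (Cfsg.thompsonSubgroupOf p D : Set G) := by
  rw [thompsonSubgroupOf_eq]
  constructor
  · intro hx
    have hx' : ∀ A ∈ maxEA p D, x ∈ A := fun A hA => (iInf₂_le A hA : _ ≤ A) hx
    obtain ⟨A₀, hA₀⟩ := maxEA_nonempty (p := p) D
    exact ⟨hA₀.1 (hx' _ hA₀), hA₀.2.1.2 _ (hx' _ hA₀), commute_sSup_of_commute fun A hA a ha =>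
      congrArg Subtype.val ((show IsMaxEA p D A from hA).2.1.1.is_comm.comm (⟨a, ha⟩ : A) ⟨x, hx' A hA⟩)⟩
  · rintro ⟨hxD, hxp, hxc⟩
    simp only [Subgroup.mem_iInf]
    exact fun A hA => mem_of_commute_maxEA hA hxD hxp fun a ha =>
      Subgroup.mem_centralizer_iff.1 hxc a
        (le_sSup (show A ∈ {A | IsMaxEA p D A} from hA) ha)

/-- The intersection of the elementary abelian subgroups of largest order is `Ω₁(Z(J(D)))`. -/
theorem iInf_maxEA (D : Subgroup G) :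
    (⨅ A ∈ maxEA p D, A) = Cfsg.omegaOne p (Cfsg.centerThompsonOf p D) := by
  apply le_antisymm
  · intro x hx
    obtain ⟨-, hxp, hxc⟩ := mem_iInf_maxEA_iff.1 hx
    refine Subgroup.subset_closure ⟨⟨?_, hxc⟩, hxp⟩
    obtain ⟨A₀, hA₀⟩ := maxEA_nonempty (p := p) D
    exact le_thompsonSubgroupOf hA₀ ((iInf₂_le A₀ hA₀ : _ ≤ A₀) hx)
  · rw [Cfsg.omegaOne, Subgroup.closure_le]
    exact fun x hx => mem_iInf_maxEA_iff.2 ⟨thompsonSubgroupOf_le D hx.1.1, hx.2, hx.1.2⟩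

theorem map_omegaCenterThompson (D : Subgroup G) :
    (Cfsg.omegaCenterThompson p D).map D.subtype = ⨅ A ∈ maxEA p D, A := by
  apply le_antisymm
  · rw [Cfsg.omegaCenterThompson, Cfsg.omegaOne, MonoidHom.map_closure, Subgroup.closure_le]
    rintro _ ⟨x, ⟨⟨-, hxc⟩, hxp⟩, rfl⟩
    refine mem_iInf_maxEA_iff.2 ⟨x.2, congrArg Subtype.val hxp, Subgroup.mem_centralizer_iff.2 ?_⟩
    rintro _ ⟨y, hy, rfl⟩
    exact congrArg Subtype.val (Subgroup.mem_centralizer_iff.1 hxc y hy)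
  · intro x hx
    obtain ⟨hxD, hxp, hxc⟩ := mem_iInf_maxEA_iff.1 hx
    refine ⟨⟨x, hxD⟩, Subgroup.subset_closure ⟨⟨?_, ?_⟩, Subtype.ext hxp⟩, rfl⟩
    · obtain ⟨A₀, hA₀⟩ := maxEA_nonempty (p := p) D
      obtain ⟨y, hy, hye⟩ := le_thompsonSubgroupOf hA₀ ((iInf₂_le A₀ hA₀ : _ ≤ A₀) hx)
      rwa [show (⟨x, hxD⟩ : D) = y from Subtype.ext hye.symm]
    · exact Subgroup.mem_centralizer_iff.2 fun y hy => Subtype.ext
        (Subgroup.mem_centralizer_iff.1 hxc _ ⟨y, hy, rfl⟩)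

theorem Iof_maxEA_top (D S : Subgroup G) (hDS : D ≤ S) :
    Iof (maxEA p D) S = ⨅ A ∈ maxEA p D, A :=
  le_antisymm (le_iInf₂ fun A hA => Iof_le hA ((show IsMaxEA p D A from hA).1.trans hDS))
    (le_Iof fun A hA _ => iInf₂_le A hA)

/-- Invariance for the family of a subgroup whose traces are invariant. -/
theorem Iof_maxAb_invariant {D Q : Subgroup G} (hex : ∃ A ∈ maxAb D, A ≤ Q) {g : G}
    (hg : g ∈ Subgroup.normalizer (Q : Set G)) (hgD : ∀ y ∈ D ⊓ Q, g * y * g⁻¹ ∈ D)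
    {x : G} (hx : x ∈ Iof (maxAb D) Q) : g * x * g⁻¹ ∈ Iof (maxAb D) Q := by
  obtain ⟨A₀, hA₀, hA₀Q⟩ := hex
  have hmap : (D ⊓ Q).map (MulAut.conj g).toMonoidHom = D ⊓ Q :=
    conjBy_eq_of_le (conjBy_le_iff.2 fun y hy =>
      ⟨hgD y hy, (Subgroup.mem_normalizer_iff.1 hg y).1 hy.2⟩)
  simp only [Iof, Subgroup.mem_iInf] at hx ⊢
  intro A hA
  rw [maxAb_inter hA₀ hA₀Q] at hA hx
  have hmap' : (D ⊓ Q).map (MulAut.conj g).symm.toMonoidHom = D ⊓ Q := by
    conv_lhs => rw [← hmap]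
    rw [Subgroup.map_map]
    convert Subgroup.map_id (D ⊓ Q) using 2
    ext y; simp [mul_assoc]
  have h := map_mem_maxAb (MulAut.conj g).symm hA
  rw [hmap'] at h
  obtain ⟨a, ha, hax⟩ := hx _ h
  rw [← hax]
  simpa [mul_assoc] using ha

theorem Iof_maxEA_invariant {D Q : Subgroup G} (hex : ∃ A ∈ maxEA p D, A ≤ Q) {g : G}
    (hg : g ∈ Subgroup.normalizer (Q : Set G)) (hgD : ∀ y ∈ D ⊓ Q, g * y * g⁻¹ ∈ D)
    {x : G} (hx : x ∈ Iof (maxEA p D) Q) : g * x * g⁻¹ ∈ Iof (maxEA p D) Q := by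
  obtain ⟨A₀, hA₀, hA₀Q⟩ := hex
  have hmap : (D ⊓ Q).map (MulAut.conj g).toMonoidHom = D ⊓ Q :=
    conjBy_eq_of_le (conjBy_le_iff.2 fun y hy =>
      ⟨hgD y hy, (Subgroup.mem_normalizer_iff.1 hg y).1 hy.2⟩)
  simp only [Iof, Subgroup.mem_iInf] at hx ⊢
  intro A hA
  rw [maxEA_inter hA₀ hA₀Q] at hA hx
  have hmap' : (D ⊓ Q).map (MulAut.conj g).symm.toMonoidHom = D ⊓ Q := by
    conv_lhs => rw [← hmap]
    rw [Subgroup.map_map]
    convert Subgroup.map_id (D ⊓ Q) using 2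
    ext y; simp [mul_assoc]
  have h := map_mem_maxEA (MulAut.conj g).symm hA
  rw [hmap'] at h
  obtain ⟨a, ha, hax⟩ := hx _ h
  rw [← hax]
  simpa [mul_assoc] using ha

theorem mem_characteristic_of_normal (S : Sylow p G) [Fact p.Prime]
    (Z : Subgroup G → Subgroup G) (hmap : ∀ (φ : MulAut G) (T : Subgroup G),
      (Z T).map φ.toMonoidHom = Z (T.map φ.toMonoidHom)) (hn : (Z (S : Subgroup G)).Normal) :
    (Z (S : Subgroup G)).Characteristic := by
  refine Subgroup.characteristic_iff_map_eq.2 fun φ => ?_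
  rw [hmap]
  obtain ⟨g, hg⟩ := MulAction.exists_smul_eq G S
    (S.mapSurjective (f := φ.toMonoidHom) φ.surjective)
  have he : (S : Subgroup G).map φ.toMonoidHom =
      (S : Subgroup G).map (MulAut.conj g).toMonoidHom := by
    rw [← Sylow.coe_mapSurjective φ.surjective S, ← hg, Sylow.smul_def, Sylow.pointwise_smul_def]
    rfl
  rw [he, ← hmap]
  exact conjBy_eq_iff.2 (by rw [Subgroup.normalizer_eq_top]; exact Subgroup.mem_top g)

theorem map_centerThompsonAOf {H : Type*} [Group H] [Finite H] (e : G ≃* H) (T : Subgroup G) :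
    (Cfsg.centerThompsonAOf T).map e.toMonoidHom = Cfsg.centerThompsonAOf (T.map e.toMonoidHom) := by
  rw [← iInf_maxAb, ← iInf_maxAb]
  ext x
  simp only [Subgroup.mem_map, Subgroup.mem_iInf]
  constructor
  · rintro ⟨y, hy, rfl⟩ A hA
    have h := map_mem_maxAb e.symm hA
    rw [Subgroup.map_map, show e.symm.toMonoidHom.comp e.toMonoidHom = MonoidHom.id G by ext; simp,
      Subgroup.map_id] at h
    obtain ⟨a, ha, hae⟩ := hy _ h
    rw [← hae]; simpa using ha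
  · intro h
    refine ⟨e.symm x, fun A hA => ?_, by simp⟩
    obtain ⟨a, ha, hae⟩ := h _ (map_mem_maxAb e hA)
    rw [← hae]; simpa using ha

theorem map_iInf_maxEA {H : Type*} [Group H] (e : G ≃* H) (T : Subgroup G) :
    (⨅ A ∈ maxEA p T, A).map e.toMonoidHom = ⨅ A ∈ maxEA p (T.map e.toMonoidHom), A := by
  ext x
  simp only [Subgroup.mem_map, Subgroup.mem_iInf]
  constructor
  · rintro ⟨y, hy, rfl⟩ A hA
    have h := map_mem_maxEA e.symm hA
    rw [Subgroup.map_map, show e.symm.toMonoidHom.comp e.toMonoidHom = MonoidHom.id G by ext; simp,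
      Subgroup.map_id] at h
    obtain ⟨a, ha, hae⟩ := hy _ h
    rw [← hae]; simpa using ha
  · intro h
    refine ⟨e.symm x, fun A hA => ?_, by simp⟩
    obtain ⟨a, ha, hae⟩ := h _ (map_mem_maxEA e hA)
    rw [← hae]; simpa using ha

variable [Fact p.Prime]

/-- The replacement property inside a Sylow subgroup, for normal `B`. -/
theorem maxAb_replacement_sylow (hp : p ≠ 2) (S : Sylow p G) {D : Subgroup G}
    (hDS : D ≤ (S : Subgroup G)) (hD : (S : Subgroup G) ≤ Subgroup.normalizer (D : Set G))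
    {B : Subgroup G} (hB : B.Normal) (hBS : B ≤ (S : Subgroup G))
    (hU : ∃ U ∈ maxAb D, ⁅B, B⁆ ≤ U ∧ ¬ B ≤ U) :
    ∃ A ∈ maxAb D, ⁅B, B⁆ ≤ A ∧ ¬ B ≤ A ∧ B ≤ Subgroup.normalizer (A : Set G) := by
  set T := (S : Subgroup G)
  haveI : (D.subgroupOf T).Normal := (Subgroup.normal_subgroupOf_iff_le_normalizer hDS).2 hD
  haveI : (B.subgroupOf T).Normal := hB.subgroupOf T
  have hcomm : (⁅B.subgroupOf T, B.subgroupOf T⁆).map T.subtype = ⁅B, B⁆ := by
    rw [Subgroup.map_commutator, Subgroup.map_subgroupOf_eq_of_le hBS]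
  have himg : ∀ A : Subgroup T, A ∈ maxAb (D.subgroupOf T) → A.map T.subtype ∈ maxAb D := by
    intro A hA
    refine ⟨(Subgroup.map_mono hA.1).trans (Subgroup.map_subgroupOf_eq_of_le hDS).le,
      isMulCommutative_map _ hA.2.1, fun C hC hCc => ?_⟩
    rw [← Nat.card_congr (A.equivMapOfInjective T.subtype T.subtype_injective).toEquiv,
      ← Nat.card_congr (Subgroup.subgroupOfEquivOfLe (hC.trans hDS)).toEquiv]
    exact hA.2.2 _ (Subgroup.comap_mono hC) (isMulCommutative_subgroupOf hCc)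
  obtain ⟨U, hU, hU1, hU2⟩ := hU
  have hUT : U ≤ T := hU.1.trans hDS
  obtain ⟨A, hA, hA1, hA2, hA3⟩ := maxAb_replacement (p := p) S.isPGroup' hp (D.subgroupOf T)
    (B := B.subgroupOf T) ⟨U.subgroupOf T, ⟨Subgroup.comap_mono hU.1,
      isMulCommutative_subgroupOf hU.2.1, fun C hC hCc => by
        rw [Nat.card_congr (Subgroup.subgroupOfEquivOfLe hUT).toEquiv,
          Nat.card_congr (C.equivMapOfInjective T.subtype T.subtype_injective).toEquiv]
        exact hU.2.2 _ ((Subgroup.map_mono hC).trans (Subgroup.map_subgroupOf_eq_of_le hDS).le)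
          (isMulCommutative_map _ hCc)⟩,
      fun x hx => hU1 (hcomm.le ⟨x, hx, rfl⟩),
      fun h => hU2 fun x hx => h (show (⟨x, hBS hx⟩ : T) ∈ B.subgroupOf T from hx)⟩
  refine ⟨A.map T.subtype, himg A hA, hcomm.ge.trans (Subgroup.map_mono hA1),
    fun h => hA2 fun x hx => ?_, ?_⟩
  · obtain ⟨y, hy, hyx⟩ := h hx
    rwa [← T.subtype_injective hyx]
  · exact (Subgroup.map_subgroupOf_eq_of_le hBS).ge.trans
      ((Subgroup.map_mono hA3).trans (Subgroup.le_normalizer_map T.subtype))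

theorem maxEA_replacement_sylow (hp : p ≠ 2) (S : Sylow p G) {D : Subgroup G}
    (hDS : D ≤ (S : Subgroup G)) (hD : (S : Subgroup G) ≤ Subgroup.normalizer (D : Set G))
    {B : Subgroup G} (hB : B.Normal) (hBS : B ≤ (S : Subgroup G))
    (hU : ∃ U ∈ maxEA p D, ⁅B, B⁆ ≤ U ∧ ¬ B ≤ U) :
    ∃ A ∈ maxEA p D, ⁅B, B⁆ ≤ A ∧ ¬ B ≤ A ∧ B ≤ Subgroup.normalizer (A : Set G) := by
  set T := (S : Subgroup G)
  haveI : (D.subgroupOf T).Normal := (Subgroup.normal_subgroupOf_iff_le_normalizer hDS).2 hD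
  haveI : (B.subgroupOf T).Normal := hB.subgroupOf T
  have hcomm : (⁅B.subgroupOf T, B.subgroupOf T⁆).map T.subtype = ⁅B, B⁆ := by
    rw [Subgroup.map_commutator, Subgroup.map_subgroupOf_eq_of_le hBS]
  obtain ⟨U, hU, hU1, hU2⟩ := hU
  have hUT : U ≤ T := hU.1.trans hDS
  obtain ⟨A, hA, hA1, hA2, hA3⟩ := maxEA_replacement (p := p) S.isPGroup' hp (D.subgroupOf T)
    (B := B.subgroupOf T) ⟨U.subgroupOf T, ⟨Subgroup.comap_mono hU.1,
      isElementaryAbelian_subgroupOf hU.2.1, fun C hC hCc => by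
        rw [Nat.card_congr (Subgroup.subgroupOfEquivOfLe hUT).toEquiv,
          Nat.card_congr (C.equivMapOfInjective T.subtype T.subtype_injective).toEquiv]
        exact hU.2.2 _ ((Subgroup.map_mono hC).trans (Subgroup.map_subgroupOf_eq_of_le hDS).le)
          (isElementaryAbelian_map _ hCc)⟩,
      fun x hx => hU1 (hcomm.le ⟨x, hx, rfl⟩),
      fun h => hU2 fun x hx => h (show (⟨x, hBS hx⟩ : T) ∈ B.subgroupOf T from hx)⟩
  refine ⟨A.map T.subtype, ⟨(Subgroup.map_mono hA.1).trans (Subgroup.map_subgroupOf_eq_of_le hDS).le,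
      isElementaryAbelian_map _ hA.2.1, fun C hC hCc => ?_⟩,
    hcomm.ge.trans (Subgroup.map_mono hA1), fun h => hA2 fun x hx => ?_, ?_⟩
  · rw [← Nat.card_congr (A.equivMapOfInjective T.subtype T.subtype_injective).toEquiv,
      ← Nat.card_congr (Subgroup.subgroupOfEquivOfLe (hC.trans hDS)).toEquiv]
    exact hA.2.2 _ (Subgroup.comap_mono hC) (isElementaryAbelian_subgroupOf hCc)
  · obtain ⟨y, hy, hyx⟩ := h hx
    rwa [← T.subtype_injective hyx]
  · exact (Subgroup.map_subgroupOf_eq_of_le hBS).ge.trans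
      ((Subgroup.map_mono hA3).trans (Subgroup.le_normalizer_map T.subtype))

/-- Glauberman's ZJ theorem relative to a subgroup of the Sylow subgroup. -/
theorem centerThompsonAOf_normal (hp : p ≠ 2)
    (hc : Subgroup.centralizer (Cfsg.pCore p G : Set G) ≤ Cfsg.pCore p G)
    (hst : ∀ (P : Subgroup G) [P.Normal], IsPGroup p P → Cfsg.IsPStableOn p P)
    (S : Sylow p G) {D : Subgroup G} (hDS : D ≤ (S : Subgroup G))
    (hD : ∀ Q : Subgroup G, Q ≤ (S : Subgroup G) → ∀ g ∈ Subgroup.normalizer (Q : Set G),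
      ∀ y ∈ D ⊓ Q, g * y * g⁻¹ ∈ D) :
    (Cfsg.centerThompsonAOf D).Normal := by
  rw [← Iof_maxAb_top D _ hDS]
  refine Iof_normal S _ (fun A hA => ⟨hA.1.trans hDS, hA.2.1⟩) (maxAb_nonempty D)
    (fun Q hQ hex g hg x hx => Iof_maxAb_invariant hex hg (hD Q hQ g hg) hx)
    (fun B hB hBS _ hU => maxAb_replacement_sylow hp S hDS (fun s hs => ?_) hB hBS hU) hc hst
  refine conjBy_eq_iff.1 (conjBy_eq_of_le (conjBy_le_iff.2 fun y hy => ?_))
  exact hD _ le_rfl s (Subgroup.le_normalizer hs) y ⟨hy, hDS hy⟩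

/-- The ZJ theorem for elementary abelian subgroups. -/
theorem iInf_maxEA_normal (hp : p ≠ 2)
    (hc : Subgroup.centralizer (Cfsg.pCore p G : Set G) ≤ Cfsg.pCore p G)
    (hst : ∀ (P : Subgroup G) [P.Normal], IsPGroup p P → Cfsg.IsPStableOn p P)
    (S : Sylow p G) : (⨅ A ∈ maxEA p (S : Subgroup G), A).Normal := by
  rw [← Iof_maxEA_top _ _ le_rfl]
  exact Iof_normal S _ (fun A hA => ⟨hA.1, hA.2.1.1⟩) (maxEA_nonempty _)
    (fun Q _ hex g hg x hx => Iof_maxEA_invariant hex hg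
      (fun y hy => by
        have h := (Subgroup.mem_normalizer_iff.1 hg y).1 hy.2
        exact ‹Q ≤ (S : Subgroup G)› h) hx)
    (fun B hB hBS _ hU => maxEA_replacement_sylow hp S le_rfl Subgroup.le_normalizer hB hBS hU) hc hst

end CfsgLib.Fusion
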