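import Cfsg.Agent.Lib.Fusion.PComplement

/-!
# Focal subgroups under control of fusion, abelian Sylow subgroups
-/

set_option autoImplicit false

open Subgroup
open scoped commutatorElement

namespace CfsgLib.Fusion

variable {G : Type*} [Group G] {p : ℕ}

/-- Burnside: normal subsets of `P` conjugate in `G` are conjugate by an element of `N(P)`. -/
theorem exists_mem_normalizer_conj [Fact p.Prime] [Finite G] (P : Sylow p G) {X Y : Set G}
    (hX : (P : Subgroup G) ≤ Subgroup.normalizer X) (hY : (P : Subgroup G) ≤ Subgroup.normalizer Y)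
    (g : G) (hg : ∀ x, x ∈ X ↔ g * x * g⁻¹ ∈ Y) :
    ∃ c ∈ Subgroup.normalizer Y, c * g ∈ Subgroup.normalizer ((P : Subgroup G) : Set G) := by
  have hR : conjBy g (P : Subgroup G) ≤ Subgroup.normalizer Y := by
    refine conjBy_le_iff.2 fun u hu => Subgroup.mem_set_normalizer_iff.2 fun y => ?_
    have h1 := hg (g⁻¹ * y * g)
    have h2 := hg (u * (g⁻¹ * y * g) * u⁻¹)
    have h3 := Subgroup.mem_set_normalizer_iff.1 (hX hu) (g⁻¹ * y * g)
    rw [show g * (g⁻¹ * y * g) * g⁻¹ = y by group] at h1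
    rw [show g * (u * (g⁻¹ * y * g) * u⁻¹) * g⁻¹ = g * u * g⁻¹ * y * (g * u * g⁻¹)⁻¹ by group]
      at h2
    exact h1.symm.trans (h3.trans h2)
  obtain ⟨c, hc, hc2⟩ := exists_conj_le_of_not_dvd_relIndex P.2 hY
    (fun hd => P.not_dvd_index (hd.trans (Subgroup.relIndex_dvd_index_of_le hY)))
    (isPGroup_conjBy g P.2) hR
  rw [conjBy_conjBy] at hc2
  exact ⟨c, hc, conjBy_eq_iff.1 (conjBy_eq_of_le hc2)⟩

/-- Burnside: elements centralized by `P` and conjugate in `G` are conjugate in `N(P)`. -/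
theorem exists_normalizer_conj_eq_of_central [Fact p.Prime] [Finite G] (P : Sylow p G) {x : G}
    (hx : (P : Subgroup G) ≤ Subgroup.centralizer {x}) (g : G)
    (hy : (P : Subgroup G) ≤ Subgroup.centralizer {g * x * g⁻¹}) :
    ∃ n ∈ Subgroup.normalizer ((P : Subgroup G) : Set G), n * x * n⁻¹ = g * x * g⁻¹ := by
  have key : ∀ z : G, Subgroup.centralizer {z} ≤ Subgroup.normalizer ({z} : Set G) := by
    intro z u hu
    refine Subgroup.mem_set_normalizer_iff.2 fun w => ?_
    have h := Subgroup.mem_centralizer_iff.1 hu z rfl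
    constructor
    · intro hw
      show u * w * u⁻¹ = z
      rw [Set.mem_singleton_iff.1 hw, ← h, mul_inv_cancel_right]
    · intro hw
      have hw' : u * w * u⁻¹ = z := hw
      show w = z
      rw [mul_inv_eq_iff_eq_mul, h] at hw'
      exact mul_left_cancel hw' 
  obtain ⟨c, hc, hn⟩ := exists_mem_normalizer_conj P (hx.trans (key _)) (hy.trans (key _)) g
    (fun w => ⟨fun h => by rw [Set.mem_singleton_iff.1 h]; rfl, fun h => by simpa using h⟩)
  refine ⟨c * g, hn, ?_⟩
  have h := (Subgroup.mem_set_normalizer_iff.1 hc (g * x * g⁻¹)).1 rfl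
  rw [Set.mem_singleton_iff] at h
  rw [mul_inv_rev, show c * g * x * (g⁻¹ * c⁻¹) = c * (g * x * g⁻¹) * c⁻¹ by group, h]

/-- If `N` controls fusion in `H` then `H.focalSubgroup ≤ ⁅H, N⁆`. -/
theorem focalSubgroup_le_of_control {H N : Subgroup G}
    (hc : ∀ x ∈ H, ∀ g : G, g * x * g⁻¹ ∈ H → ∃ n ∈ N, n * x * n⁻¹ = g * x * g⁻¹) :
    H.focalSubgroup ≤ ⁅H, N⁆ := by
  rw [Subgroup.focalSubgroup_def, Subgroup.closure_le]
  rintro _ ⟨hxu, x, hx, u, rfl⟩
  have hc' : u * x⁻¹ * u⁻¹ ∈ H := by
    have h4 := H.mul_mem (H.inv_mem hx) hxu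
    rwa [commutatorElement_def, show x⁻¹ * (x * u * x⁻¹ * u⁻¹) = u * x⁻¹ * u⁻¹ by group] at h4
  obtain ⟨n, hn, hn'⟩ := hc x⁻¹ (H.inv_mem hx) u hc'
  rw [show ⁅x, u⁆ = ⁅x, n⁆ by
    rw [commutatorElement_def, commutatorElement_def, mul_assoc x u, mul_assoc x (u * x⁻¹),
      ← hn']
    group]
  exact Subgroup.commutator_mem_commutator hx hn

theorem sup_le_normalizer {H : Subgroup G} :
    ⁅H, Subgroup.normalizer (H : Set G)⁆ ≤ H :=
  Subgroup.le_normalizer_iff_commutator_le_left.1 le_rfl

theorem le_focalSubgroup_normalizer (H : Subgroup G) :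
    ⁅H, Subgroup.normalizer (H : Set G)⁆ ≤ H.focalSubgroup := by
  rw [Subgroup.commutator_le]
  intro x hx n hn
  refine Subgroup.subset_closure ⟨?_, x, hx, n, rfl⟩
  exact sup_le_normalizer (Subgroup.commutator_mem_commutator hx hn)

section coprime

variable {H : Subgroup G} [Finite G]

theorem pow_index_injective (h : Nat.Coprime (Nat.card (H ⧸ H.focalSubgroupOf)) H.index) :
    Function.Injective (fun y : H ⧸ H.focalSubgroupOf => y ^ H.index) :=
  (powCoprime h).injective

theorem ker_transferFocal_inf (h : Nat.Coprime (Nat.card (H ⧸ H.focalSubgroupOf)) H.index) :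
    H.transferFocal.ker ⊓ H = H.focalSubgroup := by
  refine le_antisymm ?_ (le_inf ?_ H.focalSubgroup_le)
  · rintro x ⟨hx, hxH⟩
    have h1 : H.transferFocal ((⟨x, hxH⟩ : H) : G) = 1 := hx
    rw [Subgroup.transferFocal_eq_pow] at h1
    have h2 : ((⟨x, hxH⟩ : H) : H ⧸ H.focalSubgroupOf) = 1 :=
      pow_index_injective h (h1.trans (one_pow _).symm)
    rw [QuotientGroup.eq_one_iff] at h2
    exact h2
  · intro x hx
    have h1 := Subgroup.transferFocal_eq_pow H ⟨x, H.focalSubgroup_le hx⟩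
    have h3 : ((⟨x, H.focalSubgroup_le hx⟩ : H) : H ⧸ H.focalSubgroupOf) = 1 :=
      (QuotientGroup.eq_one_iff (⟨x, H.focalSubgroup_le hx⟩ : H)).2 hx
    rw [h3, one_pow] at h1
    exact h1

theorem ker_transferFocal_sup (h : Nat.Coprime (Nat.card (H ⧸ H.focalSubgroupOf)) H.index) :
    H.transferFocal.ker ⊔ H = ⊤ := by
  rw [eq_top_iff]
  intro g _
  obtain ⟨y, hy⟩ := (powCoprime h).surjective (H.transferFocal g)
  obtain ⟨x, rfl⟩ := QuotientGroup.mk_surjective y
  have hx : H.transferFocal (x : G) = H.transferFocal g :=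
    (Subgroup.transferFocal_eq_pow H x).trans hy
  rw [show g = g * (x : G)⁻¹ * x by group]
  refine Subgroup.mul_mem_sup ?_ x.2
  rw [MonoidHom.mem_ker, map_mul, map_inv, hx, mul_inv_cancel]

theorem commutator_inf_eq_focal (h : Nat.Coprime (Nat.card (H ⧸ H.focalSubgroupOf)) H.index) :
    commutator G ⊓ H = H.focalSubgroup := by
  refine le_antisymm ((inf_le_inf_right H ?_).trans (ker_transferFocal_inf h).le)
    (le_inf H.focalSubgroup_le_commutator H.focalSubgroup_le)
  rw [commutator_def, Subgroup.commutator_le]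
  intro a _ b _
  rw [MonoidHom.mem_ker, map_commutatorElement]
  exact commutatorElement_eq_one_iff_commute.2 (IsMulCommutative.is_comm.comm _ _)

end coprime

/-- A subgroup is contained in `C` if all its elements of prime power order are. -/
theorem le_of_forall_prime_pow [Finite G] {H C : Subgroup G}
    (h : ∀ q : ℕ, q.Prime → ∀ x ∈ H, (∃ k, x ^ q ^ k = 1) → x ∈ C) : H ≤ C := by
  rw [← Subgroup.relIndex_eq_one]
  by_contra hne
  obtain ⟨q, hq, hqd⟩ := Nat.exists_prime_and_dvd hne
  haveI : Fact q.Prime := ⟨hq⟩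
  obtain ⟨T, -, hTH, hTq, hTi⟩ := exists_le_not_dvd_relIndex (p := q)
    (IsPGroup.of_bot (G := G) (p := q)) (bot_le (a := H))
  have hTC : T ≤ C := fun x hx => h q hq x (hTH hx) (by
    obtain ⟨k, hk⟩ := hTq ⟨x, hx⟩
    exact ⟨k, congrArg Subtype.val hk⟩)
  exact hTi (hqd.trans (Subgroup.relIndex_dvd_of_le_left H hTC))

/-- For a coprime element acting on an abelian `p`-subgroup, commutators meet centralizers
trivially. -/
theorem eq_one_of_conj_eq_mul [Finite G] {n x z : G} (hc : Commute z n) (hxz : Commute z x)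
    (h : n * x * n⁻¹ = z * x) (hcop : Nat.Coprime (orderOf z) (orderOf n)) : z = 1 := by
  have key : ∀ i : ℕ, n ^ i * x * (n ^ i)⁻¹ = z ^ i * x := by
    intro i
    induction i with
    | zero => simp
    | succ i ih =>
      have e : n * z ^ i = z ^ i * n := (hc.pow_left i).eq.symm
      calc n ^ (i + 1) * x * (n ^ (i + 1))⁻¹ = n * (n ^ i * x * (n ^ i)⁻¹) * n⁻¹ := by
            rw [pow_succ']; group
        _ = n * z ^ i * x * n⁻¹ := by rw [ih]; group
        _ = z ^ i * (n * x * n⁻¹) := by rw [e]; group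
        _ = z ^ (i + 1) * x := by rw [h, pow_succ, mul_assoc]
  have h1 := key (orderOf n)
  rw [pow_orderOf_eq_one, one_mul, inv_one, mul_one] at h1
  have h2 : z ^ orderOf n = 1 := mul_right_cancel (h1.symm.trans (one_mul x).symm)
  exact orderOf_eq_one_iff.1 (Nat.eq_one_of_dvd_coprimes hcop dvd_rfl (orderOf_dvd_of_pow_eq_one h2))

variable [Fact p.Prime] [Finite G]

theorem coprime_card_focalQuotient (P : Sylow p G) :
    Nat.Coprime (Nat.card ((P : Subgroup G) ⧸ (P : Subgroup G).focalSubgroupOf))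
      (P : Subgroup G).index := by
  obtain ⟨k, hk⟩ := (P.2.to_quotient (P : Subgroup G).focalSubgroupOf).exists_card_eq
  rw [hk]
  exact Nat.Coprime.pow_left k ((Fact.out : p.Prime).coprime_iff_not_dvd.2 P.not_dvd_index)

theorem pResidual_le_ker_transferFocal (P : Sylow p G) :
    Cfsg.pResidual p G ≤ (P : Subgroup G).transferFocal.ker :=
  pResidual_le_ker _ (P.2.to_quotient _)

theorem abelian_sylow_control (P : Sylow p G) (hP : IsMulCommutative (P : Subgroup G))
    {x : G} (hx : x ∈ (P : Subgroup G)) (g : G) (hy : g * x * g⁻¹ ∈ (P : Subgroup G)) :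
    ∃ n ∈ Subgroup.normalizer ((P : Subgroup G) : Set G), n * x * n⁻¹ = g * x * g⁻¹ := by
  have hc : ∀ z ∈ (P : Subgroup G), (P : Subgroup G) ≤ Subgroup.centralizer {z} := by
    intro z hz u hu
    refine Subgroup.mem_centralizer_iff.2 fun w hw => ?_
    rw [Set.mem_singleton_iff.1 hw]
    exact congrArg Subtype.val (hP.is_comm.comm (⟨z, hz⟩ : (P : Subgroup G)) ⟨u, hu⟩)
  exact exists_normalizer_conj_eq_of_central P (hc x hx) g (hc _ hy)

theorem focalSubgroup_abelian_sylow (P : Sylow p G) (hP : IsMulCommutative (P : Subgroup G)) :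
    (P : Subgroup G).focalSubgroup =
      ⁅(P : Subgroup G), Subgroup.normalizer ((P : Subgroup G) : Set G)⁆ :=
  le_antisymm (focalSubgroup_le_of_control fun x hx g hy => abelian_sylow_control P hP hx g hy)
    (le_focalSubgroup_normalizer _)

theorem commutator_le_pResidual_of_abelian (P : Sylow p G)
    (hP : IsMulCommutative (P : Subgroup G)) : commutator G ≤ Cfsg.pResidual p G := by
  haveI := pResidual_normal (G := G) (p := p)
  rw [commutator_def, Subgroup.commutator_le]
  intro a _ b _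
  have key : ∀ c : G, ∃ u ∈ (P : Subgroup G),
      QuotientGroup.mk' (Cfsg.pResidual p G) u = QuotientGroup.mk' (Cfsg.pResidual p G) c := by
    intro c
    have hm := (pResidual_sup_sylow P).symm ▸ Subgroup.mem_top c
    rw [sup_comm] at hm
    obtain ⟨u, hu, k, hk, rfl⟩ := Subgroup.mem_sup_of_normal_right.1 hm
    refine ⟨u, hu, ?_⟩
    have hk1 : QuotientGroup.mk' (Cfsg.pResidual p G) k = 1 := (QuotientGroup.eq_one_iff k).2 hk
    rw [map_mul, hk1, mul_one]
  obtain ⟨u, hu, hua⟩ := key a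
  obtain ⟨v, hv, hvb⟩ := key b
  rw [← QuotientGroup.eq_one_iff (N := Cfsg.pResidual p G), ← QuotientGroup.mk'_apply, map_commutatorElement, ← hua, ← hvb,
    ← map_commutatorElement, commutatorElement_eq_one_iff_commute.2
      (congrArg Subtype.val (hP.is_comm.comm (⟨u, hu⟩ : (P : Subgroup G)) ⟨v, hv⟩)), map_one]

theorem inf_pResidual_abelian_sylow (P : Sylow p G) (hP : IsMulCommutative (P : Subgroup G)) :
    (P : Subgroup G) ⊓ Cfsg.pResidual p G =
      ⁅(P : Subgroup G), Subgroup.normalizer ((P : Subgroup G) : Set G)⁆ := by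
  rw [← focalSubgroup_abelian_sylow P hP]
  refine le_antisymm ?_ (le_inf (Subgroup.focalSubgroup_le _)
    ((Subgroup.focalSubgroup_le_commutator _).trans (commutator_le_pResidual_of_abelian P hP)))
  rw [← ker_transferFocal_inf (coprime_card_focalQuotient P), inf_comm]
  exact inf_le_inf_right _ (pResidual_le_ker_transferFocal P)

/-- Burnside's normal `p`-complement theorem for the Prelude predicate. -/
theorem hasNormalPComplement_of_normalizer_le_centralizer (P : Sylow p G)
    (h : Subgroup.normalizer ((P : Subgroup G) : Set G) ≤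
      Subgroup.centralizer ((P : Subgroup G) : Set G)) :
    Cfsg.HasNormalPComplement p G :=
  ⟨P, _, inferInstance, MonoidHom.ker_transferSylow_isComplement' P h⟩

end CfsgLib.Fusion
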