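import Cfsg.Agent.Lib.Invol.PConstrained
import Cfsg.Agent.Lib.Coprime.PConstrained
import Cfsg.Agent.Lib.PGroup.PSolvable
import Cfsg.Agent.Lib.Block.PSolvableOne
import Cfsg.Agent.Lib.Fusion.ZJFamilies
import Cfsg.Agent.Lib.Qd.QuadraticLift
import Cfsg.Agent.Lib.Fusion.System.AutStable
import Cfsg.Agent.Lib.Fusion.System.QdConstrained

/-!
# `p`-constraint and `p`-stability modulo the `p'`-core
-/

set_option autoImplicit false
set_option linter.style.haveILetI false
set_option linter.unusedSectionVars false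

open Subgroup
open scoped commutatorElement

namespace CfsgLib.Fusion

universe u

variable {G : Type u} [Group G] [Finite G] {p : ℕ} [Fact p.Prime]

/-- A `p`-subgroup in the range of a homomorphism is the image of a `p`-subgroup. -/
theorem exists_pGroup_map_eq {X H : Type*} [Group X] [Finite X] [Group H] (f : X →* H)
    (T : Subgroup H) (hT : IsPGroup p T) (hTr : T ≤ f.range) :
    ∃ U : Subgroup X, IsPGroup p U ∧ U.map f = T := by
  set M := T.comap f with hM
  haveI : Finite f.range := Finite.of_surjective _ f.rangeRestrict_surjective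
  haveI : Finite T := Finite.of_injective (fun t : T => (⟨t, hTr t.2⟩ : f.range))
    fun a b h => Subtype.ext (congrArg (fun z : f.range => (z : H)) h)
  let g : M →* T := f.subgroupComap T
  have hg : Function.Surjective g := fun t => by
    obtain ⟨x, hx⟩ := hTr t.2
    exact ⟨⟨x, show f x ∈ T from hx.symm ▸ t.2⟩, Subtype.ext hx⟩
  obtain ⟨P⟩ : Nonempty (Sylow p M) := inferInstance
  refine ⟨(P : Subgroup M).map M.subtype, P.2.map _, ?_⟩
  have h1 : (P : Subgroup M).map g = ⊤ := by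
    have hPc : ((P.mapSurjective hg : Sylow p T) : Subgroup T) = (P : Subgroup M).map g :=
      Sylow.coe_mapSurjective hg P
    rw [← hPc]
    exact ((P.mapSurjective hg).is_maximal' (hT.to_subgroup ⊤) le_top).symm
  calc ((P : Subgroup M).map M.subtype).map f = ((P : Subgroup M).map g).map T.subtype := by
        rw [Subgroup.map_map, Subgroup.map_map]; rfl
    _ = T := by rw [h1, ← MonoidHom.range_eq_map, Subgroup.range_subtype]

/-- `p`-solvability passes to the image of a surjective homomorphism. -/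
theorem isPSolvable_of_surjective {X H : Type*} [Group X] [Group H] (f : X →* H)
    (hf : Function.Surjective f) (h : Cfsg.IsPSolvable p X) : Cfsg.IsPSolvable p H := by
  obtain ⟨n, C, h0, hl, hm, hn, hc⟩ :=
    CfsgLib.PGroup.isPSolvable_quotient (Fact.out : p.Prime) h f.ker
  obtain ⟨e, -⟩ : ∃ e : X ⧸ f.ker ≃* H, True :=
    ⟨QuotientGroup.quotientKerEquivOfSurjective f hf, trivial⟩
  refine ⟨n, fun i => (C i).map e.toMonoidHom, by simp [h0], ?_,
    fun i j hij => Subgroup.map_mono (hm hij), fun i => (hn i).map _ e.surjective, fun i => ?_⟩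
  · show (C (Fin.last n)).map _ = ⊤
    rw [hl, Subgroup.map_top_of_surjective _ e.surjective]
  · show (∃ m : ℕ, ((C i.castSucc).map e.toMonoidHom).relIndex ((C i.succ).map e.toMonoidHom) = p ^ m) ∨
      (((C i.castSucc).map e.toMonoidHom).relIndex ((C i.succ).map e.toMonoidHom)).Coprime p
    rw [Subgroup.relIndex_map_map_of_injective _ _ e.injective]
    exact hc i

theorem isPConstrained_iff_quotient :
    Cfsg.IsPConstrained p G ↔ Cfsg.IsPConstrained p (G ⧸ Cfsg.pPrimeCore p G) := by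
  rw [CfsgLib.Invol.isPConstrained_iff, CfsgLib.Invol.isPConstrained_iff]
  exact ⟨CfsgLib.Invol.pCons_of_pClean, fun h => CfsgLib.Invol.pClean_of_pCons h
    (CfsgLib.Coprime.pPrimeCore_quotient_eq_bot (Fact.out : p.Prime))⟩

/-- The `p'`-core of a `p`-local subgroup of a constrained group. -/
theorem pPrimeCore_normalizer_eq
    (hc : Subgroup.centralizer (Cfsg.pCore p (G ⧸ Cfsg.pPrimeCore p G) : Set (G ⧸ Cfsg.pPrimeCore p G))
      ≤ Cfsg.pCore p (G ⧸ Cfsg.pPrimeCore p G)) (P : Subgroup G) (hP : IsPGroup p P) :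
    (Cfsg.pPrimeCore p ↥(Subgroup.normalizer (P : Set G))).map
        (Subgroup.normalizer (P : Set G)).subtype =
      Cfsg.pPrimeCore p G ⊓ Subgroup.normalizer (P : Set G) := by
  set K := Cfsg.pPrimeCore p G with hK
  set N := Subgroup.normalizer (P : Set G) with hN
  set π := QuotientGroup.mk' K with hπ
  have hKc : ¬ p ∣ Nat.card K := CfsgLib.Coprime.pPrimeCore_not_dvd Fact.out
  apply le_antisymm
  · refine le_inf ?_ (Subgroup.map_subtype_le _)
    set N' := Subgroup.normalizer (P.map π : Set (G ⧸ K)) with hN'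
    obtain ⟨hb, -⟩ := CfsgLib.Coprime.local_of_centralizer_pCore_le hc (hP.map π)
    have hle : N.map π ≤ N' := Subgroup.le_normalizer_map π
    let f : N →* N' := (π.comp N.subtype).codRestrict N' fun x => hle ⟨x, x.2, rfl⟩
    have hf : Function.Surjective f := fun y => by
      obtain ⟨n, hn, hny⟩ := normalizer_map_le K hKc hP y.2
      exact ⟨⟨n, hn⟩, Subtype.ext hny⟩
    rintro _ ⟨x, hx, rfl⟩
    have h1 := CfsgLib.Coprime.map_pPrimeCore_le hf p ⟨x, hx, rfl⟩
    rw [hb, Subgroup.mem_bot] at h1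
    exact (QuotientGroup.eq_one_iff _).1 (congrArg Subtype.val h1)
  · intro x hx
    refine ⟨⟨x, hx.2⟩, CfsgLib.Coprime.le_pPrimeCore (N := K.subgroupOf N) ?_ hx.1, rfl⟩
    refine Nat.Coprime.coprime_dvd_left ?_ (CfsgLib.Coprime.pPrimeCore_coprime (G := G) (Fact.out : p.Prime))
    rw [← Subgroup.card_map_of_injective N.subtype_injective, Subgroup.subgroupOf_map_subtype]
    exact Subgroup.card_dvd_of_le inf_le_left

/-- A `p`-solvable centralizer of a Sylow subgroup of `O_{p',p}` gives `p`-constraint. -/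
theorem isPConstrained_of_pSolvable_centralizer (P : Sylow p ↥(Cfsg.pPrimePCore p G))
    (hsol : Cfsg.IsPSolvable p ↥(Subgroup.centralizer (((P : Subgroup ↥(Cfsg.pPrimePCore p G)).map
      (Cfsg.pPrimePCore p G).subtype : Subgroup G) : Set G))) : Cfsg.IsPConstrained p G := by
  set P' := (P : Subgroup ↥(Cfsg.pPrimePCore p G)).map (Cfsg.pPrimePCore p G).subtype with hP'
  set K := Cfsg.pPrimeCore p G with hK
  set π := QuotientGroup.mk' K with hπ
  have hπs : Function.Surjective π := QuotientGroup.mk'_surjective K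
  have hKc : ¬ p ∣ Nat.card K := CfsgLib.Coprime.pPrimeCore_not_dvd Fact.out
  haveI := CfsgLib.Coprime.pCore_normal' (G := G ⧸ K) p
  have himg : P'.map π = Cfsg.pCore p (G ⧸ K) := by
    have hNmap : (Cfsg.pPrimePCore p G).map π = Cfsg.pCore p (G ⧸ K) := Subgroup.map_comap_eq_self_of_surjective hπs _
    obtain ⟨U, hU, hUm⟩ := exists_pGroup_map_eq (p := p) (π.comp (Cfsg.pPrimePCore p G).subtype) (Cfsg.pCore p (G ⧸ K))
      (CfsgLib.Coprime.pCore_isPGroup p)
      (by rw [MonoidHom.range_comp, Subgroup.range_subtype]; exact hNmap.ge)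
    obtain ⟨Q, hQ⟩ := hU.exists_le_sylow
    obtain ⟨g, hg⟩ := MulAction.exists_smul_eq ↥(Cfsg.pPrimePCore p G) Q P
    refine le_antisymm ((Subgroup.map_mono (Subgroup.map_subtype_le _)).trans hNmap.le) ?_
    intro y hy
    have hy' := (inferInstance : (Cfsg.pCore p (G ⧸ K)).Normal).conj_mem y hy (π (g : G))⁻¹
    rw [inv_inv, ← hUm] at hy'
    obtain ⟨x, hx, hxy⟩ := hy'
    refine ⟨((g * x * g⁻¹ : ↥(Cfsg.pPrimePCore p G)) : G), ⟨g * x * g⁻¹, ?_, rfl⟩, ?_⟩
    · rw [← hg, Sylow.smul_def, Sylow.pointwise_smul_def]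
      exact ⟨x, hQ hx, rfl⟩
    · show π (((g : G) * (x : G) * (g : G)⁻¹)) = y
      rw [map_mul, map_mul, map_inv, show π (x : G) = _ from hxy]
      group
  rw [CfsgLib.Invol.isPConstrained_iff]
  refine CfsgLib.Invol.pClean_of_centralizer_le ?_
  set C := Subgroup.centralizer (P' : Set G) with hC
  have hCeq : C.map π = Subgroup.centralizer (Cfsg.pCore p (G ⧸ K) : Set (G ⧸ K)) := by
    refine le_antisymm ?_ (himg ▸ centralizer_map_le K hKc (P.2.map _))
    rintro _ ⟨c, hc, rfl⟩
    rw [← himg]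
    refine Subgroup.mem_centralizer_iff.2 ?_
    rintro _ ⟨t, ht, rfl⟩
    rw [← map_mul, ← map_mul, Subgroup.mem_centralizer_iff.1 hc t ht]
  have hsol' : Cfsg.IsPSolvable p ↥(C.map π) :=
    isPSolvable_of_surjective (π.subgroupMap C) (π.subgroupMap_surjective C)
      hsol
  haveI : (C.map π).Normal := hCeq ▸ inferInstance
  have hb : Cfsg.pPrimeCore p ↥(C.map π) = ⊥ := by
    apply Subgroup.map_injective (C.map π).subtype_injective
    rw [CfsgLib.Coprime.pPrimeCore_map_subtype_eq Fact.out,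
      CfsgLib.Coprime.pPrimeCore_quotient_eq_bot (Fact.out : p.Prime), bot_inf_eq, Subgroup.map_bot]
  have h := CfsgLib.Block.centralizer_pCore_le_of_isPSolvable hsol' hb
  rw [← hCeq]
  intro y hy
  have h1 : (⟨y, hy⟩ : C.map π) ∈ Cfsg.pCore p ↥(C.map π) := by
    refine h (Subgroup.mem_centralizer_iff.2 fun w hw => Subtype.ext ?_)
    have hw' : (w : G ⧸ K) ∈ Cfsg.pCore p (G ⧸ K) :=
      ((CfsgLib.Coprime.pCore_map_subtype_eq p (C.map π)).le ⟨w, hw, rfl⟩).1
    exact Subgroup.mem_centralizer_iff.1 (hCeq.le hy) _ hw'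
  exact ((CfsgLib.Coprime.pCore_map_subtype_eq p (C.map π)).le ⟨_, h1, rfl⟩).1

/-- The automizer of a `p`-subgroup is unchanged modulo a normal `p'`-subgroup. -/
theorem exists_automizer_equiv (K : Subgroup G) [K.Normal] (hK : ¬ p ∣ Nat.card K) {P : Subgroup G}
    (hP : IsPGroup p P) :
    ∃ e : (↥(Subgroup.normalizer (P : Set G)) ⧸
          (Subgroup.centralizer (P : Set G)).subgroupOf (Subgroup.normalizer (P : Set G))) ≃*
        (↥(Subgroup.normalizer (P.map (QuotientGroup.mk' K) : Set (G ⧸ K))) ⧸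
          (Subgroup.centralizer (P.map (QuotientGroup.mk' K) : Set (G ⧸ K))).subgroupOf
            (Subgroup.normalizer (P.map (QuotientGroup.mk' K) : Set (G ⧸ K)))),
      ∀ (n : ↥(Subgroup.normalizer (P : Set G)))
        (n' : ↥(Subgroup.normalizer (P.map (QuotientGroup.mk' K) : Set (G ⧸ K)))),
        (n' : G ⧸ K) = QuotientGroup.mk' K (n : G) →
          e (QuotientGroup.mk n) = QuotientGroup.mk n' := by
  set π := QuotientGroup.mk' K with hπ
  set N := Subgroup.normalizer (P : Set G)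
  set N' := Subgroup.normalizer (P.map π : Set (G ⧸ K))
  set C' := (Subgroup.centralizer (P.map π : Set (G ⧸ K))).subgroupOf N' with hC'
  let f : N →* N' := (π.comp N.subtype).codRestrict N' fun x =>
    Subgroup.le_normalizer_map π ⟨x, x.2, rfl⟩
  have hf : Function.Surjective ((QuotientGroup.mk' C').comp f) :=
    (QuotientGroup.mk'_surjective C').comp fun y => by
      obtain ⟨n, hn, hny⟩ := normalizer_map_le K hK hP y.2
      exact ⟨⟨n, hn⟩, Subtype.ext hny⟩
  have hker : ((QuotientGroup.mk' C').comp f).ker = (Subgroup.centralizer (P : Set G)).subgroupOf N := by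
    rw [← MonoidHom.comap_ker, QuotientGroup.ker_mk']
    ext n
    show π (n : G) ∈ Subgroup.centralizer (P.map π : Set (G ⧸ K)) ↔
      (n : G) ∈ Subgroup.centralizer (P : Set G)
    constructor
    · intro h
      refine mem_centralizer_iff'.2 fun x hx => ?_
      have h2 := mem_centralizer_iff'.1 h _ (Subgroup.mem_map_of_mem π hx)
      rw [← map_inv, ← map_mul, ← map_mul] at h2
      have h3 : ((n : G) * x * (n : G)⁻¹) * x⁻¹ ∈ K := by
        rw [← QuotientGroup.eq_one_iff, ← QuotientGroup.mk'_apply, map_mul, h2, map_inv,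
          mul_inv_cancel]
      exact mul_inv_eq_one.1 (eq_one_of_pGroup_of_coprime hP
        (P.mul_mem ((Subgroup.mem_normalizer_iff.1 n.2 x).1 hx) (P.inv_mem hx))
        ((not_dvd_card_iff_forall_coprime_orderOf K).1 hK _ h3))
    · intro h
      refine Subgroup.mem_centralizer_iff.2 ?_
      rintro _ ⟨x, hx, rfl⟩
      rw [← map_mul, ← map_mul, Subgroup.mem_centralizer_iff.1 h x hx]
  refine ⟨(QuotientGroup.quotientMulEquivOfEq hker.symm).trans
    (QuotientGroup.quotientKerEquivOfSurjective _ hf), fun n n' h => ?_⟩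
  show QuotientGroup.mk' C' (f n) = QuotientGroup.mk n'
  rw [show f n = n' from Subtype.ext h.symm]
  rfl

/-- Corresponding subgroups of operators have corresponding images in the automizers. -/
theorem image_le_pCore_iff (K : Subgroup G) [K.Normal] (hK : ¬ p ∣ Nat.card K) {P : Subgroup G}
    (hP : IsPGroup p P) {A : Subgroup G} (hA : A ≤ Subgroup.normalizer (P : Set G)) :
    (A.subgroupOf (Subgroup.normalizer (P : Set G))).map
        (QuotientGroup.mk' ((Subgroup.centralizer (P : Set G)).subgroupOf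
          (Subgroup.normalizer (P : Set G)))) ≤ Cfsg.pCore p _ ↔
      ((A.map (QuotientGroup.mk' K)).subgroupOf
          (Subgroup.normalizer (P.map (QuotientGroup.mk' K) : Set (G ⧸ K)))).map
        (QuotientGroup.mk' ((Subgroup.centralizer (P.map (QuotientGroup.mk' K) : Set (G ⧸ K))).subgroupOf
          (Subgroup.normalizer (P.map (QuotientGroup.mk' K) : Set (G ⧸ K))))) ≤ Cfsg.pCore p _ := by
  obtain ⟨e, he⟩ := exists_automizer_equiv K hK hP
  have hmem : ∀ (n : G) (hn : n ∈ Subgroup.normalizer (P : Set G)),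
      QuotientGroup.mk' K n ∈ Subgroup.normalizer (P.map (QuotientGroup.mk' K) : Set (G ⧸ K)) :=
    fun n hn => Subgroup.le_normalizer_map _ ⟨n, hn, rfl⟩
  constructor
  · rintro h _ ⟨n', hn', rfl⟩
    obtain ⟨a, ha, hae⟩ := hn'
    have h1 := CfsgLib.Coprime.map_pCore_le (f := e.toMonoidHom) e.surjective p
      ⟨_, h ⟨⟨a, hA ha⟩, ha, rfl⟩, rfl⟩
    rwa [show e.toMonoidHom (QuotientGroup.mk' _ ⟨a, hA ha⟩) = _ from he ⟨a, hA ha⟩ n' hae.symm] at h1
  · rintro h _ ⟨n, hn, rfl⟩
    have h1 := CfsgLib.Coprime.map_pCore_le (f := e.symm.toMonoidHom) e.symm.surjective p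
      ⟨_, h ⟨⟨_, hmem n n.2⟩, ⟨n, hn, rfl⟩, rfl⟩, rfl⟩
    rwa [show e.symm.toMonoidHom (QuotientGroup.mk' _ ⟨_, hmem n n.2⟩) = QuotientGroup.mk' _ n from
      (MulEquiv.symm_apply_eq e).2 (he n _ rfl).symm] at h1

/-- `p`-stability is detected modulo the `p'`-core. -/
theorem isPStable_iff_quotient (hO : Cfsg.pCore p G ≠ ⊥) :
    Cfsg.IsPStable p G ↔ Cfsg.IsPStable p (G ⧸ Cfsg.pPrimeCore p G) := by
  set K := Cfsg.pPrimeCore p G with hK
  set π := QuotientGroup.mk' K with hπ
  have hπs : Function.Surjective π := QuotientGroup.mk'_surjective K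
  have hKc : ¬ p ∣ Nat.card K := CfsgLib.Coprime.pPrimeCore_not_dvd Fact.out
  have hbot : Cfsg.pPrimeCore p (G ⧸ K) = ⊥ :=
    CfsgLib.Coprime.pPrimeCore_quotient_eq_bot (Fact.out : p.Prime)
  haveI hQn := CfsgLib.Coprime.pCore_normal' (G := G ⧸ K) p
  have hne : Cfsg.pCore p (G ⧸ K) ≠ ⊥ := fun h => hO <| le_bot_iff.1 fun x hx => by
    have h1 := h.le (CfsgLib.Coprime.map_pCore_le hπs p ⟨x, hx, rfl⟩)
    exact Subgroup.mem_bot.2 (eq_one_of_pGroup_of_coprime (CfsgLib.Coprime.pCore_isPGroup p) hx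
      ((not_dvd_card_iff_forall_coprime_orderOf K).1 hKc _
        ((QuotientGroup.eq_one_iff x).1 h1)))
  constructor
  · rintro ⟨hodd, -, hst⟩
    refine ⟨hodd, hne, fun A' P' hA' hP' _ _ hn hq => ?_⟩
    rw [hbot, bot_sup_eq] at hn
    haveI := hn
    obtain ⟨P, hP, hPm⟩ := exists_pGroup_map_eq π P' hP'
      (MonoidHom.range_eq_top.2 hπs ▸ le_top)
    subst hPm
    set N := Subgroup.normalizer (P : Set G) with hN
    obtain ⟨A₀, hA₀, hA₀m⟩ := exists_pGroup_map_eq (π.comp N.subtype) A' hA' (by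
      intro y _
      obtain ⟨n, hn, hny⟩ := normalizer_map_le K hKc hP
        (show y ∈ Subgroup.normalizer (P.map π : Set (G ⧸ K)) by
          rw [Subgroup.normalizer_eq_top]; exact Subgroup.mem_top y)
      exact ⟨⟨n, hn⟩, hny⟩)
    set A := A₀.map N.subtype with hA
    have hAN : A ≤ N := Subgroup.map_subtype_le _
    have hAm : A.map π = A' := by rw [hA, Subgroup.map_map]; exact hA₀m
    have hnP : ∀ a ∈ A, ∀ x ∈ P, a * x * a⁻¹ ∈ P := fun a ha x hx =>
      (Subgroup.mem_normalizer_iff.1 (hAN ha) x).1 hx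
    have hcomap : (P.map π).comap π = K ⊔ P := by
      rw [Subgroup.comap_map_eq, QuotientGroup.ker_mk', sup_comm]
    have hPA : ⁅⁅P, A⁆, A⁆ ≤ P := by
      have h1 : ⁅P, A⁆ ≤ P := Subgroup.le_normalizer_iff_commutator_le_left.1 hAN
      exact (Subgroup.commutator_mono h1 le_rfl).trans h1
    have hq' : ⁅⁅P, A⁆, A⁆ = ⊥ := le_bot_iff.1 fun x hx => by
      have h1 : π x ∈ (⁅⁅P, A⁆, A⁆).map π := ⟨x, hx, rfl⟩
      rw [Subgroup.map_commutator, Subgroup.map_commutator, hAm, hq, Subgroup.mem_bot] at h1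
      exact Subgroup.mem_bot.2 (eq_one_of_pGroup_of_coprime hP (hPA hx)
        ((not_dvd_card_iff_forall_coprime_orderOf K).1 hKc _ ((QuotientGroup.eq_one_iff x).1 h1)))
    have h := hst A P (hA₀.map _) hP hnP
      (fun x hx => CfsgLib.Coprime.le_pCore hP' ⟨x, hx, rfl⟩)
      (hcomap ▸ Subgroup.Normal.comap hn π) hq'
    have h2 := (image_le_pCore_iff K hKc hP hAN).1 h
    rwa [hAm] at h2
  · rintro ⟨hodd, -, hst⟩
    refine ⟨hodd, hO, fun A P hA hP hnP hPle hn hq => ?_⟩
    have hAN : A ≤ Subgroup.normalizer (P : Set G) := fun a ha =>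
      conjBy_eq_iff.1 (conjBy_eq_of_le (conjBy_le_iff.2 fun x hx => hnP a ha x hx))
    haveI hPn : (P.map π).Normal := by
      have h := hn.map π hπs
      rwa [Subgroup.map_sup, QuotientGroup.map_mk'_self, bot_sup_eq] at h
    have h := hst (A.map π) (P.map π) (hA.map _) (hP.map _)
      (fun a _ x hx => hPn.conj_mem x hx a)
      (fun y hy => by
        show QuotientGroup.mk' _ y ∈ Cfsg.pCore p _
        exact CfsgLib.Coprime.map_pCore_le (QuotientGroup.mk'_surjective _) p
          ⟨y, CfsgLib.Coprime.le_pCore (hP.map π) hy, rfl⟩)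
      (by rw [hbot, bot_sup_eq]; exact hPn)
      (by rw [← Subgroup.map_commutator, ← Subgroup.map_commutator, hq, Subgroup.map_bot])
    exact (image_le_pCore_iff K hKc hP hAN).2 h

/-- A stable group with trivial `p'`-core is stable on its normal `p`-subgroups. -/
theorem isPStableOn_of_isPStable (hs : Cfsg.IsPStable p G) (hK : Cfsg.pPrimeCore p G = ⊥)
    (R : Subgroup G) [hRn : R.Normal] (hR : IsPGroup p R) : Cfsg.IsPStableOn p R := by
  intro a hq
  set C := Subgroup.centralizer (R : Set G) with hC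
  obtain ⟨k, hk⟩ := exists_pow_coprime (p := p) a
  have hyC : a ^ p ^ k ∈ C := by
    refine mem_centralizer_iff'.2 fun x hx => CfsgLib.Qd.commute_of_chain hR
      (N := ⁅R, Subgroup.zpowers a⁆) (Subgroup.le_normalizer_iff_commutator_le_left.1 (by
        rw [Subgroup.normalizer_eq_top]; exact le_top)) hk (fun n hn => ?_) ?_
    · rw [Subgroup.commutator_eq_bot_iff_le_centralizer] at hq
      rw [Subgroup.mem_centralizer_iff.1 (hq hn) _ (pow_mem (Subgroup.mem_zpowers a) _),
        mul_inv_cancel_right]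
    · have h := Subgroup.commutator_mem_commutator (inv_mem hx)
        (pow_mem (Subgroup.mem_zpowers a) (p ^ k))
      rw [commutatorElement_def, inv_inv] at h
      simpa [mul_assoc] using h
  obtain ⟨b, c, hbc⟩ : IsCoprime ((orderOf (a ^ p ^ k) : ℕ) : ℤ) ((p ^ k : ℕ) : ℤ) :=
    Int.isCoprime_iff_gcd_eq_one.2 (Nat.Coprime.pow_right k hk)
  set a' : G := a ^ (((orderOf (a ^ p ^ k) : ℕ) : ℤ) * b) with ha'
  have ha'p : a' ^ p ^ k = 1 := by
    rw [ha', ← zpow_natCast, ← zpow_mul, show ((orderOf (a ^ p ^ k) : ℕ) : ℤ) * b * ((p ^ k : ℕ) : ℤ) =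
      ((p ^ k : ℕ) : ℤ) * (((orderOf (a ^ p ^ k) : ℕ) : ℤ) * b) by ring, zpow_mul, zpow_natCast,
      zpow_mul, zpow_natCast, pow_orderOf_eq_one, one_zpow]
  have hmk : (QuotientGroup.mk a : G ⧸ C) = QuotientGroup.mk a' := by
    rw [QuotientGroup.eq, ha', ← zpow_neg_one, ← zpow_add,
      show (-1 : ℤ) + ((orderOf (a ^ p ^ k) : ℕ) : ℤ) * b = ((p ^ k : ℕ) : ℤ) * (-c) by
        linarith [hbc], zpow_mul, zpow_natCast]
    exact zpow_mem hyC _
  set A := Subgroup.zpowers a' with hA
  have hAp : IsPGroup p A := by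
    rintro ⟨y, hy⟩
    obtain ⟨i, rfl⟩ := Subgroup.mem_zpowers_iff.1 hy
    refine ⟨k, Subtype.ext ?_⟩
    show (a' ^ i) ^ p ^ k = 1
    rw [← zpow_natCast, ← zpow_mul, mul_comm, zpow_mul, zpow_natCast, ha'p, one_zpow]
  have hAa : A ≤ Subgroup.zpowers a := Subgroup.zpowers_le.2 (zpow_mem (Subgroup.mem_zpowers a) _)
  have h := hs.2.2 A R hAp hR (fun z _ x hx => hRn.conj_mem x hx z)
    (fun y hy => CfsgLib.Coprime.map_pCore_le (QuotientGroup.mk'_surjective _) p
      ⟨y, CfsgLib.Coprime.le_pCore hR hy, rfl⟩)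
    (by rw [hK, bot_sup_eq]; exact hRn)
    (le_bot_iff.1 (hq ▸ Subgroup.commutator_mono (Subgroup.commutator_mono le_rfl hAa) hAa))
  have htop : ∀ z : G, z ∈ Subgroup.normalizer (R : Set G) := fun z => by
    rw [Subgroup.normalizer_eq_top]; exact Subgroup.mem_top z
  have hmem := h ⟨⟨a', htop a'⟩, Subgroup.mem_zpowers a', rfl⟩
  rw [hmk]
  exact mem_pCore_of_quotient ((QuotientGroup.mk' C).comp (Subgroup.normalizer (R : Set G)).subtype)
    (fun y => by
      obtain ⟨x, rfl⟩ := QuotientGroup.mk'_surjective C y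
      exact ⟨⟨x, htop x⟩, rfl⟩) _
    (fun z hz => (QuotientGroup.eq_one_iff _).2 hz) hmem

/-- The factorization by `Z(J)` in a constrained stable group. -/
theorem zj_factorization (hp : p ≠ 2) (hc : Cfsg.IsPConstrained p G) (hs : Cfsg.IsPStable p G)
    (P : Sylow p G) :
    Cfsg.pPrimeCore p G ⊔ Subgroup.normalizer
      (Cfsg.centerThompsonAOf ((P : Subgroup G)) : Set G) = ⊤ := by
  set K := Cfsg.pPrimeCore p G with hK
  set π := QuotientGroup.mk' K with hπ
  have hπs : Function.Surjective π := QuotientGroup.mk'_surjective K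
  have hKc : ¬ p ∣ Nat.card K := CfsgLib.Coprime.pPrimeCore_not_dvd Fact.out
  have hcl := CfsgLib.Invol.PClean.centralizer_le (CfsgLib.Invol.isPConstrained_iff.1 hc)
  have hsQ := (isPStable_iff_quotient hs.2.1).1 hs
  have hbot : Cfsg.pPrimeCore p (G ⧸ K) = ⊥ :=
    CfsgLib.Coprime.pPrimeCore_quotient_eq_bot (Fact.out : p.Prime)
  haveI hn := centerThompsonAOf_normal hp hcl (fun R _ hR => isPStableOn_of_isPStable hsQ hbot R hR)
    (P.mapSurjective hπs) le_rfl fun Q hQ g hg y hy => hQ ((Subgroup.mem_normalizer_iff.1 hg y).1 hy.2)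
  set Z := Cfsg.centerThompsonAOf ((P : Subgroup G)) with hZ
  have hinj : Function.Injective (π.comp (P : Subgroup G).subtype) :=
    (injective_iff_map_eq_one _).2 fun x hx => Subtype.ext (eq_one_of_pGroup_of_coprime P.2 x.2
      ((not_dvd_card_iff_forall_coprime_orderOf K).1 hKc _ ((QuotientGroup.eq_one_iff _).1 hx)))
  have hZm : Z.map π = Cfsg.centerThompsonAOf ((P.mapSurjective hπs : Sylow p (G ⧸ K)) :
      Subgroup (G ⧸ K)) := by
    have h2 := map_zjFun (π.comp (P : Subgroup G).subtype) hinj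
    rw [← Subgroup.map_map, map_zjFun (P : Subgroup G).subtype (P : Subgroup G).subtype_injective,
      Subgroup.range_subtype, MonoidHom.range_comp, Subgroup.range_subtype] at h2
    rw [Sylow.coe_mapSurjective]
    exact h2
  rw [← hZm] at hn
  have hZp : IsPGroup p Z := P.2.to_le (inf_le_left.trans (Subgroup.map_subtype_le _))
  refine eq_top_iff.2 fun g _ => ?_
  obtain ⟨n, hn', hne⟩ := normalizer_map_le K hKc hZp
    (show π g ∈ Subgroup.normalizer (Z.map π : Set (G ⧸ K)) by
      rw [Subgroup.normalizer_eq_top]; exact Subgroup.mem_top _)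
  have : g = g * n⁻¹ * n := by group
  rw [this]
  refine Subgroup.mul_mem_sup ?_ hn'
  rw [← QuotientGroup.eq_one_iff]
  show π (g * n⁻¹) = 1
  rw [map_mul, map_inv, hne, mul_inv_cancel]

end CfsgLib.Fusion
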