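import Cfsg.Agent.Lib.Fusion.AlperinTame
import Cfsg.Agent.Lib.Coprime.Core
import Cfsg.Prelude.Def_Local
import Cfsg.Prelude.Def_TwoFusion
import Mathlib.GroupTheory.SchurZassenhaus

/-!
# Alperin's fusion theorem in Goldschmidt's form

Conjugation is factored through normalizers of fully normalized, centric subgroups `E` of the Sylow group
with `O_{p',p}(N(E)) = O_{p'}(N(E)) × E`, up to an element centralizing the moved set.
-/

set_option autoImplicit false
set_option linter.style.haveILetI false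
set_option linter.unusedSectionVars false

open Subgroup

namespace CfsgLib.Fusion.Goldschmidt

universe u

variable {G : Type u} [Group G] {p : ℕ}

/-- `O_{p'}(N(E))` in `G`. -/
abbrev core' (p : ℕ) (E : Subgroup G) : Subgroup G :=
  (Cfsg.pPrimeCore p ↥(normalizer (E : Set G))).map (normalizer (E : Set G)).subtype

/-- `O_{p',p}(N(E))` in `G`. -/
abbrev corePP (p : ℕ) (E : Subgroup G) : Subgroup G :=
  (Cfsg.pPrimePCore p ↥(normalizer (E : Set G))).map (normalizer (E : Set G)).subtype

/-- The members of Goldschmidt's conjugation family. -/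
def Good (P : Sylow p G) (E : Subgroup G) : Prop :=
  E ≤ (P : Subgroup G) ∧ centralizer (E : Set G) ≤ corePP p E ∧
    Cfsg.IsInternalDirectProduct (core' p E) E (corePP p E) ∧
    ¬ p ∣ ((P : Subgroup G) ⊓ normalizer (E : Set G)).relIndex (normalizer (E : Set G))

/-- A chain of normalizer elements of good subgroups moving `D`. -/
inductive GChain (P : Sylow p G) : Subgroup G → G → Prop
  | nil (D : Subgroup G) : GChain P D 1
  | cons {D : Subgroup G} {g : G} (E : Subgroup G) (x : G) (hE : Good P E)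
      (hx : x ∈ normalizer (E : Set G)) (hD : D ≤ E) (h : GChain P (conjBy x⁻¹ D) g) :
      GChain P D (x * g)

namespace GChain

variable {P : Sylow p G}

theorem mono {D : Subgroup G} {g : G} (h : GChain P D g) :
    ∀ {D' : Subgroup G}, D' ≤ D → GChain P D' g := by
  induction h with
  | nil D => intro D' _; exact GChain.nil D'
  | cons E x hE hx hD _ ih =>
    intro D' hle
    exact GChain.cons E x hE hx (hle.trans hD) (ih (conjBy_mono hle))

theorem comp {D : Subgroup G} {g : G} (h₁ : GChain P D g) :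
    ∀ {h : G}, GChain P (conjBy g⁻¹ D) h → GChain P D (g * h) := by
  induction h₁ with
  | nil D => intro h h₂; rw [inv_one, conjBy_one] at h₂; rwa [one_mul]
  | cons E x hE hx hD _ ih =>
    intro h h₂
    rw [_root_.mul_inv_rev, ← conjBy_conjBy] at h₂
    rw [mul_assoc]
    exact GChain.cons E x hE hx hD (ih h₂)

/-- The chain as sequences. -/
theorem exists_seq {D : Subgroup G} {g : G} (h : GChain P D g) :
    ∀ A : Set G, A ⊆ (D : Set G) →
    ∃ (n : ℕ) (E : Fin n → Subgroup G) (x : Fin n → G), (List.ofFn x).prod = g ∧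
      (∀ i : Fin n, x i ∈ normalizer ((E i : Subgroup G) : Set G) ∧ Good P (E i)) ∧
      (∀ h : 0 < n, A ⊆ ((E ⟨0, h⟩ : Subgroup G) : Set G)) ∧
      ∀ i : Fin n, ∀ h : i.val + 1 < n,
        (fun a => (((List.ofFn x).take (i.val + 1)).prod)⁻¹ * a * ((List.ofFn x).take (i.val + 1)).prod) '' A ⊆
          ((E ⟨i.val + 1, h⟩ : Subgroup G) : Set G) := by
  induction h with
  | nil D =>
    intro A _
    exact ⟨0, Fin.elim0, Fin.elim0, by simp, fun i => i.elim0, fun h => absurd h (lt_irrefl 0),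
      fun i => i.elim0⟩
  | @cons D g E x hE hx hD _ ih =>
    intro A hA
    obtain ⟨n, E', x', hprod, hmem, h0, hstep⟩ := ih ((fun a => x⁻¹ * a * x) '' A) (by
      rintro _ ⟨a, ha, rfl⟩
      refine ⟨a, hA ha, ?_⟩
      simp)
    refine ⟨n + 1, Fin.cons E E', Fin.cons x x', ?_, Fin.cases ⟨hx, hE⟩ hmem, fun _ a ha => hD (hA ha),
      fun i hi => ?_⟩
    · rw [List.ofFn_cons, List.prod_cons, hprod]
    · rw [List.ofFn_cons, List.take_succ_cons, List.prod_cons]
      obtain ⟨i, hi'⟩ := i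
      rintro _ ⟨a, ha, rfl⟩
      have hQ : (Fin.cons E E' : Fin (n + 1) → Subgroup G) ⟨i + 1, hi⟩ = E' ⟨i, by simp only at hi; omega⟩ :=
        rfl
      rw [hQ]
      rcases i with - | j
      · simpa using h0 (by simp only at hi; omega) ⟨a, ha, rfl⟩
      · have h1 := hstep ⟨j, by simp only at hi; omega⟩ (by simp only at hi ⊢; omega)
          ⟨x⁻¹ * a * x, ⟨a, ha, rfl⟩, rfl⟩
        simp only at h1 ⊢
        convert h1 using 1
        rw [_root_.mul_inv_rev]
        simp only [mul_assoc]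

end GChain

/-- A chain up to an element centralizing the moved subgroup. -/
def Conn (P : Sylow p G) (D : Subgroup G) (g : G) : Prop :=
  ∃ c ∈ centralizer (D : Set G), ∃ h : G, GChain P D h ∧ g = c * h

theorem conjBy_of_mem_centralizer {D : Subgroup G} {c : G} (hc : c ∈ centralizer (D : Set G)) :
    conjBy c D = D :=
  conjBy_eq_iff.2 (centralizer_le_normalizer _ hc)

namespace Conn

variable {P : Sylow p G}

theorem of_centralizer {D : Subgroup G} {c : G} (hc : c ∈ centralizer (D : Set G)) : Conn P D c :=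
  ⟨c, hc, 1, GChain.nil D, (mul_one c).symm⟩

theorem mono {D D' : Subgroup G} {g : G} (h : Conn P D g) (hle : D' ≤ D) : Conn P D' g := by
  obtain ⟨c, hc, k, hk, rfl⟩ := h
  exact ⟨c, centralizer_le (SetLike.coe_subset_coe.2 hle) hc, k, hk.mono hle, rfl⟩

theorem mul_left {D : Subgroup G} {c g : G} (hc : c ∈ centralizer (D : Set G)) (h : Conn P D g) :
    Conn P D (c * g) := by
  obtain ⟨c', hc', k, hk, rfl⟩ := h
  exact ⟨c * c', mul_mem hc hc', k, hk, (mul_assoc _ _ _).symm⟩

theorem comp {D : Subgroup G} {g k : G} (h₁ : Conn P D g) (h₂ : Conn P (conjBy g⁻¹ D) k) :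
    Conn P D (g * k) := by
  obtain ⟨c, hc, h, hh, rfl⟩ := h₁
  rw [_root_.mul_inv_rev, ← conjBy_conjBy, conjBy_of_mem_centralizer (inv_mem hc)] at h₂
  obtain ⟨c', hc', h', hh', rfl⟩ := h₂
  refine ⟨c * (h * c' * h⁻¹), mul_mem hc ?_, h * h', hh.comp hh', by group⟩
  refine mem_centralizer_iff.2 fun d hd => ?_
  have h1 := mem_centralizer_iff.1 hc' (h⁻¹ * d * h)
    (mem_conjBy.2 (by simpa [mul_assoc] using hd) : h⁻¹ * d * h ∈ conjBy h⁻¹ D)
  calc d * (h * c' * h⁻¹) = h * (h⁻¹ * d * h * c') * h⁻¹ := by group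
    _ = h * (c' * (h⁻¹ * d * h)) * h⁻¹ := by rw [h1]
    _ = _ := by group

end Conn

variable [Finite G] [hpf : Fact p.Prime]

/-- A normal subgroup of `N` meets the Sylow group of `N` inside `P` in a Sylow group. -/
theorem not_dvd_relIndex_inf (P : Sylow p G) {N M : Subgroup G}
    (hN : ¬ p ∣ ((P : Subgroup G) ⊓ N).relIndex N) (hMN : M ≤ N)
    (hn : N ≤ normalizer (M : Set G)) : ¬ p ∣ ((P : Subgroup G) ⊓ M).relIndex M := by
  obtain ⟨T, hT, hTM, hTp, hTi⟩ :=
    exists_le_not_dvd_relIndex (P.2.to_le (inf_le_left (b := M))) inf_le_right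
  obtain ⟨h, hh, hle⟩ := exists_conj_le_of_not_dvd_relIndex
    (P.2.to_le (inf_le_left (b := N))) inf_le_right hN hTp (hTM.trans hMN)
  have h1 : conjBy h T ≤ (P : Subgroup G) ⊓ M :=
    le_inf (hle.trans inf_le_left) ((conjBy_mono hTM).trans (conjBy_eq_iff.2 (hn hh)).le)
  have h2 := Subgroup.card_le_of_le h1
  rw [card_conjBy] at h2
  rwa [Subgroup.eq_of_le_of_card_ge hT h2]

/-- The Frattini argument. -/
theorem frattini (P : Sylow p G) {N M : Subgroup G}
    (hN : ¬ p ∣ ((P : Subgroup G) ⊓ N).relIndex N) (hMN : M ≤ N)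
    (hn : N ≤ normalizer (M : Set G)) {x : G} (hx : x ∈ N) :
    ∃ o ∈ M, ∃ y ∈ N, y ∈ normalizer (((P : Subgroup G) ⊓ M : Subgroup G) : Set G) ∧ x = o * y := by
  set T := (P : Subgroup G) ⊓ M with hT
  have hTp : IsPGroup p T := P.2.to_le inf_le_left
  obtain ⟨h, hh, hle⟩ := exists_conj_le_of_not_dvd_relIndex hTp inf_le_right
    (not_dvd_relIndex_inf P hN hMN hn) (isPGroup_conjBy x hTp)
    ((conjBy_mono inf_le_right).trans (conjBy_eq_iff.2 (hn hx)).le)
  rw [conjBy_conjBy] at hle
  exact ⟨h⁻¹, inv_mem hh, h * x, mul_mem (hMN hh) hx, conjBy_eq_iff.1 (conjBy_eq_of_le hle),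
    (inv_mul_cancel_left h x).symm⟩

section
variable (P : Sylow p G) {E : Subgroup G}

theorem normalizer_le_normalizer_map (K : Subgroup ↥(normalizer (E : Set G))) [K.Normal] :
    normalizer (E : Set G) ≤
      normalizer ((K.map (normalizer (E : Set G)).subtype : Subgroup G) : Set G) := by
  intro n hn
  refine conjBy_eq_iff.1 (conjBy_eq_of_le (conjBy_le_iff.2 ?_))
  rintro _ ⟨k, hk, rfl⟩
  exact ⟨⟨n, hn⟩ * k * ⟨n, hn⟩⁻¹, (inferInstance : K.Normal).conj_mem k hk _, rfl⟩

theorem pPrimePCore_normal (X : Type*) [Group X] : (Cfsg.pPrimePCore p X).Normal := by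
  haveI := CfsgLib.Coprime.pPrimeCore_characteristic (G := X) p
  haveI := CfsgLib.Coprime.pCore_normal' (G := X ⧸ Cfsg.pPrimeCore p X) p
  rw [Cfsg.pPrimePCore]
  infer_instance

theorem pPrimeCore_le_pPrimePCore (X : Type*) [Group X] :
    Cfsg.pPrimeCore p X ≤ Cfsg.pPrimePCore p X := by
  haveI := CfsgLib.Coprime.pPrimeCore_characteristic (G := X) p
  intro x hx
  rw [Cfsg.pPrimePCore, mem_comap]
  have h1 : QuotientGroup.mk' (Cfsg.pPrimeCore p X) x = 1 := (QuotientGroup.eq_one_iff x).2 hx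
  rw [h1]
  exact one_mem _

theorem le_pPrimePCore {X : Type*} [Group X] [Finite X] {K : Subgroup X} [K.Normal] (hK : IsPGroup p K) :
    K ≤ Cfsg.pPrimePCore p X := by
  haveI := CfsgLib.Coprime.pPrimeCore_characteristic (G := X) p
  haveI : (K.map (QuotientGroup.mk' (Cfsg.pPrimeCore p X))).Normal :=
    (inferInstance : K.Normal).map _ (QuotientGroup.mk'_surjective _)
  rw [Cfsg.pPrimePCore, ← map_le_iff_le_comap]
  exact CfsgLib.Coprime.le_pCore (hK.map _)

theorem le_corePP (hE : IsPGroup p E) : E ≤ corePP p E := by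
  intro e he
  have hEn : E ≤ normalizer (E : Set G) := le_normalizer
  haveI : (E.subgroupOf (normalizer (E : Set G))).Normal := normal_in_normalizer
  exact ⟨⟨e, hEn he⟩, le_pPrimePCore (hE.of_equiv (subgroupOfEquivOfLe hEn).symm)
    (mem_subgroupOf.2 he), rfl⟩

theorem core'_le_centralizer (hE : IsPGroup p E) : core' p E ≤ centralizer (E : Set G) := by
  haveI := CfsgLib.Coprime.pPrimeCore_characteristic (G := ↥(normalizer (E : Set G))) p
  intro a ha
  refine mem_centralizer_iff.2 fun e he => ?_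
  have haN : a ∈ normalizer (E : Set G) := map_subtype_le _ ha
  have h1 : a * e * a⁻¹ * e⁻¹ ∈ E := mul_mem ((mem_normalizer_iff.1 haN e).1 he) (inv_mem he)
  have h2 : a * e * a⁻¹ * e⁻¹ ∈ core' p E := by
    have h3 := (mem_normalizer_iff.1 (normalizer_le_normalizer_map
      (Cfsg.pPrimeCore p ↥(normalizer (E : Set G))) (le_normalizer he)) a⁻¹).1 (inv_mem ha)
    have h4 := mul_mem ha h3
    simpa [mul_assoc] using h4
  have h5 : Nat.card (core' p E) = Nat.card (Cfsg.pPrimeCore p ↥(normalizer (E : Set G))) :=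
    card_map_of_injective (subtype_injective _)
  obtain ⟨n, hn⟩ := IsPGroup.iff_card.1 hE
  have h6 : E ⊓ core' p E = ⊥ := inf_eq_bot_of_coprime (by
    rw [h5, hn]
    exact ((CfsgLib.Coprime.pPrimeCore_coprime hpf.out).symm).pow_left n)
  have h7 : a * e * a⁻¹ * e⁻¹ = 1 := by
    have h8 : a * e * a⁻¹ * e⁻¹ ∈ E ⊓ core' p E := ⟨h1, h2⟩
    rwa [h6, mem_bot] at h8
  calc e * a = (a * e * a⁻¹ * e⁻¹)⁻¹ * (a * e) := by group
    _ = a * e := by rw [h7, inv_one, one_mul]

/-- `O_{p',p}(N(E))` is `O_{p'}(N(E))` times its intersection with `P`. -/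
theorem exists_mul_eq_of_mem_corePP
    (hN : ¬ p ∣ ((P : Subgroup G) ⊓ normalizer (E : Set G)).relIndex (normalizer (E : Set G)))
    {o : G} (ho : o ∈ corePP p E) : ∃ c ∈ core' p E, ∃ r ∈ (P : Subgroup G) ⊓ corePP p E, o = c * r := by
  haveI hK := CfsgLib.Coprime.pPrimeCore_characteristic (G := ↥(normalizer (E : Set G))) p
  haveI hL := pPrimePCore_normal (p := p) ↥(normalizer (E : Set G))
  set N := normalizer (E : Set G) with hNd
  set L := Cfsg.pPrimePCore p ↥N with hLd
  set K := Cfsg.pPrimeCore p ↥N with hKd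
  set Q := ((P : Subgroup G) ⊓ corePP p E).subgroupOf N with hQd
  have hKL : K ≤ L := pPrimeCore_le_pPrimePCore _
  have hmap : Q.map N.subtype = (P : Subgroup G) ⊓ corePP p E :=
    map_subgroupOf_eq_of_le (inf_le_right.trans (map_subtype_le _))
  have hQL : Q ≤ L := fun q hq => by
    obtain ⟨q', hq', hqq⟩ := (mem_subgroupOf.1 hq).2
    rwa [← Subtype.ext hqq]
  have hQS : ¬ p ∣ Q.relIndex L := by
    have h := not_dvd_relIndex_inf P hN (map_subtype_le L) (normalizer_le_normalizer_map L)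
    rwa [← hmap, relIndex_map_map_of_injective _ _ N.subtype_injective] at h
  have h1 : K.relIndex L = Nat.card (Cfsg.pCore p (↥N ⧸ K)) := by
    have h := relIndex_comap ⊥ (QuotientGroup.mk' K) L
    rw [MonoidHom.comap_bot, QuotientGroup.ker_mk', relIndex_bot_left] at h
    rw [h, hLd, Cfsg.pPrimePCore, map_comap_eq_self_of_surjective (QuotientGroup.mk'_surjective _)]
  obtain ⟨k, hk⟩ := IsPGroup.iff_card.1 (CfsgLib.Coprime.pCore_isPGroup (G := ↥N ⧸ K) p)
  have h2 : (K ⊔ Q).relIndex L ∣ p ^ k := hk ▸ h1 ▸ relIndex_dvd_of_le_left _ le_sup_left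
  obtain ⟨j, -, hj⟩ := (Nat.dvd_prime_pow hpf.out).1 h2
  have hsup : L ≤ K ⊔ Q := by
    rcases Nat.eq_zero_or_pos j with rfl | hj0
    · exact relIndex_eq_one.1 (by rw [hj, pow_zero])
    · exact absurd ((dvd_pow_self p hj0.ne').trans
        (hj ▸ relIndex_dvd_of_le_left _ le_sup_right)) hQS
  obtain ⟨o', ho', rfl⟩ := ho
  obtain ⟨c, hc, r, hr, hcr⟩ := mem_sup_of_normal_left.1 (hsup ho')
  exact ⟨c, ⟨c, hc, rfl⟩, r, mem_subgroupOf.1 hr, by rw [← hcr]; rfl⟩

/-- The criterion for a good subgroup. -/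
theorem good_of (hEP : E ≤ (P : Subgroup G))
    (hN : ¬ p ∣ ((P : Subgroup G) ⊓ normalizer (E : Set G)).relIndex (normalizer (E : Set G)))
    (hC : (P : Subgroup G) ⊓ centralizer (E : Set G) ≤ E)
    (hO : (P : Subgroup G) ⊓ corePP p E ≤ E) : Good P E := by
  have hEp : IsPGroup p E := P.2.to_le hEP
  have hcl := core'_le_centralizer hEp
  have hEO := le_corePP hEp
  have hKO : core' p E ≤ corePP p E := map_mono (pPrimeCore_le_pPrimePCore _)
  have hdis : core' p E ⊓ E = ⊥ := by
    obtain ⟨n, hn⟩ := IsPGroup.iff_card.1 hEp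
    refine inf_eq_bot_of_coprime ?_
    rw [card_map_of_injective (subtype_injective _), hn]
    exact (CfsgLib.Coprime.pPrimeCore_coprime hpf.out).pow_right n
  refine ⟨hEP, ?_, ⟨hKO, hEO, fun a ha b hb => (mem_centralizer_iff.1 (hcl ha) b hb).symm, hdis,
    le_antisymm (sup_le hKO hEO) fun o ho => ?_⟩, hN⟩
  · -- the centralizer
    intro c hc
    have hCN : centralizer (E : Set G) ≤ normalizer (E : Set G) := centralizer_le_normalizer _
    haveI hCn : ((centralizer (E : Set G)).subgroupOf (normalizer (E : Set G))).Normal := by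
      refine ⟨fun a ha n => mem_subgroupOf.2 (mem_centralizer_iff.2 fun e he => ?_)⟩
      have hn := (mem_normalizer_iff'.1 n.2 ((n : G)⁻¹ * e)).2 (by simpa using he)
      have h1 := mem_centralizer_iff.1 (mem_subgroupOf.1 ha) ((n : G)⁻¹ * e * n) hn
      simp only [Subgroup.coe_mul, Subgroup.coe_inv]
      calc e * ((n : G) * (a : G) * (n : G)⁻¹)
          = (n : G) * ((n : G)⁻¹ * e * n * (a : G)) * (n : G)⁻¹ := by group
        _ = (n : G) * ((a : G) * ((n : G)⁻¹ * e * n)) * (n : G)⁻¹ := by rw [h1]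
        _ = _ := by group
    set C := (centralizer (E : Set G)).subgroupOf (normalizer (E : Set G)) with hCd
    set f := (normalizer (E : Set G)).subtype.comp C.subtype with hf
    set S := E.comap f with hS
    have hfi : Function.Injective f := (subtype_injective _).comp (subtype_injective _)
    have hrange : f.range = centralizer (E : Set G) := by
      rw [hf, MonoidHom.range_comp, range_subtype]
      exact map_subgroupOf_eq_of_le hCN
    have hcentral : ∀ s ∈ S, ∀ y : ↥C, y * s = s * y := fun s hs y =>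
      hfi (by
        rw [map_mul, map_mul]
        exact (mem_centralizer_iff.1 (mem_subgroupOf.1 y.2) _ hs).symm)
    haveI : S.Normal := ⟨fun s hs y => by rwa [hcentral s hs y, mul_inv_cancel_right]⟩
    obtain ⟨n, hn⟩ := IsPGroup.iff_card.1 (hEp.comap_of_injective f hfi)
    have hidx : ¬ p ∣ S.index := by
      rw [hS, index_comap, hrange, ← inf_relIndex_right,
        show E ⊓ centralizer (E : Set G) = (P : Subgroup G) ⊓ centralizer (E : Set G) from
          le_antisymm (inf_le_inf_right _ hEP) (le_inf hC inf_le_right)]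
      exact not_dvd_relIndex_inf P hN hCN (fun m hm => by
        have h := normalizer_le_normalizer_map (E := E) C hm
        rwa [map_subgroupOf_eq_of_le hCN] at h)
    obtain ⟨L, hL⟩ := exists_right_complement'_of_coprime (N := S)
      (by rw [show Nat.card S = p ^ n from hn]; exact (hpf.out.coprime_iff_not_dvd.2 hidx).pow_left n)
    haveI : L.Normal := by
      refine ⟨fun l hl y => ?_⟩
      obtain ⟨⟨s, m⟩, hsm, -⟩ := (isComplement_iff_existsUnique.1 hL) y
      rw [← hsm]
      have h1 : (s : ↥C) * (m : ↥C) * l * ((s : ↥C) * (m : ↥C))⁻¹ =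
          (m : ↥C) * l * (m : ↥C)⁻¹ := by
        rw [_root_.mul_inv_rev, show (s : ↥C) * (m : ↥C) * l * ((m : ↥C)⁻¹ * (s : ↥C)⁻¹) =
          (s : ↥C) * ((m : ↥C) * l * (m : ↥C)⁻¹) * (s : ↥C)⁻¹ by group,
          ← hcentral s s.2, mul_inv_cancel_right]
      rw [h1]
      exact mul_mem (mul_mem m.2 hl) (inv_mem m.2)
    have hLc : L ≤ Cfsg.pPrimeCore p ↥C := by
      refine CfsgLib.Coprime.le_pPrimeCore_of_not_dvd hpf.out ?_
      rwa [← hL.symm.index_eq_card]
    obtain ⟨⟨s, l⟩, hsl, -⟩ := (isComplement_iff_existsUnique.1 hL) ⟨⟨c, hCN hc⟩, mem_subgroupOf.2 hc⟩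
    have h2 : ((l : ↥C) : ↥(normalizer (E : Set G))) ∈
        Cfsg.pPrimeCore p ↥(normalizer (E : Set G)) := by
      have h3 : ((l : ↥C) : ↥(normalizer (E : Set G))) ∈ (Cfsg.pPrimeCore p ↥C).map C.subtype :=
        mem_map_of_mem _ (hLc l.2)
      rw [CfsgLib.Coprime.pPrimeCore_map_subtype_eq hpf.out C] at h3
      first | exact h3.1 | exact h3.2
    have h4 : c = f (s : ↥C) * f (l : ↥C) := by
      rw [← map_mul, hsl]; rfl
    rw [h4]
    exact mul_mem (hEO s.2) (hKO ⟨_, h2, rfl⟩)
  · obtain ⟨c, hc, r, hr, rfl⟩ := exists_mul_eq_of_mem_corePP P hN ho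
    exact mul_mem (mem_sup_left hc) (mem_sup_right (hO hr))

theorem good_self : Good P (P : Subgroup G) := by
  refine good_of P le_rfl ?_ inf_le_left inf_le_left
  rw [inf_eq_left.2 le_normalizer]
  exact fun hd => P.not_dvd_index (hd.trans (relIndex_dvd_index_of_le le_normalizer))

end

/-- Tame chains give good chains, when normalizers of large fully normalized subgroups do. -/
theorem conn_of_tameChain (P : Sylow p G) (m : ℕ)
    (H : ∀ E : Subgroup G, E ≤ (P : Subgroup G) →
      ¬ p ∣ ((P : Subgroup G) ⊓ normalizer (E : Set G)).relIndex (normalizer (E : Set G)) →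
      m ≤ Nat.card E → ∀ x ∈ normalizer (E : Set G), Conn P E x)
    {D : Subgroup G} {g : G} (h : TameChain P D g) : m ≤ Nat.card D → Conn P D g := by
  induction h with
  | nil D => intro _; exact Conn.of_centralizer (one_mem _)
  | cons Q x hT hx hD _ ih =>
    intro hm
    exact ((H _ inf_le_left hT.1 (hm.trans (Subgroup.card_le_of_le hD)) x hx).mono hD).comp
      (ih (by rwa [card_conjBy]))

theorem conn_normalizer (P : Sylow p G) : ∀ (k : ℕ) (E : Subgroup G),
    Nat.card (P : Subgroup G) - Nat.card E = k → E ≤ (P : Subgroup G) →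
    ¬ p ∣ ((P : Subgroup G) ⊓ normalizer (E : Set G)).relIndex (normalizer (E : Set G)) →
    ∀ x ∈ normalizer (E : Set G), Conn P E x := by
  intro k
  induction k using Nat.strongRecOn with
  | ind k ih =>
  intro E hk hEP hN x hx
  -- an element normalizing a larger subgroup of `P`
  have hbig : ∀ (R : Subgroup G) (y : G), E < R → R ≤ (P : Subgroup G) →
      y ∈ normalizer (R : Set G) → Conn P E y := by
    intro R y hER hRP hy
    have hlt : Nat.card E < Nat.card R := by
      refine lt_of_le_of_ne (Subgroup.card_le_of_le hER.le) fun e => hER.ne ?_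
      exact Subgroup.eq_of_le_of_card_ge hER.le e.ge
    obtain ⟨D, hD, hch⟩ := exists_tameChain P (R : Set G) y hRP (by
      rintro _ ⟨a, ha, rfl⟩
      refine hRP ?_
      have h1 := conjBy_eq_iff.2 (inv_mem hy)
      rw [← h1]
      simpa using conj_mem_conjBy (g := y⁻¹) ha)
    refine (conn_of_tameChain P (Nat.card R) (fun F hF hFN hm => ?_) (hch.mono hD) le_rfl).mono hER.le
    have hFP : Nat.card F ≤ Nat.card (P : Subgroup G) := Subgroup.card_le_of_le hF
    exact ih _ (by omega) F rfl hF hFN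
  by_cases hC : (P : Subgroup G) ⊓ centralizer (E : Set G) ≤ E
  · by_cases hO : (P : Subgroup G) ⊓ corePP p E ≤ E
    · refine ⟨1, one_mem _, x * 1, GChain.cons E x (good_of P hEP hN hC hO) hx le_rfl
        (GChain.nil _), by rw [one_mul, mul_one]⟩
    · haveI := pPrimePCore_normal (p := p) ↥(normalizer (E : Set G))
      obtain ⟨o, ho, y, -, hy, rfl⟩ := frattini P hN (map_subtype_le _)
        (normalizer_le_normalizer_map (Cfsg.pPrimePCore p ↥(normalizer (E : Set G)))) hx
      obtain ⟨c, hc, r, hr, rfl⟩ := exists_mul_eq_of_mem_corePP P hN ho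
      rw [mul_assoc]
      refine Conn.mul_left (core'_le_centralizer (P.2.to_le hEP) hc)
        (hbig ((P : Subgroup G) ⊓ corePP p E) _ ?_ inf_le_left (mul_mem (le_normalizer hr) hy))
      exact lt_of_le_not_ge (le_inf hEP (le_corePP (P.2.to_le hEP))) hO
  · have hCN : centralizer (E : Set G) ≤ normalizer (E : Set G) := centralizer_le_normalizer _
    obtain ⟨o, ho, y, hyN, hy, rfl⟩ := frattini P hN hCN (fun n hn => by
      refine conjBy_eq_iff.1 ?_
      rw [conjBy_centralizer, conjBy_eq_iff.2 hn]) hx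
    refine Conn.mul_left ho (hbig (E ⊔ ((P : Subgroup G) ⊓ centralizer (E : Set G))) y ?_
      (sup_le hEP inf_le_left) ?_)
    · exact lt_of_le_not_ge le_sup_left fun h => hC (le_sup_right.trans h)
    · refine conjBy_eq_iff.1 ?_
      rw [conjBy, Subgroup.map_sup]
      rw [show E.map (MulAut.conj y).toMonoidHom = E from conjBy_eq_iff.2 hyN,
        show ((P : Subgroup G) ⊓ centralizer (E : Set G)).map (MulAut.conj y).toMonoidHom = _ from
          conjBy_eq_iff.2 hy]

/-- The Alperin–Goldschmidt theorem. -/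
theorem exists_gchain (P : Sylow p G) (A : Set G) (g : G) (hA : A ⊆ (P : Set G))
    (hAg : (fun a => g⁻¹ * a * g) '' A ⊆ (P : Set G)) :
    ∃ (D : Subgroup G) (c h : G), A ⊆ (D : Set G) ∧ D ≤ (P : Subgroup G) ∧
      c ∈ centralizer A ∧ GChain P D h ∧ g = c * h := by
  obtain ⟨D, hAD, hch⟩ := exists_tameChain P A g hA hAg
  have hmono := hch.mono (inf_le_left : D ⊓ (P : Subgroup G) ≤ D)
  obtain ⟨c, hc, h, hh, rfl⟩ := conn_of_tameChain P 0
    (fun E hE hN _ => conn_normalizer P _ E rfl hE hN) hmono (Nat.zero_le _)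
  exact ⟨D ⊓ (P : Subgroup G), c, h, fun a ha => ⟨hAD ha, hA ha⟩, inf_le_right,
    centralizer_le (fun a ha => ⟨hAD ha, hA ha⟩ : A ⊆ ((D ⊓ (P : Subgroup G) : Subgroup G) : Set G)) hc,
    hh, rfl⟩

end CfsgLib.Fusion.Goldschmidt
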