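import Cfsg.Agent.Lib.Fusion.Replacement

/-!
# The families of abelian subgroups of largest order
-/

set_option autoImplicit false

open Subgroup
open scoped commutatorElement

namespace CfsgLib.Fusion

variable {G : Type*} [Group G] {p : ℕ}

/-- The abelian subgroups of `D` of largest order, inside the ambient group. -/
def maxAb (D : Subgroup G) : Set (Subgroup G) :=
  {A | A ≤ D ∧ IsMulCommutative A ∧
    ∀ B : Subgroup G, B ≤ D → IsMulCommutative B → Nat.card B ≤ Nat.card A}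

/-- The elementary abelian subgroups of `D` of largest order, inside the ambient group. -/
def maxEA (p : ℕ) (D : Subgroup G) : Set (Subgroup G) := {A | IsMaxEA p D A}

theorem isMulCommutative_map {H : Type*} [Group H] (f : G →* H) {A : Subgroup G}
    (h : IsMulCommutative A) : IsMulCommutative (A.map f) := by
  refine ⟨⟨?_⟩⟩
  rintro ⟨_, a, ha, rfl⟩ ⟨_, b, hb, rfl⟩
  exact Subtype.ext (by
    show f a * f b = f b * f a
    rw [← map_mul, ← map_mul, show a * b = b * a from
      congrArg Subtype.val (h.is_comm.comm (⟨a, ha⟩ : A) ⟨b, hb⟩)])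

theorem isMulCommutative_subgroupOf {D A : Subgroup G} (h : IsMulCommutative A) :
    IsMulCommutative (A.subgroupOf D) :=
  ⟨⟨fun a b => Subtype.ext (Subtype.ext (by
    have := congrArg Subtype.val (h.is_comm.comm (⟨((a : D) : G), a.2⟩ : A) ⟨((b : D) : G), b.2⟩)
    exact this))⟩⟩

theorem image_maxAbelianSubgroups (D : Subgroup G) :
    Set.image (fun A : Subgroup D => A.map D.subtype) (Cfsg.maxAbelianSubgroups D) = maxAb D := by
  ext A
  constructor
  · rintro ⟨A, ⟨h1, h2⟩, rfl⟩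
    refine ⟨Subgroup.map_subtype_le _, isMulCommutative_map _ h1, fun B hB hBc => ?_⟩
    show Nat.card B ≤ Nat.card (A.map D.subtype)
    rw [← Nat.card_congr (A.equivMapOfInjective D.subtype D.subtype_injective).toEquiv,
      ← Nat.card_congr (Subgroup.subgroupOfEquivOfLe hB).toEquiv]
    exact h2 _ (isMulCommutative_subgroupOf hBc)
  · rintro ⟨hA, h1, h2⟩
    refine ⟨A.subgroupOf D, ⟨isMulCommutative_subgroupOf h1, fun B hB => ?_⟩,
      Subgroup.map_subgroupOf_eq_of_le hA⟩
    rw [Nat.card_congr (Subgroup.subgroupOfEquivOfLe hA).toEquiv,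
      Nat.card_congr (B.equivMapOfInjective D.subtype D.subtype_injective).toEquiv]
    exact h2 _ (Subgroup.map_subtype_le _) (isMulCommutative_map _ hB)

theorem isElementaryAbelian_subgroupOf {D A : Subgroup G} (h : Cfsg.IsElementaryAbelian p A) :
    Cfsg.IsElementaryAbelian p (A.subgroupOf D) :=
  ⟨isMulCommutative_subgroupOf h.1, fun a ha => Subtype.ext (h.2 a ha)⟩

theorem image_maxElementaryAbelianSubgroups (D : Subgroup G) :
    Set.image (fun A : Subgroup D => A.map D.subtype) (Cfsg.maxElementaryAbelianSubgroups p D) =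
      maxEA p D := by
  ext A
  constructor
  · rintro ⟨A, ⟨h1, h2⟩, rfl⟩
    refine ⟨Subgroup.map_subtype_le _, isElementaryAbelian_map _ h1, fun B hB hBc => ?_⟩
    show Nat.card B ≤ Nat.card (A.map D.subtype)
    rw [← Nat.card_congr (A.equivMapOfInjective D.subtype D.subtype_injective).toEquiv,
      ← Nat.card_congr (Subgroup.subgroupOfEquivOfLe hB).toEquiv]
    exact h2 _ (isElementaryAbelian_subgroupOf hBc)
  · rintro ⟨hA, h1, h2⟩
    refine ⟨A.subgroupOf D, ⟨isElementaryAbelian_subgroupOf h1, fun B hB => ?_⟩,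
      Subgroup.map_subgroupOf_eq_of_le hA⟩
    rw [Nat.card_congr (Subgroup.subgroupOfEquivOfLe hA).toEquiv,
      Nat.card_congr (B.equivMapOfInjective D.subtype D.subtype_injective).toEquiv]
    exact h2 _ (Subgroup.map_subtype_le _) (isElementaryAbelian_map _ hB)

variable [Finite G] [Fact p.Prime]

theorem rstar_mem_maxAb {D A B : Subgroup G} [D.Normal] {b : G} (hA : A ∈ maxAb D)
    (h : RStep p A B b) : rstar A b ∈ maxAb D :=
  ⟨RStep.rstar_le hA.1, h.isMulCommutative_rstar, fun C hC hCc => h.card_rstar.symm ▸ hA.2.2 C hC hCc⟩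

theorem rstar_mem_maxEA (hp : p ≠ 2) {D A B : Subgroup G} [D.Normal] {b : G} (hA : A ∈ maxEA p D)
    (h : RStep p A B b) : rstar A b ∈ maxEA p D :=
  ⟨RStep.rstar_le hA.1, ⟨h.isMulCommutative_rstar, fun _ hg =>
      h.pow_eq_one_of_odd ((Fact.out : p.Prime).odd_of_ne_two hp) hA.2.1.2 hg⟩,
    fun C hC hCc => h.card_rstar.symm ▸ hA.2.2 C hC hCc⟩

theorem maxAb_replacement (hG : IsPGroup p G) (hp : p ≠ 2) (D : Subgroup G) [D.Normal]
    {B : Subgroup G} [B.Normal] (hU : ∃ U ∈ maxAb D, ⁅B, B⁆ ≤ U ∧ ¬ B ≤ U) :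
    ∃ A ∈ maxAb D, ⁅B, B⁆ ≤ A ∧ ¬ B ≤ A ∧ B ≤ Subgroup.normalizer (A : Set G) :=
  exists_normalized_member hG (fun h => absurd h hp) _ (fun _ hA => hA.2.1)
    (fun _ hA _ h => rstar_mem_maxAb hA h) hU

theorem maxEA_replacement (hG : IsPGroup p G) (hp : p ≠ 2) (D : Subgroup G) [D.Normal]
    {B : Subgroup G} [B.Normal] (hU : ∃ U ∈ maxEA p D, ⁅B, B⁆ ≤ U ∧ ¬ B ≤ U) :
    ∃ A ∈ maxEA p D, ⁅B, B⁆ ≤ A ∧ ¬ B ≤ A ∧ B ≤ Subgroup.normalizer (A : Set G) :=
  exists_normalized_member hG (fun h => absurd h hp) _ (fun _ hA => hA.2.1.1)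
    (fun _ hA _ h => rstar_mem_maxEA hp hA h) hU

end CfsgLib.Fusion
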