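import Cfsg.Prelude.Def_PLocal
import Mathlib.GroupTheory.Nilpotent
import Mathlib.GroupTheory.PGroup
import Mathlib.GroupTheory.Sylow

/-!
# Elementary properties of the stable normal closure
-/

set_option autoImplicit false
set_option linter.style.haveILetI false

open Subgroup

namespace CfsgLib.Fusion

universe u

variable {p : ℕ}

theorem omega_map_eq {X Y : Type*} [Group X] [Group Y] (f : X →* Y) (hf : Function.Injective f)
    (A : Subgroup X) : (Cfsg.omegaOne p A).map f = Cfsg.omegaOne p (A.map f) := by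
  rw [Cfsg.omegaOne, Cfsg.omegaOne, MonoidHom.map_closure]
  refine congrArg Subgroup.closure (Set.ext fun y => ⟨?_, ?_⟩)
  · rintro ⟨x, ⟨hx, hxp⟩, rfl⟩
    exact ⟨mem_map_of_mem f hx, by rw [← map_pow, hxp, map_one]⟩
  · rintro ⟨⟨x, hx, rfl⟩, hxp⟩
    exact ⟨x, ⟨hx, hf (by rw [map_pow, hxp, map_one])⟩, rfl⟩

theorem inf_centralizer_map_eq {X Y : Type*} [Group X] [Group Y] (f : X →* Y)
    (hf : Function.Injective f) (J : Subgroup X) :
    (J ⊓ centralizer (J : Set X)).map f = J.map f ⊓ centralizer (J.map f : Set Y) := by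
  refine le_antisymm ?_ ?_
  · rintro _ ⟨x, ⟨hxJ, hxC⟩, rfl⟩
    refine ⟨mem_map_of_mem f hxJ, mem_centralizer_iff.2 ?_⟩
    rintro _ ⟨j, hj, rfl⟩
    rw [← map_mul, ← map_mul, mem_centralizer_iff.1 hxC j hj]
  · rintro y ⟨⟨x, hx, rfl⟩, hy⟩
    exact ⟨x, ⟨hx, mem_centralizer_iff.2 fun j hj => hf (by
      rw [map_mul, map_mul, mem_centralizer_iff.1 hy _ ⟨j, hj, rfl⟩])⟩, rfl⟩

theorem elementary_map {X Y : Type u} [Group X] [Group Y] {A : Subgroup X} (f : X →* Y)
    (h : Cfsg.IsElementaryAbelian p A) : Cfsg.IsElementaryAbelian p (A.map f) := by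
  refine ⟨isMulCommutative_iff.2 ?_, ?_⟩
  · rintro ⟨_, a, ha, rfl⟩ ⟨_, b, hb, rfl⟩
    exact Subtype.ext (by
      show f a * f b = f b * f a
      rw [← map_mul, ← map_mul, show a * b = b * a from
        congrArg Subtype.val (isMulCommutative_iff.1 h.1 ⟨a, ha⟩ ⟨b, hb⟩)])
  · rintro _ ⟨a, ha, rfl⟩
    rw [← map_pow, h.2 a ha, map_one]

theorem thompsonSubgroup_map_equiv {X Y : Type u} [Group X] [Group Y] (e : X ≃* Y) :
    (Cfsg.thompsonSubgroup p X).map e.toMonoidHom = Cfsg.thompsonSubgroup p Y := by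
  have key : ∀ {X Y : Type u} [Group X] [Group Y] (e : X ≃* Y),
      (Cfsg.thompsonSubgroup p X).map e.toMonoidHom ≤ Cfsg.thompsonSubgroup p Y := by
    intro X Y _ _ e
    rw [map_le_iff_le_comap, Cfsg.thompsonSubgroup]
    refine sSup_le fun A hA => ?_
    rw [← map_le_iff_le_comap]
    refine le_sSup ⟨elementary_map _ hA.1, fun B hB => ?_⟩
    rw [card_map_of_injective (f := e.toMonoidHom) e.injective,
      ← card_map_of_injective (K := B) (f := e.symm.toMonoidHom) e.symm.injective]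
    exact hA.2 _ (elementary_map _ hB)
  refine le_antisymm (key e) fun y hy => ⟨e.symm y, key e.symm ⟨y, hy, rfl⟩, ?_⟩
  exact e.apply_symm_apply y

theorem omegaCenterThompson_map {S H : Type u} [Group S] [Group H] (τ : S →* H)
    (hτ : Function.Injective τ) :
    (Cfsg.omegaCenterThompson p S).map τ = Cfsg.omegaOne p ((Cfsg.thompsonSubgroup p S).map τ ⊓
      centralizer ((Cfsg.thompsonSubgroup p S).map τ : Set H)) := by
  rw [Cfsg.omegaCenterThompson, omega_map_eq τ hτ, inf_centralizer_map_eq τ hτ]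

theorem omegaCenterThompson_map_equiv {S S' : Type u} [Group S] [Group S'] (η : S ≃* S') :
    (Cfsg.omegaCenterThompson p S).map η.toMonoidHom = Cfsg.omegaCenterThompson p S' := by
  rw [omegaCenterThompson_map (τ := η.toMonoidHom) η.injective, thompsonSubgroup_map_equiv]
  rfl

theorem isStableEmbedding_comp {S S' H : Type u} [Group S] [Group S'] [Group H] (η : S ≃* S')
    {τ : S' →* H} (h : Cfsg.IsStableEmbedding p τ) :
    Cfsg.IsStableEmbedding p (τ.comp η.toMonoidHom) := by
  obtain ⟨hinj, hfin, ⟨P, hP⟩, hc, hn, hst⟩ := h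
  refine ⟨hinj.comp η.injective, hfin, ⟨P, ?_⟩, hc, ?_, fun V _ hV => hst V ?_⟩
  · rw [hP, MonoidHom.range_comp,
      (MonoidHom.range_eq_top (f := η.toMonoidHom)).2 η.surjective, MonoidHom.range_eq_map]
  · rw [← Subgroup.map_map, thompsonSubgroup_map_equiv]
    exact hn
  · rwa [← Subgroup.map_map, omegaCenterThompson_map_equiv] at hV

theorem map_stableNormalClosure {S S' : Type u} [Group S] [Group S'] (η : S ≃* S') :
    (Cfsg.stableNormalClosure p S).map η.toMonoidHom = Cfsg.stableNormalClosure p S' := by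
  have key : ∀ {S S' : Type u} [Group S] [Group S'] (η : S ≃* S'),
      (Cfsg.stableNormalClosure p S).map η.toMonoidHom ≤ Cfsg.stableNormalClosure p S' := by
    intro S S' _ _ η
    refine le_sInf fun W hW => ?_
    rw [map_le_iff_le_comap]
    refine sInf_le ⟨?_, fun H _ τ hτ => ?_⟩
    · rw [← map_le_iff_le_comap, omega_map_eq η.toMonoidHom η.injective]
      refine le_trans (closure_mono ?_) hW.1
      rintro y ⟨⟨x, hx, rfl⟩, hyp⟩
      refine ⟨mem_center_iff.2 fun g => ?_, hyp⟩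
      obtain ⟨g, rfl⟩ := η.surjective g
      show η g * η x = η x * η g
      rw [← map_mul, ← map_mul, mem_center_iff.1 hx g]
    · have h := hW.2 H (τ.comp η.symm.toMonoidHom) (isStableEmbedding_comp η.symm hτ)
      rwa [← Subgroup.map_map, show W.map η.symm.toMonoidHom = W.comap η.toMonoidHom from
        Subgroup.map_equiv_eq_comap_symm η.symm W] at h
  refine le_antisymm (key η) fun y hy => ⟨η.symm y, key η.symm ⟨y, hy, rfl⟩, η.apply_symm_apply y⟩

theorem omegaOne_center_le_omegaCenterThompson (S : Type u) [Group S] [Finite S] :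
    Cfsg.omegaOne p (center S) ≤ Cfsg.omegaCenterThompson p S := by
  refine closure_mono ?_
  rintro z ⟨hz, hzp⟩
  refine ⟨⟨?_, mem_centralizer_iff.2 fun j _ => mem_center_iff.1 hz j⟩, hzp⟩
  haveI : Nonempty {A : Subgroup S // Cfsg.IsElementaryAbelian p A} :=
    ⟨⟨⊥, isMulCommutative_iff.2 fun a b => Subsingleton.elim _ _, fun a ha => by
      rw [mem_bot.1 ha, one_pow]⟩⟩
  obtain ⟨A, hA⟩ := Finite.exists_max
    fun A : {A : Subgroup S // Cfsg.IsElementaryAbelian p A} => Nat.card A.1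
  obtain ⟨hAc, hAp⟩ := A.2
  have hmem : ∀ x ∈ A.1 ⊔ zpowers z, ∃ a ∈ A.1, ∃ i : ℤ, x = a * z ^ i := fun x hx => by
    rw [← SetLike.mem_coe, coe_mul_of_right_le_normalizer_left _ _ (zpowers_le.2
      (mem_normalizer_iff.2 fun y => by
        rw [← mem_center_iff.1 hz y, mul_inv_cancel_right]))] at hx
    obtain ⟨a, ha, _, ⟨i, rfl⟩, rfl⟩ := hx
    exact ⟨a, ha, i, rfl⟩
  have hcz : ∀ (g : S) (i : ℤ), Commute g (z ^ i) := fun g i =>
    Commute.zpow_right (mem_center_iff.1 hz g) i
  have hB : Cfsg.IsElementaryAbelian p (A.1 ⊔ zpowers z) := by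
    refine ⟨isMulCommutative_iff.2 fun x y => Subtype.ext ?_, fun x hx => ?_⟩
    · obtain ⟨a, ha, i, hxe⟩ := hmem x x.2
      obtain ⟨b, hb, j, hye⟩ := hmem y y.2
      show (x : S) * y = y * x
      rw [hxe, hye]
      have hab : Commute a b := congrArg Subtype.val (isMulCommutative_iff.1 hAc ⟨a, ha⟩ ⟨b, hb⟩)
      exact (((hab.mul_right (hcz a j)).mul_left
        ((hcz b i).symm.mul_right (hcz _ j)))).eq
    · obtain ⟨a, ha, i, rfl⟩ := hmem x hx
      rw [(hcz a i).mul_pow, hAp a ha, one_mul, ← zpow_natCast, ← zpow_mul, mul_comm, zpow_mul,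
        zpow_natCast, hzp, one_zpow]
  have heq : A.1 = A.1 ⊔ zpowers z := eq_of_le_of_card_ge le_sup_left (hA ⟨_, hB⟩)
  have hJ : A.1 ≤ Cfsg.thompsonSubgroup p S := le_sSup ⟨A.2, fun B hB => hA ⟨B, hB⟩⟩
  exact hJ (heq ▸ mem_sup_right (mem_zpowers z))

/-- The basic properties. -/
theorem stableNormalClosure_basic (S : Type u) [Group S] [Finite S] [Fact p.Prime] (hS : IsPGroup p S) :
    (Cfsg.stableNormalClosure p S).Characteristic ∧
    Cfsg.omegaOne p (center S) ≤ Cfsg.stableNormalClosure p S ∧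
    Cfsg.stableNormalClosure p S ≤ Cfsg.omegaCenterThompson p S ∧
    (Nontrivial S → Cfsg.stableNormalClosure p S ≠ ⊥) := by
  have h2 : Cfsg.omegaOne p (center S) ≤ Cfsg.stableNormalClosure p S := le_sInf fun W hW => hW.1
  refine ⟨characteristic_iff_map_eq.2 fun φ => map_stableNormalClosure φ, h2, ?_, fun _ h => ?_⟩
  · refine sInf_le ⟨omegaOne_center_le_omegaCenterThompson S, fun H _ τ hτ => ?_⟩
    rw [omegaCenterThompson_map τ hτ.1]
    haveI := hτ.2.2.2.2.1
    refine ⟨fun x hx g => ?_⟩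
    set J := (Cfsg.thompsonSubgroup p S).map τ
    have h1 := mem_map_of_mem (MulAut.conj g).toMonoidHom hx
    rw [omega_map_eq _ (MulAut.conj g).injective,
      inf_centralizer_map_eq _ (MulAut.conj g).injective] at h1
    have hJ : J.map (MulAut.conj g).toMonoidHom = J := Subgroup.Normal.map_conj_eq J g
    rwa [hJ] at h1
  · haveI := hS.center_nontrivial
    obtain ⟨k, hk⟩ := (hS.to_subgroup (center S)).exists_card_eq
    have hk0 : k ≠ 0 := by
      rintro rfl
      have h3 : 1 < Nat.card (center S) := Finite.one_lt_card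
      rw [hk, pow_zero] at h3
      omega
    obtain ⟨z, hz⟩ := exists_prime_orderOf_dvd_card' (G := center S) p (hk ▸ dvd_pow_self p hk0)
    have hzo : orderOf (z : S) = p := (orderOf_coe z).trans hz
    have h4 : (z : S) ∈ Cfsg.omegaOne p (center S) :=
      subset_closure ⟨z.2, hzo ▸ pow_orderOf_eq_one _⟩
    rw [h] at h2
    rw [mem_bot.1 (h2 h4), orderOf_one] at hzo
    exact (Fact.out : p.Prime).ne_one hzo.symm

end CfsgLib.Fusion
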