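import Cfsg.Prelude.Def_PLocal
import Mathlib.GroupTheory.Nilpotent
import Mathlib.GroupTheory.PGroup
import Mathlib.GroupTheory.Index

/-!
# Thompson's and Timmesfeld's replacement for offenders
-/

set_option autoImplicit false
set_option linter.style.haveILetI false
set_option linter.unusedSectionVars false

open Subgroup
open scoped commutatorElement

namespace CfsgLib.Fusion

universe u

variable {G : Type u} [Group G] [Finite G]

/-- `|B| · |C_V(B)|`. -/
noncomputable def offVal (V B : Subgroup G) : ℕ := Nat.card B * Nat.card ↥(V ⊓ centralizer (B : Set G))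

theorem card_mul_le_sup_inf (H K : Subgroup G) :
    Nat.card H * Nat.card K ≤ Nat.card ↥(H ⊔ K) * Nat.card ↥(H ⊓ K) := by
  have h1 := relIndex_mul_relIndex (⊥ : Subgroup G) (H ⊓ K) H bot_le inf_le_left
  have h2 := relIndex_mul_relIndex (⊥ : Subgroup G) K (H ⊔ K) bot_le le_sup_right
  simp only [relIndex_bot_left] at h1 h2
  rw [inf_relIndex_left] at h1
  have h3 : K.relIndex H ≤ K.relIndex (H ⊔ K) :=
    relIndex_le_of_le_right le_sup_left (Nat.ne_of_gt (Nat.pos_of_ne_zero index_ne_zero_of_finite))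
  rw [← h1, ← h2]
  calc Nat.card ↥(H ⊓ K) * K.relIndex H * Nat.card K ≤
        Nat.card ↥(H ⊓ K) * K.relIndex (H ⊔ K) * Nat.card K := by gcongr
    _ = Nat.card K * K.relIndex (H ⊔ K) * Nat.card ↥(H ⊓ K) := by ring

theorem centralizer_sup_eq (H K : Subgroup G) :
    centralizer ((H ⊔ K : Subgroup G) : Set G) = centralizer (H : Set G) ⊓ centralizer (K : Set G) :=
  le_antisymm (le_inf (centralizer_le (le_sup_left : H ≤ H ⊔ K)) (centralizer_le (le_sup_right : K ≤ H ⊔ K)))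
    (le_centralizer_iff.1 (sup_le (le_centralizer_iff.1 inf_le_left) (le_centralizer_iff.1 inf_le_right)))

/-- The replacement: when no subgroup of `A` offends more, the fixed points of the replaced subgroup. -/
theorem replacement_eq {V A : Subgroup G} (hVab : IsMulCommutative V)
    (hAV : A ≤ normalizer (V : Set G)) (hab : ⁅A, A⁆ ≤ centralizer (V : Set G))
    (hmax : ∀ B : Subgroup G, B ≤ A → offVal V B ≤ offVal V A) (U : Subgroup G) (hU : U ≤ V) :
    offVal V (A ⊓ centralizer ((⁅U, A⁆ : Subgroup G) : Set G)) = offVal V A ∧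
      V ⊓ centralizer ((A ⊓ centralizer ((⁅U, A⁆ : Subgroup G) : Set G) : Subgroup G) : Set G) =
        ⁅U, A⁆ ⊔ (V ⊓ centralizer (A : Set G)) := by
  classical
  have hcV : ∀ v ∈ V, ∀ w ∈ V, Commute v w := fun v hv w hw =>
    congrArg Subtype.val (isMulCommutative_iff.1 hVab ⟨v, hv⟩ ⟨w, hw⟩)
  set Z := V ⊓ centralizer (A : Set G) with hZ
  have hVW : ∀ X : Subgroup G, X ≤ V → ⁅X, A⁆ ≤ V := fun X hX =>
    (commutator_mono hX le_rfl).trans (le_normalizer_iff_commutator_le_left.1 hAV)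
  let P : Subgroup G → Prop := fun U => offVal V (A ⊓ centralizer ((⁅U, A⁆ : Subgroup G) : Set G)) = offVal V A ∧
    V ⊓ centralizer ((A ⊓ centralizer ((⁅U, A⁆ : Subgroup G) : Set G) : Subgroup G) : Set G) = ⁅U, A⁆ ⊔ Z
  have hgen : ∀ U : Subgroup G, U ≤ V → ∀ x ∈ A ⊓ centralizer ((⁅U, A⁆ : Subgroup G) : Set G),
      ∀ y ∈ ⁅U, A⁆ ⊔ Z, x * y = y * x := fun U _ x hx y hy => by
    have h : ⁅U, A⁆ ⊔ Z ≤ centralizer ({x} : Set G) := sup_le
      (fun w hw => mem_centralizer_singleton_iff.2 (mem_centralizer_iff.1 hx.2 w hw))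
      (fun z hz => mem_centralizer_singleton_iff.2 (mem_centralizer_iff.1 hz.2 x hx.1).symm)
    exact (mem_centralizer_singleton_iff.1 (h hy)).symm
  -- one generator
  have hone : ∀ u ∈ V, P (zpowers u) := by
    intro u hu
    have huV : zpowers u ≤ V := zpowers_le.2 hu
    set X := ⁅zpowers u, A⁆ with hX
    set B := A ⊓ centralizer (X : Set G) with hB
    have hXV : X ≤ V := hVW _ huV
    have hle : X ⊔ Z ≤ V ⊓ centralizer (B : Set G) := le_inf (sup_le hXV inf_le_left)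
      fun y hy => mem_centralizer_iff.2 fun x hx => hgen _ huV x hx y hy
    have hgenX : ∀ a : A, ⁅u, (a : G)⁆ ∈ X ⊔ Z := fun a =>
      mem_sup_left (commutator_mem_commutator (mem_zpowers u) a.2)
    -- the key injection
    have hinj : Nat.card (A ⧸ B.subgroupOf A) ≤
        Nat.card ((X ⊔ Z : Subgroup G) ⧸ Z.subgroupOf (X ⊔ Z)) := by
      refine Nat.card_le_card_of_injective (fun q => QuotientGroup.mk ⟨⁅u, ((q.out : A) : G)⁆, hgenX _⟩)
        fun q r hqr => ?_
      rw [← QuotientGroup.out_eq' q, ← QuotientGroup.out_eq' r, QuotientGroup.eq, mem_subgroupOf]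
      set a : G := ((q.out : A) : G) with ha
      set a' : G := ((r.out : A) : G) with ha'
      have haA : a ∈ A := (q.out : A).2
      have ha'A : a' ∈ A := (r.out : A).2
      have hz : ⁅u, a⁆⁻¹ * ⁅u, a'⁆ ∈ Z := mem_subgroupOf.1 (QuotientGroup.eq.1 hqr)
      show a⁻¹ * a' ∈ B
      set d := a⁻¹ * a' with hd
      have hdA : d ∈ A := mul_mem (inv_mem haA) ha'A
      set z := u⁻¹ * (d * u * d⁻¹) with hzd
      have hcj : ∀ g ∈ A, ∀ v ∈ V, g * v * g⁻¹ ∈ V := fun g hg v hv =>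
        (mem_normalizer_iff.1 (hAV hg) v).1 hv
      have hzZ : z ∈ Z := by
        have h1 : ⁅u, a⁆⁻¹ * ⁅u, a'⁆ = (a * u * a⁻¹) * (a' * u⁻¹ * a'⁻¹) := by
          rw [commutatorElement_def, commutatorElement_def]; group
        rw [h1] at hz
        have h2 : a⁻¹ * ((a * u * a⁻¹) * (a' * u⁻¹ * a'⁻¹)) * a ∈ Z := by
          have h3 : a⁻¹ * ((a * u * a⁻¹) * (a' * u⁻¹ * a'⁻¹)) * a = (a * u * a⁻¹) * (a' * u⁻¹ * a'⁻¹) := by
            rw [mul_assoc, ← mem_centralizer_iff.1 hz.2 a haA, inv_mul_cancel_left]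
          rw [h3]; exact hz
        have h4 : a⁻¹ * ((a * u * a⁻¹) * (a' * u⁻¹ * a'⁻¹)) * a = z⁻¹ := by
          rw [hzd, (hcV _ (inv_mem hu) _ (hcj _ hdA _ hu)).eq, hd]; group
        rw [h4] at h2
        simpa using inv_mem h2
      refine ⟨hdA, mem_centralizer_iff.2 fun x hx => ?_⟩
      have hXd : X ≤ centralizer ({d} : Set G) := by
        rw [hX, commutator_le]
        rintro _ ⟨i, rfl⟩ b hb
        refine mem_centralizer_singleton_iff.2 ?_
        set v := u ^ i with hv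
        have hvV : v ∈ V := zpow_mem hu i
        have hdv : d * v * d⁻¹ = v * z ^ i := by
          rw [hv, ← conj_zpow, show d * u * d⁻¹ = u * z by rw [hzd, mul_inv_cancel_left],
            (hcV u hu z hzZ.1).mul_zpow]
        have hzi : Commute b (z ^ i) := (show Commute b z from mem_centralizer_iff.1 hzZ.2 b hb).zpow_right i
        have hdb : ∀ w ∈ V, d * (b * w * b⁻¹) * d⁻¹ = b * (d * w * d⁻¹) * b⁻¹ := fun w hw => by
          have h := hab (commutator_mem_commutator (inv_mem hb) (inv_mem hdA))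
          have h5 := mem_centralizer_iff.1 h w hw
          rw [commutatorElement_def, inv_inv, inv_inv] at h5
          calc d * (b * w * b⁻¹) * d⁻¹ = d * b * (w * (b⁻¹ * d⁻¹ * b * d)) * d⁻¹ * b⁻¹ := by group
            _ = b * (d * w * d⁻¹) * b⁻¹ := by rw [h5]; group
        have key : d * ⁅v, b⁆ * d⁻¹ = ⁅v, b⁆ := by
          rw [commutatorElement_def,
            show d * (v * b * v⁻¹ * b⁻¹) * d⁻¹ = (d * v * d⁻¹) * (d * (b * v⁻¹ * b⁻¹) * d⁻¹) by group,
            hdb _ (inv_mem hvV), show d * v⁻¹ * d⁻¹ = (d * v * d⁻¹)⁻¹ by group, hdv]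
          calc v * z ^ i * (b * (v * z ^ i)⁻¹ * b⁻¹) = v * (z ^ i * b) * (z ^ i)⁻¹ * v⁻¹ * b⁻¹ := by group
            _ = v * b * v⁻¹ * b⁻¹ := by rw [← hzi.eq]; group
        show ⁅v, b⁆ * d = d * ⁅v, b⁆
        calc ⁅v, b⁆ * d = d * ⁅v, b⁆ * d⁻¹ * d := by rw [key]
          _ = d * ⁅v, b⁆ := by group
      exact mem_centralizer_singleton_iff.1 (hXd hx)
    have h1 : Nat.card A * Nat.card Z ≤ Nat.card B * Nat.card ↥(X ⊔ Z) := by
      rw [card_eq_card_quotient_mul_card_subgroup (B.subgroupOf A),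
        card_eq_card_quotient_mul_card_subgroup (Z.subgroupOf (X ⊔ Z)),
        Nat.card_congr (subgroupOfEquivOfLe (inf_le_left : B ≤ A)).toEquiv,
        Nat.card_congr (subgroupOfEquivOfLe (le_sup_right : Z ≤ X ⊔ Z)).toEquiv]
      calc Nat.card (A ⧸ B.subgroupOf A) * Nat.card B * Nat.card Z
          ≤ Nat.card ((X ⊔ Z : Subgroup G) ⧸ Z.subgroupOf (X ⊔ Z)) * Nat.card B * Nat.card Z := by gcongr
        _ = _ := by ring
    have h2 : Nat.card B * Nat.card ↥(X ⊔ Z) ≤ offVal V B :=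
      Nat.mul_le_mul_left _ (card_le_of_le hle)
    have h3 := hmax B inf_le_left
    refine ⟨le_antisymm h3 (h1.trans h2), (eq_of_le_of_card_ge hle ?_).symm⟩
    exact Nat.le_of_mul_le_mul_left (h3.trans h1) Nat.card_pos
  -- joins
  have hsup : ∀ U₁ U₂ : Subgroup G, U₁ ≤ V → U₂ ≤ V → P U₁ → P U₂ → P (U₁ ⊔ U₂) := by
    rintro U₁ U₂ hU₁ hU₂ ⟨e1, c1⟩ ⟨e2, c2⟩
    have hW : ⁅U₁ ⊔ U₂, A⁆ = ⁅U₁, A⁆ ⊔ ⁅U₂, A⁆ := by
      refine le_antisymm ?_ (sup_le (commutator_mono le_sup_left le_rfl) (commutator_mono le_sup_right le_rfl))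
      rw [commutator_le]
      intro x hx a ha
      rw [← SetLike.mem_coe, coe_mul_of_left_le_normalizer_right U₁ U₂ (fun h hh =>
        mem_normalizer_fintype fun n hn => by
          show h * n * h⁻¹ ∈ U₂
          rw [(hcV h (hU₁ hh) n (hU₂ hn)).eq, mul_inv_cancel_right]
          exact hn), Set.mem_mul] at hx
      obtain ⟨x₁, hx₁, x₂, hx₂, rfl⟩ := hx
      have e : ⁅x₁ * x₂, a⁆ = x₁ * ⁅x₂, a⁆ * x₁⁻¹ * ⁅x₁, a⁆ := by
        simp only [commutatorElement_def]; group
      rw [e, (hcV _ (hU₁ hx₁) _ (hVW _ hU₂ (commutator_mem_commutator hx₂ ha))).eq, mul_inv_cancel_right]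
      exact mul_mem (mem_sup_right (commutator_mem_commutator hx₂ ha))
        (mem_sup_left (commutator_mem_commutator hx₁ ha))
    set B₁ := A ⊓ centralizer ((⁅U₁, A⁆ : Subgroup G) : Set G) with hB₁
    set B₂ := A ⊓ centralizer ((⁅U₂, A⁆ : Subgroup G) : Set G) with hB₂
    have hB : A ⊓ centralizer ((⁅U₁ ⊔ U₂, A⁆ : Subgroup G) : Set G) = B₁ ⊓ B₂ := by
      rw [hW, centralizer_sup_eq, hB₁, hB₂]
      exact inf_inf_distrib_left _ _ _
    show offVal V _ = _ ∧ _
    rw [hB]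
    set C₁ := V ⊓ centralizer (B₁ : Set G) with hC₁
    set C₂ := V ⊓ centralizer (B₂ : Set G) with hC₂
    have hCsup : V ⊓ centralizer ((B₁ ⊔ B₂ : Subgroup G) : Set G) = C₁ ⊓ C₂ := by
      rw [centralizer_sup_eq, hC₁, hC₂]
      exact inf_inf_distrib_left _ _ _
    have hCinf : C₁ ⊔ C₂ ≤ V ⊓ centralizer ((B₁ ⊓ B₂ : Subgroup G) : Set G) :=
      sup_le (inf_le_inf_left _ (centralizer_le inf_le_left)) (inf_le_inf_left _ (centralizer_le inf_le_right))
    set m := offVal V A with hm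
    have h5 : m * m ≤ (Nat.card ↥(B₁ ⊓ B₂) * Nat.card ↥(C₁ ⊔ C₂)) * m := by
      calc m * m = offVal V B₁ * offVal V B₂ := by rw [e1, e2]
        _ = (Nat.card B₁ * Nat.card B₂) * (Nat.card C₁ * Nat.card C₂) := by
          rw [offVal, offVal, ← hC₁, ← hC₂]; ring
        _ ≤ (Nat.card ↥(B₁ ⊔ B₂) * Nat.card ↥(B₁ ⊓ B₂)) * (Nat.card ↥(C₁ ⊔ C₂) * Nat.card ↥(C₁ ⊓ C₂)) :=
          Nat.mul_le_mul (card_mul_le_sup_inf B₁ B₂) (card_mul_le_sup_inf C₁ C₂)
        _ = (Nat.card ↥(B₁ ⊓ B₂) * Nat.card ↥(C₁ ⊔ C₂)) * offVal V (B₁ ⊔ B₂) := by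
          rw [offVal, hCsup]; ring
        _ ≤ _ := Nat.mul_le_mul_left _ (hmax _ (sup_le inf_le_left inf_le_left))
    have hmpos : 0 < m := Nat.mul_pos Nat.card_pos Nat.card_pos
    have h6 : m ≤ Nat.card ↥(B₁ ⊓ B₂) * Nat.card ↥(C₁ ⊔ C₂) := Nat.le_of_mul_le_mul_right h5 hmpos
    have h7 : Nat.card ↥(B₁ ⊓ B₂) * Nat.card ↥(C₁ ⊔ C₂) ≤ offVal V (B₁ ⊓ B₂) :=
      Nat.mul_le_mul_left _ (card_le_of_le hCinf)
    have h8 : offVal V (B₁ ⊓ B₂) ≤ m := hmax _ (inf_le_left.trans inf_le_left)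
    refine ⟨le_antisymm h8 (h6.trans h7), ?_⟩
    rw [← eq_of_le_of_card_ge hCinf (Nat.le_of_mul_le_mul_left (h8.trans h6) Nat.card_pos), c1, c2, hW,
      sup_sup_sup_comm, sup_idem]
  have hall : ∀ s : Finset G, (↑s : Set G) ⊆ V → P (closure (↑s : Set G)) := by
    intro s
    induction s using Finset.induction_on with
    | empty =>
      intro _
      rw [Finset.coe_empty, Subgroup.closure_empty]
      show offVal V _ = _ ∧ _
      have h1 : A ⊓ centralizer ((⁅(⊥ : Subgroup G), A⁆ : Subgroup G) : Set G) = A := by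
        rw [commutator_bot_left, inf_eq_left]
        exact fun x _ => mem_centralizer_iff.2 fun y hy => by rw [mem_bot.1 hy, one_mul, mul_one]
      rw [h1, commutator_bot_left, bot_sup_eq]
      exact ⟨rfl, rfl⟩
    | insert a s _ ih =>
      intro hs
      rw [Finset.coe_insert, Set.insert_subset_iff] at hs
      rw [Finset.coe_insert, Set.insert_eq, Subgroup.closure_union, ← zpowers_eq_closure]
      exact hsup _ _ (zpowers_le.2 hs.1) ((closure_le _).2 hs.2) (hone a hs.1) (ih hs.2)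
  have h := hall (Set.toFinite (U : Set G)).toFinset (by simpa using hU)
  rw [Set.Finite.coe_toFinset, closure_eq] at h
  exact h

/-- A `p`-group of automorphisms has `[V, A] < V`. -/
theorem commutator_eq_bot_of_absorbed {p : ℕ} [Fact p.Prime] {V A : Subgroup G} (hV : IsPGroup p V)
    (hVab : IsMulCommutative V) (hAV : A ≤ normalizer (V : Set G))
    (hab : ⁅A, A⁆ ≤ centralizer (V : Set G)) (hp : ∀ a ∈ A, a ^ p ∈ centralizer (V : Set G))
    {W : Subgroup G} (hWV : W ≤ V) (hAW : A ≤ normalizer (W : Set G)) (heq : W ≤ ⁅W, A⁆) :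
    W = ⊥ := by
  by_contra hne
  obtain ⟨M, ⟨hMlt, hMA⟩, hMmax⟩ := (Set.toFinite
    {M : Subgroup G | M < W ∧ A ≤ normalizer (M : Set G)}).exists_maximal
      ⟨⊥, bot_lt_iff_ne_bot.2 hne, fun a _ => mem_normalizer_fintype fun n hn => by
        rw [SetLike.mem_coe, mem_bot] at hn ⊢
        rw [hn, mul_one, mul_inv_cancel]⟩
  have hcV : ∀ v ∈ V, ∀ w ∈ V, Commute v w := fun v hv w hw =>
    congrArg Subtype.val (isMulCommutative_iff.1 hVab ⟨v, hv⟩ ⟨w, hw⟩)
  have hcj : ∀ {X : Subgroup G}, A ≤ normalizer (X : Set G) → ∀ a ∈ A, ∀ x ∈ X, a * x * a⁻¹ ∈ X :=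
    fun h a ha x hx => (mem_normalizer_iff.1 (h ha) x).1 hx
  have hWmem : ∀ w ∈ W, ∀ a ∈ A, ⁅w, a⁆ ∈ W := fun w hw a ha => by
    rw [commutatorElement_def, mul_assoc w a, mul_assoc w]
    exact mul_mem hw (hcj hAW a ha _ (inv_mem hw))
  refine hMlt.not_ge (heq.trans (commutator_le.2 fun w₀ hw₀ a ha => ?_))
  by_contra hout
  -- `[W, a] M = W`
  set D := M ⊔ closure {x | ∃ w ∈ W, ⁅w, a⁆ = x} with hD
  have hDW : D ≤ W := sup_le hMlt.le ((closure_le _).2 fun x ⟨w, hw, hx⟩ => hx ▸ hWmem w hw a ha)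
  have hDA : A ≤ normalizer (D : Set G) := by
    intro b hb
    refine mem_normalizer_fintype fun n hn => ?_
    have hle : D ≤ D.comap (MulAut.conj b).toMonoidHom := by
      rw [hD]
      refine sup_le (fun m hm => mem_sup_left (hcj hMA b hb m hm)) ((closure_le _).2 ?_)
      rintro _ ⟨w, hw, rfl⟩
      show b * ⁅w, a⁆ * b⁻¹ ∈ D
      refine mem_sup_right (subset_closure ⟨b * w * b⁻¹, hcj hAW b hb w hw, ?_⟩)
      have h5 := mem_centralizer_iff.1 (hab (commutator_mem_commutator (inv_mem ha) (inv_mem hb))) w⁻¹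
        (inv_mem (hWV hw))
      rw [commutatorElement_def, inv_inv, inv_inv] at h5
      rw [commutatorElement_def, commutatorElement_def]
      calc b * w * b⁻¹ * a * (b * w * b⁻¹)⁻¹ * a⁻¹
          = b * w * a * ((a⁻¹ * b⁻¹ * a * b) * w⁻¹) * b⁻¹ * a⁻¹ := by group
        _ = b * (w * a * w⁻¹ * a⁻¹) * b⁻¹ := by rw [← h5]; group
    exact hle hn
  have hDeq : D = W := by
    by_contra h
    exact hout ((hMmax ⟨lt_of_le_of_ne hDW h, hDA⟩ le_sup_left)
      (mem_sup_right (subset_closure ⟨w₀, hw₀, rfl⟩)))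
  -- a nilpotent group containing `W` and `a`
  set X := W ⊔ zpowers a with hXdef
  have hcz : (zpowers (a ^ p)).subgroupOf X ≤ center X := by
    intro x hx
    obtain ⟨i, hi⟩ := mem_zpowers_iff.1 hx
    refine mem_center_iff.2 fun y => Subtype.ext ?_
    have h : X ≤ centralizer ({a ^ p} : Set G) := sup_le
      (fun w hw => mem_centralizer_singleton_iff.2 (mem_centralizer_iff.1 (hp a ha) w (hWV hw)))
      (zpowers_le.2 (mem_centralizer_singleton_iff.2 ((Commute.refl a).pow_right p).eq))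
    show (y : G) * X.subtype x = X.subtype x * (y : G)
    rw [← hi]
    exact (Commute.zpow_right (mem_centralizer_singleton_iff.1 (h y.2) : Commute (y : G) (a ^ p)) i).eq
  have hnorm : zpowers a ≤ normalizer (W : Set G) := zpowers_le.2 (hAW ha)
  have hmemX : ∀ x ∈ X, ∃ w ∈ W, ∃ i : ℤ, x = w * a ^ i := fun x hx => by
    rw [← SetLike.mem_coe, hXdef, coe_mul_of_right_le_normalizer_left _ _ hnorm] at hx
    obtain ⟨w, hw, _, ⟨i, rfl⟩, rfl⟩ := hx
    exact ⟨w, hw, i, rfl⟩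
  haveI hX : Group.IsNilpotent X := by
    suffices hq : IsPGroup p (X ⧸ center X) by
      haveI := hq.isNilpotent
      exact Subgroup.isNilpotent_of_ker_le_center (QuotientGroup.mk' (center X))
        (by rw [QuotientGroup.ker_mk'])
    intro q
    obtain ⟨x, rfl⟩ := QuotientGroup.mk'_surjective (center X) q
    obtain ⟨w, hw, i, hx⟩ := hmemX x x.2
    have h1 : ((x : G) ^ p) * (a ^ (i * p))⁻¹ ∈ W := by
      have hconj : ∀ k : ℕ, ((x : G) ^ k) * (a ^ (i * k))⁻¹ ∈ W := by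
        intro k
        induction k with
        | zero => simp
        | succ k ih =>
          have h2 : a ^ i * (((x : G) ^ k) * (a ^ (i * k))⁻¹) * (a ^ i)⁻¹ ∈ W :=
            (mem_normalizer_iff.1 (hnorm (zpow_mem (mem_zpowers a) i)) _).1 ih
          have e : (x : G) ^ (k + 1) * (a ^ (i * ((k + 1 : ℕ) : ℤ)))⁻¹ =
              w * (a ^ i * (((x : G) ^ k) * (a ^ (i * k))⁻¹) * (a ^ i)⁻¹) := by
            rw [pow_succ', hx, Nat.cast_add, Nat.cast_one, mul_add, mul_one, zpow_add]; group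
          rw [e]
          exact mul_mem hw h2
      exact hconj p
    have hac : a ^ (i * p) ∈ zpowers (a ^ p) := ⟨i, by
      show (a ^ p) ^ i = a ^ (i * p)
      rw [← zpow_natCast a p, ← zpow_mul, mul_comm]⟩
    obtain ⟨n, hn⟩ := hV ⟨_, hWV h1⟩
    refine ⟨n + 1, ?_⟩
    rw [← map_pow, QuotientGroup.mk'_apply, QuotientGroup.eq_one_iff]
    refine hcz ?_
    show (x : G) ^ p ^ (n + 1) ∈ zpowers (a ^ p)
    set t := (x : G) ^ p * (a ^ (i * p))⁻¹ with ht
    have htc : Commute t (a ^ (i * p)) := by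
      obtain ⟨j, hj⟩ := hac
      rw [← hj]
      exact (show Commute t (a ^ p) from mem_centralizer_iff.1 (hp a ha) t (hWV h1)).zpow_right j
    rw [pow_succ', pow_mul, show (x : G) ^ p = t * a ^ (i * p) by rw [ht, inv_mul_cancel_right],
      htc.mul_pow, show t ^ p ^ n = 1 from congrArg Subtype.val hn, one_mul]
    exact pow_mem hac _
  obtain ⟨k, hk⟩ := Subgroup.nilpotent_iff_lowerCentralSeries.1 hX
  have hdesc : ∀ j, W ≤ M ⊔ ((⊤ : Subgroup X).lowerCentralSeries j).map X.subtype := by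
    intro j
    induction j with
    | zero =>
      rw [Subgroup.lowerCentralSeries_zero, ← MonoidHom.range_eq_map, range_subtype]
      exact le_sup_of_le_right le_sup_left
    | succ j ih =>
      refine hDeq.ge.trans (sup_le le_sup_left ((closure_le _).2 ?_))
      rintro _ ⟨w, hw, rfl⟩
      set L := ((⊤ : Subgroup X).lowerCentralSeries j).map X.subtype with hL
      have hMn : L ≤ normalizer (M : Set G) := by
        rintro _ ⟨x, -, rfl⟩
        obtain ⟨w', hw', i, hx⟩ := hmemX x x.2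
        rw [Subgroup.subtype_apply, hx]
        refine mul_mem ?_ (zpow_mem (hMA ha) i)
        exact mem_normalizer_fintype fun n hn => by
          show w' * n * w'⁻¹ ∈ M
          rw [(hcV w' (hWV hw') n (hWV (hMlt.le hn))).eq, mul_inv_cancel_right]; exact hn
      have h' := ih hw
      rw [← SetLike.mem_coe, coe_mul_of_right_le_normalizer_left _ _ hMn] at h'
      obtain ⟨m, hm, l, hl, hml⟩ := h'
      obtain ⟨x, hx, rfl⟩ := hl
      have hxW : (x : G) ∈ W := by
        have h3 : m⁻¹ * w ∈ W := mul_mem (inv_mem (hMlt.le hm)) hw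
        rwa [← hml, inv_mul_cancel_left] at h3
      have e : ⁅w, a⁆ = m * ⁅(x : G), a⁆ * m⁻¹ * ⁅m, a⁆ := by
        rw [← hml]; simp only [commutatorElement_def, Subgroup.subtype_apply]; group
      rw [SetLike.mem_coe, e, (hcV m (hWV (hMlt.le hm)) _ (hWV (hWmem _ hxW a ha))).eq, mul_inv_cancel_right]
      refine mul_mem (mem_sup_right ⟨⁅x, ⟨a, mem_sup_right (mem_zpowers a)⟩⁆, ?_, rfl⟩) (mem_sup_left ?_)
      · rw [Subgroup.lowerCentralSeries_succ]
        exact commutator_mem_commutator hx (mem_top _)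
      · rw [commutatorElement_def, mul_assoc m a, mul_assoc m]
        exact mul_mem hm (hcj hMA a ha _ (inv_mem hm))
  exact hMlt.not_ge (by simpa [hk] using hdesc k)

/-- Timmesfeld's replacement theorem. -/
theorem timmesfeld {p : ℕ} [Fact p.Prime] {V A : Subgroup G} (hV : Cfsg.IsElementaryAbelian p V)
    (hAV : A ≤ normalizer (V : Set G)) (hA : Cfsg.IsBestOffenderOn p V A) (U : Subgroup G) (hU : U ≤ V) :
    Cfsg.IsBestOffenderOn p V (A ⊓ centralizer ((⁅U, A⁆ : Subgroup G) : Set G)) ∧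
      V ⊓ centralizer ((A ⊓ centralizer ((⁅U, A⁆ : Subgroup G) : Set G) : Subgroup G) : Set G) =
        ⁅U, A⁆ ⊔ (V ⊓ centralizer (A : Set G)) ∧
      (⁅V, A⁆ ≠ ⊥ → ⁅V, A ⊓ centralizer ((⁅U, A⁆ : Subgroup G) : Set G)⁆ ≠ ⊥) := by
  obtain ⟨hmax, hab, hpow⟩ := hA
  obtain ⟨he, hc⟩ := replacement_eq hV.1 hAV hab hmax U hU
  set B := A ⊓ centralizer ((⁅U, A⁆ : Subgroup G) : Set G) with hB
  refine ⟨⟨fun C hC => (hmax C (hC.trans inf_le_left)).trans he.ge,
    (commutator_mono inf_le_left inf_le_left).trans hab, fun a ha => hpow a ha.1⟩, hc, fun hne hB1 => ?_⟩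
  refine hne (commutator_eq_bot_of_absorbed (fun v => ⟨1, Subtype.ext (by rw [pow_one]; exact hV.2 v v.2)⟩) hV.1 hAV hab hpow
    (le_normalizer_iff_commutator_le_left.1 hAV) (fun a ha => ?_) ?_)
  · exact mem_normalizer_fintype fun n hn => by
      have hn' : n ∈ ⁅V, A⁆ := hn
      have hnV : n ∈ V := le_normalizer_iff_commutator_le_left.1 hAV hn'
      have h2 : ⁅n, a⁆ ∈ ⁅V, A⁆ := commutator_mem_commutator hnV ha
      show a * n * a⁻¹ ∈ ⁅V, A⁆
      rw [show a * n * a⁻¹ = ⁅n, a⁆⁻¹ * n by simp only [commutatorElement_def]; group]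
      exact mul_mem (inv_mem h2) hn'
  · rw [commutator_eq_bot_iff_le_centralizer] at hB1
    have hVeq : V ≤ ⁅U, A⁆ ⊔ (V ⊓ centralizer (A : Set G)) := hc ▸ le_inf le_rfl hB1
    rw [commutator_le]
    intro v hv a ha
    have hn : ⁅U, A⁆ ≤ normalizer ((V ⊓ centralizer (A : Set G) : Subgroup G) : Set G) := fun x hx =>
      mem_normalizer_fintype fun n hn => by
        have hxV : x ∈ V := (commutator_mono hU le_rfl).trans
          (le_normalizer_iff_commutator_le_left.1 hAV) hx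
        show x * n * x⁻¹ ∈ V ⊓ centralizer (A : Set G)
        rw [show x * n = n * x from congrArg Subtype.val
          (isMulCommutative_iff.1 hV.1 ⟨x, hxV⟩ ⟨n, hn.1⟩), mul_inv_cancel_right]
        exact hn
    have hv' := hVeq hv
    rw [← SetLike.mem_coe, coe_mul_of_left_le_normalizer_right _ _ hn] at hv'
    obtain ⟨w, hw, z, hz, rfl⟩ := hv'
    have e : ⁅w * z, a⁆ = ⁅w, a⁆ := by
      simp only [commutatorElement_def]
      calc w * z * a * (w * z)⁻¹ * a⁻¹ = w * (z * a) * z⁻¹ * w⁻¹ * a⁻¹ := by group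
        _ = w * a * w⁻¹ * a⁻¹ := by rw [← mem_centralizer_iff.1 hz.2 a ha]; group
    rw [e]
    exact commutator_mem_commutator (commutator_mono hU le_rfl hw) ha

end CfsgLib.Fusion
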