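import Cfsg.Prelude.Def_PLocal
import Cfsg.Agent.Lib.Fusion.StableClosureBasic
import Cfsg.Agent.Lib.Fusion.OffenderReplacement
import Cfsg.Agent.Lib.Fusion.MaxFamily
import Cfsg.Agent.Lib.Fusion.Thompson
import Cfsg.Agent.Lib.Fusion.Sylow
import Cfsg.Agent.Lib.PGroup.ElementaryBasic
import Cfsg.Agent.Lib.Coprime.Action
import Cfsg.Agent.Lib.Coprime.Core

/-!
# Quadratic elements centralize the stable normal closure, and its normality
-/

set_option autoImplicit false
set_option linter.style.haveILetI false
set_option linter.unusedSectionVars false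

open Subgroup
open scoped commutatorElement

namespace CfsgLib.Fusion

universe u

/-- The element `x` acts quadratically on `U`. -/
def QuadOn {G : Type*} [Group G] (U : Subgroup G) (x : G) : Prop :=
  ⁅⁅U, zpowers x⁆, zpowers x⁆ = ⊥

theorem QuadOn.mono {G : Type*} [Group G] {U V : Subgroup G} {x : G} (h : QuadOn V x) (hUV : U ≤ V) :
    QuadOn U x :=
  le_bot_iff.1 ((commutator_mono (commutator_mono hUV le_rfl) le_rfl).trans h.le)

theorem quadOn_map {G H : Type*} [Group G] [Group H] (f : G →* H) {U : Subgroup G} {x : G}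
    (h : QuadOn U x) : QuadOn (U.map f) (f x) := by
  show ⁅⁅U.map f, zpowers (f x)⁆, zpowers (f x)⁆ = ⊥
  rw [← MonoidHom.map_zpowers, ← map_commutator, ← map_commutator, h, Subgroup.map_bot]

theorem quadOn_of_map {G H : Type*} [Group G] [Group H] (f : G →* H) (hf : Function.Injective f)
    {U : Subgroup G} {x : G} (h : QuadOn (U.map f) (f x)) : QuadOn U x := by
  have h' : ⁅⁅U.map f, zpowers (f x)⁆, zpowers (f x)⁆ = ⊥ := h
  rw [← MonoidHom.map_zpowers, ← map_commutator, ← map_commutator,
    map_eq_bot_iff_of_injective _ hf] at h'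
  exact h'

variable {p : ℕ}

section frattini

variable {G : Type*} [Group G] [Finite G] [Fact p.Prime]

/-- Frattini argument for the preimage of `O_p(G/C_G(V))`. -/
theorem normalizer_inf_preimage_sup_centralizer (T : Sylow p G) (V : Subgroup G) [V.Normal] :
    normalizer (((T : Subgroup G) ⊓ (Cfsg.pCore p (G ⧸ centralizer (V : Set G))).comap
      (QuotientGroup.mk' (centralizer (V : Set G))) : Subgroup G) : Set G) ⊔
        centralizer (V : Set G) = ⊤ := by
  set C := centralizer (V : Set G) with hC
  haveI := CfsgLib.Coprime.pCore_normal' (G := G ⧸ C) p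
  set L := (Cfsg.pCore p (G ⧸ C)).comap (QuotientGroup.mk' C) with hL
  haveI hLn : L.Normal := Normal.comap inferInstance _
  set Q := (T : Subgroup G) ⊓ L with hQ
  have hCL : C ≤ L := fun c hc => by
    show QuotientGroup.mk' C c ∈ Cfsg.pCore p (G ⧸ C)
    rw [show QuotientGroup.mk' C c = 1 from (QuotientGroup.eq_one_iff c).2 hc]
    exact one_mem _
  have hLQ : L ≤ Q ⊔ C := by
    rw [← relIndex_eq_one]
    have h1 : (Q ⊔ C).relIndex L ∣ Q.relIndex L := relIndex_dvd_of_le_left _ le_sup_left
    have h2 : (Q ⊔ C).relIndex L ∣ C.relIndex L := relIndex_dvd_of_le_left _ le_sup_right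
    obtain ⟨k, hk⟩ := (CfsgLib.Coprime.pCore_isPGroup (G := G ⧸ C) p).exists_card_eq
    have h3 : C.relIndex L = p ^ k := by
      have h := relIndex_comap (f := QuotientGroup.mk' C) ⊥ L
      rw [MonoidHom.comap_bot, QuotientGroup.ker_mk', relIndex_bot_left,
        map_comap_eq_self_of_surjective (QuotientGroup.mk'_surjective C)] at h
      rw [h, hk]
    obtain ⟨j, -, hj⟩ := (Nat.dvd_prime_pow Fact.out).1 (h3 ▸ h2)
    rcases Nat.eq_zero_or_pos j with rfl | hjpos
    · rw [hj, pow_zero]
    · exact absurd ((dvd_pow_self p hjpos.ne').trans (hj ▸ h1)) (not_dvd_relIndex_inf_of_normal T L)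
  let T₀ : Sylow p L := ((T.isPGroup'.to_le (inf_le_left : Q ≤ (T : Subgroup G))).of_equiv
    (subgroupOfEquivOfLe (inf_le_right : Q ≤ L)).symm).toSylow (not_dvd_relIndex_inf_of_normal T L)
  have hT₀ : (T₀ : Subgroup L).map L.subtype = Q :=
    map_subgroupOf_eq_of_le (inf_le_right : Q ≤ L)
  have hF := Sylow.normalizer_sup_eq_top T₀
  rw [hT₀] at hF
  rw [eq_top_iff, ← hF]
  exact sup_le le_sup_left (hLQ.trans (sup_le (le_normalizer.trans le_sup_left) le_sup_right))

/-- If the quadratic elements of a Sylow subgroup centralize `U` then, under stability, they centralize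
the normal closure of `U`. -/
theorem centralizes_normalClosure (T : Sylow p G) (U : Subgroup G) (V : Subgroup G) [V.Normal]
    (hV : V = normalClosure (U : Set G)) (hst : Cfsg.IsPStableOn p V)
    (hU : ∀ x ∈ (T : Subgroup G), QuadOn U x → x ∈ centralizer (U : Set G))
    {x : G} (hx : x ∈ (T : Subgroup G)) (hq : QuadOn V x) : x ∈ centralizer (V : Set G) := by
  set C := centralizer (V : Set G) with hC
  set L := (Cfsg.pCore p (G ⧸ C)).comap (QuotientGroup.mk' C) with hL
  have hxL : x ∈ (T : Subgroup G) ⊓ L := mem_inf.2 ⟨hx, hst x hq⟩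
  have hUV : U ≤ V := hV ▸ le_normalClosure
  have hgen : ∀ g : G, ∀ u ∈ U, x * (g * u * g⁻¹) = g * u * g⁻¹ * x := by
    intro g u hu
    obtain ⟨n, hn, c, hc, rfl⟩ := mem_sup_of_normal_right.1
      ((normalizer_inf_preimage_sup_centralizer T V).ge (mem_top g))
    have hcu : c * u * c⁻¹ = u := by
      rw [← mem_centralizer_iff.1 hc u (hUV hu), mul_inv_cancel_right]
    have hx' : n⁻¹ * x * n ∈ (T : Subgroup G) ⊓ L := by
      have := (mem_normalizer_iff.1 (inv_mem hn) x).1 hxL
      rwa [inv_inv] at this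
    have hq' : QuadOn V (n⁻¹ * x * n) := by
      have h := quadOn_map (MulAut.conj n⁻¹).toMonoidHom hq
      have hVn : V.map (MulAut.conj n⁻¹).toMonoidHom = V := Normal.map_conj_eq V n⁻¹
      rw [hVn] at h
      simpa using h
    have h1 := mem_centralizer_iff.1 (hU _ (mem_inf.1 hx').1 (hq'.mono hUV)) u hu
    calc x * (n * c * u * (n * c)⁻¹) = n * (n⁻¹ * x * n * (c * u * c⁻¹)) * n⁻¹ := by group
      _ = n * (c * u * c⁻¹ * (n⁻¹ * x * n)) * n⁻¹ := by rw [hcu, h1]
      _ = _ := by group
  refine mem_centralizer_iff.2 fun v hv => ?_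
  have hle : V ≤ centralizer {x} := by
    rw [hV, normalClosure, closure_le]
    intro y hy
    obtain ⟨u, hu, hy⟩ := Group.mem_conjugatesOfSet_iff.1 hy
    obtain ⟨g, rfl⟩ := isConj_iff.1 hy
    exact mem_centralizer_iff.2 fun z hz => by rw [Set.mem_singleton_iff.1 hz]; exact hgen g u hu
  exact (mem_centralizer_iff.1 (hle hv) x rfl).symm

end frattini

/-- The stable normal closure is normal under every stable embedding. -/
theorem map_stableNormalClosure_normal {S H : Type u} [Group S] [Finite S] [Group H] (τ : S →* H)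
    (hτ : Cfsg.IsStableEmbedding p τ) : ((Cfsg.stableNormalClosure p S).map τ).Normal := by
  refine ⟨fun y hy g => ?_⟩
  obtain ⟨w, hw, rfl⟩ := hy
  have hgy : ∀ W' ∈ ({W : Subgroup S | Cfsg.omegaOne p (center S) ≤ W ∧
      ∀ (H : Type u) [Group H] (τ : S →* H), Cfsg.IsStableEmbedding p τ → (W.map τ).Normal}),
      g * τ w * g⁻¹ ∈ W'.map τ := fun W' hW' =>
    (hW'.2 H τ hτ).conj_mem _
      (mem_map_of_mem τ ((sInf_le hW' : Cfsg.stableNormalClosure p S ≤ W') hw)) g
  obtain ⟨w', hw', hwe⟩ := hgy (Cfsg.omegaCenterThompson p S)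
    ⟨omegaOne_center_le_omegaCenterThompson S, fun H' _ τ' hτ' => by
      rw [omegaCenterThompson_map τ' hτ'.1]
      haveI := hτ'.2.2.2.2.1
      refine ⟨fun z hz k => ?_⟩
      have h1 := mem_map_of_mem (MulAut.conj k).toMonoidHom hz
      rw [omega_map_eq _ (MulAut.conj k).injective,
        inf_centralizer_map_eq _ (MulAut.conj k).injective] at h1
      have hJ : ((Cfsg.thompsonSubgroup p S).map τ').map (MulAut.conj k).toMonoidHom =
          (Cfsg.thompsonSubgroup p S).map τ' := Normal.map_conj_eq _ k
      rwa [hJ] at h1⟩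
  refine ⟨w', mem_sInf.2 fun W' hW' => ?_, hwe⟩
  obtain ⟨w'', hw'', hwe'⟩ := hgy W' hW'
  rwa [hτ.1 (hwe.trans hwe'.symm)]

section quadratic

variable {S : Type u} [Group S] [Finite S] [Fact p.Prime]

/-- An element acting quadratically on the stable normal closure centralizes it. -/
theorem mem_centralizer_stableNormalClosure (hS : IsPGroup p S) (x : S)
    (hq : QuadOn (Cfsg.stableNormalClosure p S) x) :
    x ∈ centralizer (Cfsg.stableNormalClosure p S : Set S) := by
  set W := Cfsg.stableNormalClosure p S with hW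
  obtain ⟨-, hWlow, hWup, -⟩ := stableNormalClosure_basic S hS
  let 𝒰 : Set (Subgroup S) := {U | U ≤ W ∧ ∀ y, QuadOn U y → y ∈ centralizer (U : Set S)}
  set Wd := sSup 𝒰 with hWd
  have hWdW : Wd ≤ W := sSup_le fun U hU => hU.1
  have hP : ∀ y, QuadOn Wd y → y ∈ centralizer (Wd : Set S) := by
    intro y hy
    rw [← zpowers_le, le_centralizer_iff]
    exact sSup_le fun U hU => le_centralizer_iff.1 (zpowers_le.2 (hU.2 y (hy.mono (le_sSup hU))))
  have hlow : Cfsg.omegaOne p (center S) ≤ Wd := by
    refine le_sSup ⟨hWlow, fun y _ => mem_centralizer_iff.2 fun z hz => ?_⟩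
    exact (mem_center_iff.1 (((closure_le (center S)).2 fun w hw => hw.1) hz) y).symm
  have hstab : ∀ (H : Type u) [Group H] (τ : S →* H), Cfsg.IsStableEmbedding p τ → (Wd.map τ).Normal := by
    intro H _ τ hτ
    have hτ' := hτ
    obtain ⟨hinj, hfin, ⟨P, hP'⟩, -, -, hst⟩ := hτ'
    haveI := hfin
    haveI hWn : (W.map τ).Normal := map_stableNormalClosure_normal τ hτ
    set V := normalClosure ((Wd.map τ : Subgroup H) : Set H) with hV
    have hVW : V ≤ W.map τ := normalClosure_le_normal (map_mono hWdW)
    haveI : V.Normal := normalClosure_normal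
    have hVst : Cfsg.IsPStableOn p V := hst V (hVW.trans (map_mono hWup))
    have hU' : V.comap τ ∈ 𝒰 := by
      refine ⟨fun y hy => ?_, fun y hy => ?_⟩
      · obtain ⟨w, hw, he⟩ := hVW hy
        rwa [← hinj he]
      · have hVeq : (V.comap τ).map τ = V :=
          map_comap_eq_self (hVW.trans (map_le_range _ _))
        have hq' := quadOn_map τ hy
        rw [hVeq] at hq'
        have h := centralizes_normalClosure P (Wd.map τ) V hV hVst (fun z hz hzq => by
          rw [hP'] at hz
          obtain ⟨z', rfl⟩ := hz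
          refine mem_centralizer_iff.2 ?_
          rintro _ ⟨w, hw, rfl⟩
          rw [← map_mul, ← map_mul, mem_centralizer_iff.1 (hP z' (quadOn_of_map τ hinj hzq)) w hw])
          (by rw [hP']; exact ⟨y, rfl⟩) hq'
        refine mem_centralizer_iff.2 fun w hw => hinj ?_
        rw [map_mul, map_mul]
        exact mem_centralizer_iff.1 h _ hw
    refine ⟨fun z hz g => ?_⟩
    have hzV : g * z * g⁻¹ ∈ V := Normal.conj_mem inferInstance z (subset_normalClosure hz) g
    obtain ⟨w, -, hwe⟩ := hVW hzV
    exact ⟨w, (le_sSup hU' : _ ≤ Wd) (show τ w ∈ V by rw [hwe]; exact hzV), hwe⟩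
  have hWWd : W ≤ Wd := sInf_le ⟨hlow, hstab⟩
  have e : W = Wd := le_antisymm hWWd hWdW
  rw [e] at hq ⊢
  exact hP x hq

end quadratic

section normality

variable {G : Type u} [Group G] [Finite G] [Fact p.Prime]

/-- The stable normal closure of a Sylow subgroup is normal in an action stable constrained group. -/
theorem stableNormalClosure_normal (hst : Cfsg.IsActionPStable p G)
    (hc : centralizer (Cfsg.pCore p G : Set G) ≤ Cfsg.pCore p G) (S : Sylow p G) :
    ((Cfsg.stableNormalClosure p ↥(S : Subgroup G)).map (S : Subgroup G).subtype).Normal := by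
  obtain ⟨hstV, hstS, hstJ⟩ := hst
  set T : Subgroup G := (S : Subgroup G) with hT
  have hTp : IsPGroup p T := S.isPGroup'
  obtain ⟨hWchar, -, hWup, -⟩ := stableNormalClosure_basic (p := p) T hTp
  set W₀ := Cfsg.stableNormalClosure p T with hW₀
  set W : Subgroup G := W₀.map T.subtype with hW
  haveI := hWchar
  have hWT : W ≤ T := map_subtype_le _
  have hTW : T ≤ normalizer (W : Set G) := by
    haveI : W₀.Normal := inferInstance
    exact le_normalizer_map T.subtype |>.trans' (by
      rw [normalizer_eq_top, ← MonoidHom.range_eq_map, range_subtype])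
  -- the omega of the centre of the Thompson subgroup is elementary abelian
  have hWe : Cfsg.IsElementaryAbelian p W := by
    have hJc : ∀ a ∈ Cfsg.omegaCenterThompson p T, ∀ b ∈ Cfsg.omegaCenterThompson p T,
        Commute a b := fun a ha b hb => by
      have hle : Cfsg.omegaCenterThompson p T ≤ Cfsg.thompsonSubgroup p T ⊓
          centralizer (Cfsg.thompsonSubgroup p T : Set T) := (closure_le _).2 fun z hz => hz.1
      exact mem_centralizer_iff.1 (hle hb).2 a (hle ha).1
    have he : Cfsg.IsElementaryAbelian p (Cfsg.omegaCenterThompson p T) := by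
      refine ⟨⟨⟨fun a b => Subtype.ext (hJc a a.2 b b.2)⟩⟩, fun a ha => ?_⟩
      induction ha using Subgroup.closure_induction with
      | mem z hz => exact hz.2
      | one => exact one_pow p
      | mul a b ha hb iha ihb => rw [(hJc a ha b hb).mul_pow, iha, ihb, one_mul]
      | inv a _ iha => rw [inv_pow, iha, inv_one]
    exact isElementaryAbelian_map _ (CfsgLib.EABasic.isElementaryAbelian_le he hWup)
  have hquad : ∀ x ∈ T, QuadOn W x → x ∈ centralizer (W : Set G) := by
    intro x hx hxq
    have h := mem_centralizer_stableNormalClosure hTp ⟨x, hx⟩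
      (quadOn_of_map T.subtype T.subtype_injective hxq)
    refine mem_centralizer_iff.2 ?_
    rintro _ ⟨w, hw, rfl⟩
    exact congrArg Subtype.val (mem_centralizer_iff.1 h w hw)
  -- `W` lies in the `p`-core
  haveI hOn := CfsgLib.Coprime.pCore_normal' (G := G) p
  set O := Cfsg.pCore p G with hO
  have hOp : IsPGroup p O := CfsgLib.Coprime.pCore_isPGroup p
  have hOT : O ≤ T := hOp.le_sylow_of_normal S
  have hWO : W ≤ O := by
    intro a ha
    have hsub : ⁅⁅O, zpowers a⁆, zpowers a⁆ ≤ (frattini O).map O.subtype := by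
      have h1 : ⁅O, zpowers a⁆ ≤ W := by
        rw [commutator_comm]
        exact (commutator_mono (zpowers_le.2 ha) le_rfl).trans
          (le_normalizer_iff_commutator_le_left.1 (hOT.trans hTW))
      have h2 : ⁅W, zpowers a⁆ = ⊥ := by
        rw [commutator_eq_bot_iff_le_centralizer]
        exact fun w hw => mem_centralizer_iff.2 fun z hz =>
          CfsgLib.EABasic.comm_of_isElementaryAbelian hWe (zpowers_le.2 ha hz) hw
      exact (commutator_mono h1 le_rfl).trans (h2.le.trans bot_le)
    haveI : ((frattini O).map O.subtype).Normal :=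
      CfsgLib.Coprime.map_subtype_normal_of_characteristic O _
    obtain ⟨D, hDn, hKD, ⟨k, hk⟩, haD⟩ := hstS a hsub
    haveI := hDn
    set K₀ := Cfsg.sectionKernel O ((frattini O).map O.subtype) with hK₀
    refine CfsgLib.Coprime.le_pCore (N := D) ?_ haD
    have hK₀p : IsPGroup p K₀ := by
      rintro ⟨y, hy⟩
      obtain ⟨j, m, hm, hjm⟩ := Nat.exists_eq_pow_mul_and_not_dvd (orderOf_pos y).ne' p
        (Fact.out : p.Prime).ne_one
      refine ⟨j, Subtype.ext ?_⟩
      show y ^ p ^ j = 1
      set z := y ^ p ^ j with hz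
      have hzo : orderOf z = m := by
        rw [hz, orderOf_pow' _ (pow_ne_zero j (Fact.out : p.Prime).ne_zero), hjm,
          Nat.gcd_eq_right (Dvd.intro m rfl),
          Nat.mul_div_cancel_left _ (pow_pos (Fact.out : p.Prime).pos j)]
      have hcp : (orderOf z).Coprime p := by
        rw [hzo, Nat.coprime_comm]; exact (Fact.out : p.Prime).coprime_iff_not_dvd.2 hm
      have hzK : z ∈ K₀ := pow_mem hy _
      have hzC : z ∈ centralizer (O : Set G) := by
        refine CfsgLib.Coprime.le_centralizer_of_trivial_on_frattini_quotient (A := zpowers z)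
          (fun w _ => by rw [normalizer_eq_top]; exact mem_top w) ?_ ?_ (mem_zpowers z)
        · obtain ⟨e, he⟩ := (hOp.to_subgroup (frattini O)).exists_card_eq
          rw [he, Nat.card_zpowers]
          exact hcp.pow_right e
        · intro b hb o ho
          have hb' : b ∈ K₀ := zpowers_le.2 hzK hb
          have h1 := mem_centralizer_iff.1 (mem_comap.1 hb') _ (mem_map_of_mem _ ho)
          rw [← QuotientGroup.eq_one_iff]
          show QuotientGroup.mk' _ (b * o * b⁻¹ * o⁻¹) = 1
          rw [map_mul, map_mul, map_mul, ← h1, map_inv, map_inv, mul_inv_cancel_right, mul_inv_cancel]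
      obtain ⟨e, he⟩ := hOp ⟨z, hc hzC⟩
      have he' : z ^ p ^ e = 1 := congrArg Subtype.val he
      rw [← orderOf_eq_one_iff]
      exact Nat.eq_one_of_dvd_coprimes (hcp.pow_right e) dvd_rfl (orderOf_dvd_of_pow_eq_one he')
    obtain ⟨e, he⟩ := hK₀p.exists_card_eq
    refine IsPGroup.of_card (n := e + k) ?_
    have := relIndex_mul_relIndex ⊥ K₀ D bot_le hKD
    rw [relIndex_bot_left, relIndex_bot_left, he, hk] at this
    rw [← this, pow_add]
  -- conjugates of `W` commute
  set V := normalClosure (W : Set G) with hV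
  haveI hVn : V.Normal := normalClosure_normal
  have hVO : V ≤ O := normalClosure_le_normal hWO
  have hcomm : ∀ g : G, ∀ a ∈ W, ∀ b ∈ W, Commute (g * a * g⁻¹) b := by
    intro g a ha b hb
    set x := g * a * g⁻¹ with hx
    set W' := W.map (MulAut.conj g).toMonoidHom with hW'
    have hxW' : x ∈ W' := ⟨a, ha, by simp [hx]⟩
    have hxT : x ∈ T := hOT (hOn.conj_mem a (hWO ha) g)
    have hW'c : ⁅W', zpowers x⁆ = ⊥ := by
      rw [commutator_eq_bot_iff_le_centralizer]
      exact fun w hw => mem_centralizer_iff.2 fun z hz =>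
        CfsgLib.EABasic.comm_of_isElementaryAbelian (isElementaryAbelian_map _ hWe)
          (zpowers_le.2 hxW' hz) hw
    have hWW' : W ≤ normalizer (W' : Set G) := by
      intro w hw
      have h1 : g⁻¹ * w * g ∈ normalizer (W : Set G) := hTW (hOT (by
        have := hOn.conj_mem w (hWO hw) g⁻¹
        rwa [inv_inv] at this))
      refine mem_normalizer_fintype ?_
      rintro _ ⟨v, hv, rfl⟩
      refine ⟨g⁻¹ * w * g * v * (g⁻¹ * w * g)⁻¹, (mem_normalizer_iff.1 h1 v).1 hv, ?_⟩
      simp only [MulEquiv.coe_toMonoidHom, MulAut.conj_apply]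
      group
    have h1 : ⁅W, zpowers x⁆ ≤ W' := by
      rw [commutator_comm]
      exact (commutator_mono (zpowers_le.2 hxW') le_rfl).trans
        (le_normalizer_iff_commutator_le_left.1 hWW')
    have hxq : QuadOn W x := le_bot_iff.1 ((commutator_mono h1 le_rfl).trans hW'c.le)
    exact (mem_centralizer_iff.1 (hquad x hxT hxq) b hb).symm
  have hVe : Cfsg.IsElementaryAbelian p V := by
    have hgc : ∀ y ∈ Group.conjugatesOfSet (W : Set G), ∀ z ∈ Group.conjugatesOfSet (W : Set G),
        Commute y z := by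
      intro y hy z hz
      obtain ⟨a, ha, hy⟩ := Group.mem_conjugatesOfSet_iff.1 hy
      obtain ⟨b, hb, hz⟩ := Group.mem_conjugatesOfSet_iff.1 hz
      obtain ⟨g, rfl⟩ := isConj_iff.1 hy
      obtain ⟨k, rfl⟩ := isConj_iff.1 hz
      have h := (hcomm (k⁻¹ * g) a ha b hb).map (MulAut.conj k).toMonoidHom
      simp only [MulEquiv.coe_toMonoidHom, MulAut.conj_apply] at h
      convert h using 1
      group
    have hVc : ∀ y ∈ V, ∀ z ∈ V, Commute y z := by
      intro y hy z hz
      have h1 : V ≤ centralizer (Group.conjugatesOfSet (W : Set G)) :=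
        (closure_le _).2 fun w hw => mem_centralizer_iff.2 fun u hu => hgc u hu w hw
      have h2 : V ≤ centralizer (V : Set G) := by
        rw [le_centralizer_iff]
        refine (closure_le _).2 fun w hw => mem_centralizer_iff.2 fun u hu => ?_
        exact (mem_centralizer_iff.1 (h1 hu) w hw).symm
      exact mem_centralizer_iff.1 (h2 hz) y hy
    refine ⟨⟨⟨fun a b => Subtype.ext (hVc a a.2 b b.2)⟩⟩, fun a ha => ?_⟩
    induction ha using Subgroup.closure_induction with
    | mem y hy =>
        obtain ⟨a, ha, hy⟩ := Group.mem_conjugatesOfSet_iff.1 hy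
        obtain ⟨g, rfl⟩ := isConj_iff.1 hy
        rw [conj_pow, hWe.2 a ha, mul_one, mul_inv_cancel]
    | one => exact one_pow p
    | mul a b ha hb iha ihb => rw [(hVc a ha b hb).mul_pow, iha, ihb, one_mul]
    | inv a _ iha => rw [inv_pow, iha, inv_one]
  -- the Thompson subgroup centralizes `V`
  set C := centralizer (V : Set G) with hC
  have hVq : ∀ x ∈ T, QuadOn V x → x ∈ C := fun x hx hxq =>
    centralizes_normalClosure S W V hV (hstV V hVe) hquad hx hxq
  set J := Cfsg.thompsonSubgroupOf p T with hJ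
  have hAC : ∀ A ∈ maxEA p T, A ≤ C := by
    intro A hA
    have hAV : A ≤ normalizer (V : Set G) := fun a _ => by rw [normalizer_eq_top]; exact mem_top a
    have hoff : Cfsg.IsBestOffenderOn p V A := by
      refine ⟨fun B hB => ?_, ?_, fun a ha => ?_⟩
      · set U := V ⊓ centralizer (B : Set G) with hU
        have hBe := CfsgLib.EABasic.isElementaryAbelian_le hA.2.1 hB
        have hbu : ∀ b ∈ B, ∀ u ∈ U, b * u = u * b := fun b hb u hu =>
          mem_centralizer_iff.1 hu.2 b hb
        have h2 := hA.2.2 (B ⊔ U) (sup_le (hB.trans hA.1) (inf_le_left.trans (hVO.trans hOT)))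
          (CfsgLib.EABasic.isElementaryAbelian_sup hBe
            (CfsgLib.EABasic.isElementaryAbelian_le hVe inf_le_left) hbu)
        have h3 : Nat.card (B ⊓ U : Subgroup G) ≤ Nat.card (V ⊓ centralizer (A : Set G) : Subgroup G) :=
          card_le_of_le fun y hy => ⟨hy.2.1, mem_centralizer_iff.2 fun a ha =>
            CfsgLib.EABasic.comm_of_isElementaryAbelian hA.2.1 ha (hB hy.1)⟩
        exact (card_mul_le_sup_inf B U).trans (Nat.mul_le_mul h2 h3)
      · refine commutator_le.2 fun a ha b hb => ?_
        rw [commutatorElement_eq_one_iff_mul_comm.2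
          (CfsgLib.EABasic.comm_of_isElementaryAbelian hA.2.1 ha hb)]
        exact one_mem _
      · rw [hA.2.1.2 a ha]; exact one_mem _
    by_contra hne
    obtain ⟨-, -, h3⟩ := timmesfeld hVe hAV hoff V le_rfl
    set B := A ⊓ centralizer ((⁅V, A⁆ : Subgroup G) : Set G) with hB
    refine h3 (fun h => hne fun a ha => ?_) ((commutator_eq_bot_iff_le_centralizer).2 ?_)
    · rw [commutator_eq_bot_iff_le_centralizer] at h
      exact mem_centralizer_iff.2 fun v hv => (mem_centralizer_iff.1 (h hv) a ha).symm
    · intro v hv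
      refine mem_centralizer_iff.2 fun b hb => ?_
      have hbA : b ∈ A := (mem_inf.1 hb).1
      refine (mem_centralizer_iff.1 (hVq b (hA.1 hbA) ?_) v hv).symm
      have h1 : ⁅⁅V, A⁆, B⁆ = ⊥ := by
        rw [commutator_eq_bot_iff_le_centralizer, le_centralizer_iff]
        exact inf_le_right
      exact le_bot_iff.1 ((commutator_mono (commutator_mono le_rfl (zpowers_le.2 hbA))
        (zpowers_le.2 hb)).trans h1.le)
  have hJC : J ≤ C := by rw [hJ, thompsonSubgroupOf_eq]; exact sSup_le fun A hA => hAC A hA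
  haveI : C.Normal := inferInstance
  set R := T ⊓ C with hR
  have hFr : normalizer (R : Set G) ⊔ C = ⊤ := by
    let T₀ : Sylow p C := ((hTp.to_le (inf_le_left : R ≤ T)).of_equiv
      (subgroupOfEquivOfLe (inf_le_right : R ≤ C)).symm).toSylow (not_dvd_relIndex_inf_of_normal S C)
    have hT₀ : (T₀ : Subgroup C).map C.subtype = R := map_subgroupOf_eq_of_le (inf_le_right : R ≤ C)
    have hF := Sylow.normalizer_sup_eq_top T₀
    rwa [hT₀] at hF
  have hRJ : normalizer (R : Set G) ≤ normalizer (J : Set G) := by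
    intro n hn
    refine conjBy_eq_iff.1 (conjBy_eq_of_le ?_)
    rw [hJ, thompsonSubgroupOf_eq, conjBy, map_le_iff_le_comap]
    refine sSup_le fun A hA => ?_
    rw [← map_le_iff_le_comap]
    have hnA : conjBy n A ≤ R := conjBy_le_iff.2 fun a ha =>
      (mem_normalizer_iff.1 hn a).1 (mem_inf.2 ⟨hA.1 ha, hAC A hA ha⟩)
    exact le_sSup (show IsMaxEA p T (conjBy n A) from ⟨hnA.trans inf_le_left,
      isElementaryAbelian_map _ hA.2.1, fun D hD hDe => (card_conjBy n A).symm ▸ hA.2.2 D hD hDe⟩)
  -- `W` is normal in the normalizer of `J`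
  set N := normalizer (J : Set G) with hN
  have hTN : T ≤ N := le_normalizer.trans (normalizer_le_normalizer_thompsonSubgroupOf T)
  have hWN : N ≤ normalizer (W : Set G) := by
    let τ : T →* N := Subgroup.inclusion hTN
    have hτ : Cfsg.IsStableEmbedding p τ := by
      refine ⟨inclusion_injective hTN, inferInstance, ⟨S.subtype hTN, ?_⟩, ?_, ?_, fun U _ hU => ?_⟩
      · rw [inclusion_range]; rfl
      · haveI : (O.subgroupOf N).Normal := hOn.subgroupOf N
        have hle : O.subgroupOf N ≤ Cfsg.pCore p N :=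
          CfsgLib.Coprime.le_pCore (hOp.comap_of_injective N.subtype N.subtype_injective)
        intro y hy
        refine hle (show (y : G) ∈ O from hc (mem_centralizer_iff.2 fun o ho => ?_))
        exact congrArg Subtype.val (mem_centralizer_iff.1 hy ⟨o, hTN (hOT ho)⟩ (hle ho))
      · have e : (Cfsg.thompsonSubgroup p T).map τ = J.subgroupOf N := by
          ext y
          constructor
          · rintro ⟨t, ht, rfl⟩; exact ⟨t, ht, rfl⟩
          · rintro ⟨t, ht, hty⟩; exact ⟨t, ht, Subtype.ext hty⟩
        rw [e]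
        exact normal_in_normalizer
      · refine hstJ S U ?_
        refine (map_mono hU).trans ?_
        rw [Subgroup.map_map, subtype_comp_inclusion]
    have hWτ : (W₀.map τ).Normal := map_stableNormalClosure_normal τ hτ
    intro n hn
    refine mem_normalizer_fintype ?_
    rintro _ ⟨w, hw, rfl⟩
    obtain ⟨w', hw', he⟩ := hWτ.conj_mem _ (mem_map_of_mem τ hw) ⟨n, hn⟩
    exact ⟨w', hw', congrArg Subtype.val he⟩
  refine normalizer_eq_top_iff.1 (eq_top_iff.2 ?_)
  rw [← hFr]
  refine sup_le (hRJ.trans hWN) ?_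
  exact (centralizer_le (show (W : Set G) ⊆ V from subset_normalClosure)).trans
    (centralizer_le_normalizer _)

end normality

end CfsgLib.Fusion
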