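import Cfsg.Prelude.Def_PLocal
import Cfsg.Agent.Lib.Fusion.StableClosureNormal
import Cfsg.Agent.Lib.Qd.Unstable
import Cfsg.Agent.Lib.Qd.SLTwo
import Cfsg.Agent.Lib.Coprime.QdRankTwo.Data
import Cfsg.Agent.Lib.CFun.PNilpotent
import Cfsg.Agent.Lib.CFun.SectionInd
import Cfsg.Agent.Lib.Block.PSolvableOne
import Cfsg.Agent.Lib.Fusion.PrimeCoreQuotient

/-!
# Action stability without sections `Qd(p)`, and consequences for the stable normal closure
-/

set_option autoImplicit false
set_option linter.style.haveILetI false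

open Subgroup

namespace CfsgLib.Fusion

universe u

variable {p : ℕ} [Fact p.Prime]

/-- Without sections `Qd(p)`, for odd `p`, the action is stable. -/
theorem isActionPStable_of_not_involves {G : Type u} [Group G] [Finite G] (hp : p ≠ 2)
    (hfree : ¬ Cfsg.Involves ↥(Cfsg.qd p) G) : Cfsg.IsActionPStable p G := by
  have key : ∀ (X : Type u) [Group X] [Finite X], ¬ Cfsg.Involves ↥(Cfsg.qd p) X →
      ∀ (P : Subgroup X) [P.Normal], IsPGroup p P → Cfsg.IsPStableOn p P := by
    intro X _ _ hX P _ hP
    by_contra h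
    exact hX (CfsgLib.Qd.sections_of_not_isPStableOn hp P hP h).1
  have hea : ∀ {X : Type u} [Group X] (V : Subgroup X), Cfsg.IsElementaryAbelian p V → IsPGroup p V :=
    fun {X} _ V hV v => ⟨1, Subtype.ext (by rw [pow_one]; exact hV.2 v v.2)⟩
  refine ⟨fun V _ hV => key G hfree V (hea V hV), ?_, fun S V _ hV => ?_⟩
  · haveI hOn := CfsgLib.Coprime.pCore_normal' (G := G) p
    set O := Cfsg.pCore p G with hO
    haveI hΦn : ((frattini O).map O.subtype).Normal :=
      CfsgLib.Coprime.map_subtype_normal_of_characteristic O _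
    set N := (frattini O).map O.subtype with hN
    intro a ha
    set π := QuotientGroup.mk' N
    have hπ : Function.Surjective π := QuotientGroup.mk'_surjective N
    haveI : (O.map π).Normal := hOn.map π hπ
    have hst := key (G ⧸ N) (fun h => hfree (involves_of_surjective π hπ h)) (O.map π)
      ((CfsgLib.Coprime.pCore_isPGroup p).map π)
    set C := centralizer ((O.map π : Subgroup (G ⧸ N)) : Set (G ⧸ N)) with hC
    haveI := CfsgLib.Coprime.pCore_normal' (G := (G ⧸ N) ⧸ C) p
    set L := (Cfsg.pCore p ((G ⧸ N) ⧸ C)).comap (QuotientGroup.mk' C) with hL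
    haveI : L.Normal := Normal.comap inferInstance _
    have hq : ⁅⁅O.map π, zpowers (π a)⁆, zpowers (π a)⁆ = ⊥ := by
      rw [← MonoidHom.map_zpowers, ← map_commutator, ← map_commutator, Subgroup.map_eq_bot_iff,
        QuotientGroup.ker_mk']
      exact ha
    have hCL : C ≤ L := fun c hc => by
      show QuotientGroup.mk' C c ∈ Cfsg.pCore p _
      rw [show QuotientGroup.mk' C c = 1 from (QuotientGroup.eq_one_iff c).2 hc]
      exact one_mem _
    obtain ⟨k, hk⟩ := (CfsgLib.Coprime.pCore_isPGroup (G := (G ⧸ N) ⧸ C) p).exists_card_eq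
    refine ⟨L.comap π, Normal.comap inferInstance _, comap_mono hCL, ⟨k, ?_⟩, hst (π a) hq⟩
    rw [show Cfsg.sectionKernel O N = C.comap π from rfl, relIndex_comap,
      map_comap_eq_self_of_surjective hπ]
    have h := relIndex_comap (f := QuotientGroup.mk' C) ⊥ L
    rw [MonoidHom.comap_bot, QuotientGroup.ker_mk', relIndex_bot_left,
      map_comap_eq_self_of_surjective (QuotientGroup.mk'_surjective C)] at h
    rw [h, hk]
  · refine key _ (fun h => hfree (involves_of_injective _ (Subgroup.subtype_injective _) h)) V ?_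
    intro v
    obtain ⟨k, hk⟩ := (S.2.to_le (hV.trans (map_subtype_le _))) ⟨_, mem_map_of_mem _ v.2⟩
    exact ⟨k, Subtype.ext (Subtype.ext (by simpa using congrArg Subtype.val hk))⟩

/-- A subgroup of a `p`-solvable group is `p`-solvable. -/
theorem isPSolvable_of_injective {X Y : Type*} [Group X] [Group Y] (f : X →* Y)
    (hf : Function.Injective f) (h : Cfsg.IsPSolvable p Y) : Cfsg.IsPSolvable p X := by
  obtain ⟨n, H, h0, hl, hm, hn, hs⟩ := h
  refine ⟨n, fun i => (H i).comap f, ?_, ?_, fun i j hij => comap_mono (hm hij),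
    fun i => (hn i).comap f, fun i => ?_⟩
  · show (H 0).comap f = ⊥
    rw [h0, MonoidHom.comap_bot, (MonoidHom.ker_eq_bot_iff f).2 hf]
  · show (H (Fin.last n)).comap f = ⊤
    rw [hl, comap_top]
  haveI := hn i.castSucc
  have hd : ((H i.castSucc).comap f).relIndex ((H i.succ).comap f) ∣
      (H i.castSucc).relIndex (H i.succ) := by
    rw [relIndex_comap]
    conv_lhs => rw [← QuotientGroup.ker_mk' (H i.castSucc), relIndex_ker]
    conv_rhs => rw [← QuotientGroup.ker_mk' (H i.castSucc), relIndex_ker]
    exact card_dvd_of_le (map_mono (map_comap_le f _))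
  rcases hs i with ⟨m, hm'⟩ | hco
  · rw [hm'] at hd
    obtain ⟨k, -, hk⟩ := (Nat.dvd_prime_pow Fact.out).1 hd
    exact Or.inl ⟨k, hk⟩
  · exact Or.inr (hco.coprime_dvd_left hd)

/-- `SL₂(p)` is not a section of a `p`-solvable group, for `p > 3`. -/
theorem not_involves_slTwo_of_isPSolvable {G : Type u} [Group G] (hp : 3 < p)
    (hsep : Cfsg.IsPSolvable p G) :
    ¬ Cfsg.Involves (Matrix.SpecialLinearGroup (Fin 2) (ZMod p)) G := by
  rintro ⟨K, R, hR, ⟨e⟩⟩
  haveI := hR
  obtain ⟨n, H, h0, hl, -, hn, hs⟩ := isPSolvable_of_surjective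
    (e.toMonoidHom.comp (QuotientGroup.mk' _)) (e.surjective.comp (QuotientGroup.mk'_surjective _))
    (isPSolvable_of_injective K.subtype K.subtype_injective hsep)
  have key : ∀ i, H i ≠ ⊤ := by
    intro i
    induction i using Fin.induction with
    | zero =>
        rw [h0]
        intro h
        have h1 : (-1 : Matrix.SpecialLinearGroup (Fin 2) (ZMod p)) ∈ (⊥ : Subgroup _) := h ▸ mem_top _
        exact CfsgLib.Qd.neg_one_ne_one (show p ≠ 2 by omega) (Subgroup.mem_bot.1 h1)
    | succ i ih =>
        intro htop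
        haveI := hn i.castSucc
        have hup : CfsgLib.Qd.up (1 : ZMod p) ∉ H i.castSucc := fun h =>
          ih (CfsgLib.Coprime.QdRankTwo.eq_top_of_up_mem _ one_ne_zero h)
        have hidx : (H i.castSucc).relIndex (H i.succ) = (H i.castSucc).index := by
          rw [htop, relIndex_top_right]
        rcases hs i with ⟨m, hm⟩ | hco
        · rw [hidx, index_eq_card] at hm
          have hQ : IsPGroup p (Matrix.SpecialLinearGroup (Fin 2) (ZMod p) ⧸ H i.castSucc) :=
            IsPGroup.of_card hm
          haveI := hQ.isNilpotent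
          haveI : Nontrivial (Matrix.SpecialLinearGroup (Fin 2) (ZMod p) ⧸ H i.castSucc) := by
            rw [← Finite.one_lt_card_iff_nontrivial, ← index_eq_card]
            exact one_lt_index_of_ne_top ih
          have hperf : _root_.commutator (Matrix.SpecialLinearGroup (Fin 2) (ZMod p) ⧸ H i.castSucc) = ⊤ := by
            rw [_root_.commutator_def, ← map_top_of_surjective (QuotientGroup.mk' (H i.castSucc))
              (QuotientGroup.mk'_surjective _), ← map_commutator, ← _root_.commutator_def,
              CfsgLib.Coprime.QdRankTwo.commutator_sl_eq_top hp]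
          exact (Group.IsSolvable.commutator_lt_top_of_nontrivial _).ne hperf
        · rw [hidx, index_eq_card] at hco
          refine hup ((QuotientGroup.eq_one_iff _).1 (orderOf_eq_one_iff.1 ?_))
          refine Nat.eq_one_of_dvd_coprimes hco (orderOf_dvd_natCard _) (orderOf_dvd_of_pow_eq_one ?_)
          rw [← QuotientGroup.mk_pow, CfsgLib.Qd.up_pow, ZMod.natCast_self, zero_mul]
          exact (QuotientGroup.eq_one_iff _).2 (by rw [CfsgLib.Qd.up_zero]; exact one_mem _)
  exact key _ hl

/-- The functor of stable normal closures. -/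
theorem stableNormalClosure_isCharPFunctor :
    Cfsg.IsCharPFunctor.{u} p (fun Q _ => Cfsg.stableNormalClosure p Q) :=
  ⟨fun Q _ _ hQ hne => (stableNormalClosure_basic Q hQ).2.2.2 hne,
    fun _ _ _ _ _ _ φ => map_stableNormalClosure φ⟩

/-- A normal `p`-complement of the normalizer of the stable normal closure gives one for the group. -/
theorem hasNormalPComplement_of_stableNormalClosure {G : Type u} [Group G] [Finite G] (hp : p ≠ 2)
    (S : Sylow p G) (hN : Cfsg.HasNormalPComplement p ↥(normalizer
      (((Cfsg.stableNormalClosure p ↥(S : Subgroup G)).map (S : Subgroup G).subtype) : Set G))) :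
    Cfsg.HasNormalPComplement p G := by
  refine CfsgLib.CFun.hasNormalPComplement_of_functor (G₀ := G) stableNormalClosure_isCharPFunctor
    (fun X _ _ T _ hcon _ _ hfree => ?_) _ G rfl (CfsgLib.CFun.involves_self G) S hN
  have h := stableNormalClosure_normal (isActionPStable_of_not_involves hp (hfree hp)) hcon T
  intro A g _ _
  exact ⟨g, by
    rw [show Cfsg.inducedFunctor (fun (Q : Type u) (_ : Group Q) => Cfsg.stableNormalClosure p Q)
      (T : Subgroup X) = (Cfsg.stableNormalClosure p ↥(T : Subgroup X)).map (T : Subgroup X).subtype from rfl,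
      @Subgroup.normalizer_eq_top _ _ _ h]
    exact mem_top g, fun _ _ => rfl⟩

end CfsgLib.Fusion
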