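import Cfsg.Agent.Lib.Fusion.Stable
import Cfsg.Agent.Lib.Coprime.Core

/-!
# The centre or the Thompson subgroup carries a `p'`-element

In a group with `C(O_p) ≤ O_p` which is not a `p`-group, for `p` odd or without a section `S₄`,
either `N(J(T))` or `C(Z(T))` fails to be a `p`-group, `T` a Sylow subgroup.
-/

set_option autoImplicit false
set_option linter.style.haveILetI false

open Subgroup

namespace CfsgLib.Fusion

section

variable {G : Type*} [Group G]

theorem maxAb_map_injective {H : Type*} [Group H] [Finite G] (f : G →* H) (hf : Function.Injective f)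
    (D : Subgroup G) : maxAb (D.map f) = Subgroup.map f '' maxAb D := by
  have hcard : ∀ B : Subgroup G, Nat.card (B.map f) = Nat.card B := fun B =>
    Subgroup.card_map_of_injective hf
  have hback : ∀ C : Subgroup H, C ≤ D.map f → (C.comap f).map f = C ∧ C.comap f ≤ D := by
    intro C hC
    refine ⟨Subgroup.map_comap_eq_self (hC.trans (Subgroup.map_le_range _ _)), ?_⟩
    rw [← Subgroup.comap_map_eq_self_of_injective hf D]
    exact Subgroup.comap_mono hC
  have hcomm : ∀ C : Subgroup H, IsMulCommutative C → IsMulCommutative (C.comap f) := fun C hC =>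
    ⟨⟨fun a b => Subtype.ext (hf (by
      show f ((a : G) * b) = f ((b : G) * a)
      rw [map_mul, map_mul]
      exact congrArg Subtype.val (hC.is_comm.comm (⟨f a, a.2⟩ : C) ⟨f b, b.2⟩)))⟩⟩
  ext A
  constructor
  · intro hA
    obtain ⟨e1, e2⟩ := hback A hA.1
    refine ⟨A.comap f, ⟨e2, hcomm A hA.2.1, fun B hB hBc => ?_⟩, e1⟩
    rw [← hcard B, ← hcard (A.comap f), e1]
    exact hA.2.2 _ (Subgroup.map_mono hB) (isMulCommutative_map f hBc)
  · rintro ⟨B, hB, rfl⟩
    refine ⟨Subgroup.map_mono hB.1, isMulCommutative_map f hB.2.1, fun C hC hCc => ?_⟩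
    obtain ⟨e1, e2⟩ := hback C hC
    rw [← e1, hcard, hcard]
    exact hB.2.2 _ e2 (hcomm C hCc)

theorem map_thompsonSubgroupAOf {H : Type*} [Group H] [Finite G] (f : G →* H)
    (hf : Function.Injective f) (D : Subgroup G) :
    (Cfsg.thompsonSubgroupAOf D).map f = Cfsg.thompsonSubgroupAOf (D.map f) := by
  rw [thompsonSubgroupAOf_eq, thompsonSubgroupAOf_eq, maxAb_map_injective f hf, sSup_image,
    (Subgroup.gc_map_comap f).l_sSup]

theorem thompsonSubgroupAOf_le (D : Subgroup G) : Cfsg.thompsonSubgroupAOf D ≤ D := by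
  rw [thompsonSubgroupAOf_eq]
  exact sSup_le fun A hA => hA.1

theorem map_centerOf {H : Type*} [Group H] (f : G →* H) (hf : Function.Injective f)
    (D : Subgroup G) : (centerOf D).map f = centerOf (D.map f) := by
  ext y
  constructor
  · rintro ⟨x, ⟨hxD, hxc⟩, rfl⟩
    refine ⟨⟨x, hxD, rfl⟩, Subgroup.mem_centralizer_iff.2 ?_⟩
    rintro _ ⟨d, hd, rfl⟩
    rw [← map_mul, ← map_mul, Subgroup.mem_centralizer_iff.1 hxc d hd]
  · rintro ⟨⟨x, hxD, rfl⟩, hc⟩
    refine ⟨x, ⟨hxD, Subgroup.mem_centralizer_iff.2 fun d hd => hf ?_⟩, rfl⟩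
    rw [map_mul, map_mul]
    exact Subgroup.mem_centralizer_iff.1 hc _ ⟨d, hd, rfl⟩

end

variable {G : Type*} [Group G] [Finite G] {p : ℕ} [hpf : Fact p.Prime]

/-- The dichotomy when every proper subgroup above the Sylow subgroup is a `p`-group. -/
theorem thompsonA_normal_or_center_central (hfree : p ≠ 2 ∨ ¬ Cfsg.Involves (Equiv.Perm (Fin 4)) G)
    (T : Sylow p G) (hc : Subgroup.centralizer (Cfsg.pCore p G : Set G) ≤ Cfsg.pCore p G)
    (hmax : ∀ M : Subgroup G, (T : Subgroup G) ≤ M → M ≠ ⊤ → IsPGroup p M) (hG : ¬ IsPGroup p G) :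
    (Cfsg.thompsonSubgroupAOf (T : Subgroup G)).Normal ∨
      Subgroup.centralizer (centerOf (T : Subgroup G) : Set G) = ⊤ := by
  haveI hQn := CfsgLib.Coprime.pCore_normal' (G := G) p
  set Q := Cfsg.pCore p G with hQ
  have hQp : IsPGroup p Q := CfsgLib.Coprime.pCore_isPGroup p
  have hQT : Q ≤ (T : Subgroup G) := hQp.le_sylow_of_normal T
  set f := QuotientGroup.mk' Q with hf
  have hfs : Function.Surjective f := QuotientGroup.mk'_surjective Q
  let T' : Sylow p (G ⧸ Q) := T.mapSurjective hfs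
  have hT' : (T' : Subgroup (G ⧸ Q)) = (T : Subgroup G).map f := Sylow.coe_mapSurjective hfs T
  have hmax' : ∀ M : Subgroup (G ⧸ Q), (T' : Subgroup (G ⧸ Q)) ≤ M → M ≠ ⊤ → IsPGroup p M := by
    intro M hM hne
    have h := hmax (M.comap f) (by rw [← Subgroup.map_le_iff_le_comap, ← hT']; exact hM)
      (fun h => hne (by rw [← Subgroup.map_comap_eq_self_of_surjective hfs M, h,
        Subgroup.map_top_of_surjective f hfs]))
    have h2 := h.map f
    rwa [Subgroup.map_comap_eq_self_of_surjective hfs] at h2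
  obtain ⟨K, hKn, hKp, hKc, hKT⟩ := exists_abelian_complement_free
    (hfree.imp id fun h h' => h (involves_of_surjective f hfs h')) T'
    (CfsgLib.Coprime.pCore_quotient_eq_bot p) hmax'
  haveI := hKn
  rw [hT'] at hKT
  -- `V = Ω₁ Z(Q)`
  let V : Subgroup G :=
    { carrier := {x : G | x ∈ centerOf Q ∧ x ^ p = 1}
      one_mem' := ⟨one_mem _, one_pow p⟩
      mul_mem' := fun {a b} ha hb => ⟨mul_mem ha.1 hb.1, by
        have hab : Commute a b := Subgroup.mem_centralizer_iff.1 hb.1.2 a ha.1.1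
        rw [hab.mul_pow, ha.2, hb.2, one_mul]⟩
      inv_mem' := fun {a} ha => ⟨inv_mem ha.1, by rw [inv_pow, ha.2, inv_one]⟩ }
  have hnZ : ∀ g : G, g ∈ Subgroup.normalizer (centerOf Q : Set G) := fun g =>
    normalizer_le_normalizer_centerOf Q (by rw [Subgroup.normalizer_eq_top]; exact Subgroup.mem_top g)
  haveI hVn : V.Normal := ⟨fun x hx g => ⟨(Subgroup.mem_normalizer_iff.1 (hnZ g) x).1 hx.1, by
    rw [conj_pow, hx.2, mul_one, mul_inv_cancel]⟩⟩
  have hVe : Cfsg.IsElementaryAbelian p V :=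
    ⟨⟨⟨fun a b => Subtype.ext (Subgroup.mem_centralizer_iff.1 b.2.1.2 a a.2.1.1)⟩⟩, fun x hx => hx.2⟩
  have hQV : Q ≤ Subgroup.centralizer (V : Set G) := fun r hr =>
    Subgroup.mem_centralizer_iff.2 fun v hv => (Subgroup.mem_centralizer_iff.1 hv.1.2 r hr).symm
  by_cases hV : Subgroup.centralizer (V : Set G) ≤ Q
  · left
    have hJ : ∀ A ∈ maxAb (T : Subgroup G), A ≤ Q := by
      intro A hA
      by_contra hAQ
      refine false_of_offender hfree T Q hQT
        (fun W hW hWp => by haveI := hW; exact CfsgLib.Coprime.le_pCore hWp) K hKp hKT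
        (fun a ha b hb => congrArg Subtype.val (hKc.is_comm.comm (⟨a, ha⟩ : K) ⟨b, hb⟩)) V hVe
        (le_antisymm hV hQV) A hA.1 hA.2.1 hAQ ?_
      refine hA.2.2 _ (sup_le (inf_le_left.trans hA.1) (fun x hx => hQT hx.1.1)) ?_
      rw [Subgroup.sup_eq_closure]
      refine Subgroup.isMulCommutative_closure ?_
      rintro u (hu | hu) v (hv | hv)
      · exact congrArg Subtype.val (hA.2.1.is_comm.comm (⟨u, hu.1⟩ : A) ⟨v, hv.1⟩)
      · exact Subgroup.mem_centralizer_iff.1 hv.1.2 u hu.2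
      · exact (Subgroup.mem_centralizer_iff.1 hu.1.2 v hv.2).symm
      · exact Subgroup.mem_centralizer_iff.1 hv.1.2 u hu.1.1
    have heq : maxAb (T : Subgroup G) = maxAb Q := by
      obtain ⟨A₀, hA₀⟩ := maxAb_nonempty (T : Subgroup G)
      have h := maxAb_inter hA₀ (hJ A₀ hA₀)
      rw [inf_eq_right.2 hQT] at h
      rw [← h]
      ext A
      exact ⟨fun hA => ⟨hA, hJ A hA⟩, fun hA => hA.1⟩
    refine ⟨fun x hx g => ?_⟩
    rw [thompsonSubgroupAOf_eq, heq, ← thompsonSubgroupAOf_eq] at hx ⊢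
    have hmap : conjBy g Q = Q :=
      conjBy_eq_iff.2 (by rw [Subgroup.normalizer_eq_top]; exact Subgroup.mem_top g)
    have h : g * x * g⁻¹ ∈ conjBy g (Cfsg.thompsonSubgroupAOf Q) := conj_mem_conjBy hx
    rwa [conjBy, map_thompsonSubgroupAOf _ (MulEquiv.injective _), ← conjBy, hmap] at h
  · right
    obtain ⟨x, hxV, hxQ⟩ := SetLike.not_le_iff_exists.1 hV
    by_contra hne
    refine hG ?_
    have hTC : (T : Subgroup G) ≤ Subgroup.centralizer (centerOf (T : Subgroup G) : Set G) :=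
      fun t ht => Subgroup.mem_centralizer_iff.2 fun z hz =>
        (Subgroup.mem_centralizer_iff.1 hz.2 t ht).symm
    have hCp := hmax _ hTC hne
    -- the centralizer of `V` is a `p`-group
    haveI hCn : (Subgroup.centralizer (V : Set G)).Normal := inferInstance
    have hZQ : centerOf (T : Subgroup G) ≤ centerOf Q := by
      intro z hz
      have h1 : z ∈ Subgroup.centralizer (Q : Set G) :=
        Subgroup.mem_centralizer_iff.2 fun w hw => Subgroup.mem_centralizer_iff.1 hz.2 w (hQT hw)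
      exact ⟨hc h1, h1⟩
    have hpC : IsPGroup p (Subgroup.centralizer (V : Set G)) := by
      rintro ⟨c, hcV⟩
      obtain ⟨k, hk⟩ := exists_pow_coprime (p := p) c
      refine ⟨k, Subtype.ext (show c ^ p ^ k = 1 from eq_one_of_pGroup_of_coprime hCp ?_ hk)⟩
      refine Subgroup.centralizer_le hZQ (mem_centralizer_of_fix_omega (hQp.to_le inf_le_left)
        (fun a ha b hb => Subgroup.mem_centralizer_iff.1 hb.2 a ha.1) (hnZ _) hk fun z hz hzp => ?_)
      rw [← Subgroup.mem_centralizer_iff.1 (pow_mem hcV (p ^ k)) z ⟨hz, hzp⟩, mul_inv_cancel_right]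
    exact absurd (CfsgLib.Coprime.le_pCore hpC hxV) hxQ

/-- The centre or the Thompson subgroup carries a `p'`-element. -/
theorem exists_center_or_thompsonA (hfree : p ≠ 2 ∨ ¬ Cfsg.Involves (Equiv.Perm (Fin 4)) G)
    (T : Sylow p G) (hc : Subgroup.centralizer (Cfsg.pCore p G : Set G) ≤ Cfsg.pCore p G)
    (hG : ¬ IsPGroup p G) :
    ¬ IsPGroup p (Subgroup.normalizer (Cfsg.thompsonSubgroupAOf (T : Subgroup G) : Set G)) ∨
      ¬ IsPGroup p (Subgroup.centralizer (centerOf (T : Subgroup G) : Set G)) := by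
  obtain ⟨H, ⟨hTH, hH⟩, hmin⟩ := (Set.toFinite
    {H : Subgroup G | (T : Subgroup G) ≤ H ∧ ¬ IsPGroup p H}).exists_minimal
      ⟨⊤, le_top, fun h => hG (h.of_equiv Subgroup.topEquiv)⟩
  let T' : Sylow p H := T.subtype hTH
  have hT' : (T' : Subgroup H).map H.subtype = (T : Subgroup G) :=
    Subgroup.map_subgroupOf_eq_of_le hTH
  have hcH : Subgroup.centralizer (Cfsg.pCore p H : Set H) ≤ Cfsg.pCore p H := by
    haveI := CfsgLib.Coprime.pCore_normal' (G := G) p
    have hQT : Cfsg.pCore p G ≤ H :=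
      ((CfsgLib.Coprime.pCore_isPGroup p).le_sylow_of_normal T).trans hTH
    have hle : (Cfsg.pCore p G).subgroupOf H ≤ Cfsg.pCore p H :=
      CfsgLib.Coprime.le_pCore (((CfsgLib.Coprime.pCore_isPGroup p).of_equiv
        (Subgroup.subgroupOfEquivOfLe hQT).symm))
    intro x hx
    refine hle (show (x : G) ∈ Cfsg.pCore p G from hc (Subgroup.mem_centralizer_iff.2 fun y hy => ?_))
    exact congrArg Subtype.val (Subgroup.mem_centralizer_iff.1 hx ⟨y, hQT hy⟩ (hle hy))
  have hmaxH : ∀ M : Subgroup H, (T' : Subgroup H) ≤ M → M ≠ ⊤ → IsPGroup p M := by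
    intro M hM hne
    by_contra hMp
    have := hmin (show M.map H.subtype ∈ {H : Subgroup G | (T : Subgroup G) ≤ H ∧ ¬ IsPGroup p H}
      from ⟨hT'.ge.trans (Subgroup.map_mono hM), fun h => hMp (h.of_equiv
        (M.equivMapOfInjective H.subtype H.subtype_injective).symm)⟩) (Subgroup.map_subtype_le M)
    refine hne (eq_top_iff.2 fun y _ => ?_)
    obtain ⟨z, hz, hzy⟩ := this y.2
    rwa [← H.subtype_injective hzy]
  rcases thompsonA_normal_or_center_central
    (hfree.imp id fun h h' => h (involves_of_injective H.subtype H.subtype_injective h')) T' hcH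
    hmaxH hH with hn | hz
  · refine Or.inl fun h => hH (h.to_le ?_)
    rw [← hT', ← map_thompsonSubgroupAOf _ H.subtype_injective]
    exact le_trans (by rw [Subgroup.normalizer_eq_top (H := Cfsg.thompsonSubgroupAOf (T' : Subgroup H)),
      ← MonoidHom.range_eq_map, Subgroup.range_subtype]) (Subgroup.le_normalizer_map H.subtype)
  · refine Or.inr fun h => hH (h.to_le fun x hx => ?_)
    rw [← hT', ← map_centerOf _ H.subtype_injective, Subgroup.mem_centralizer_iff]
    rintro _ ⟨z, hz', rfl⟩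
    exact congrArg Subtype.val (Subgroup.mem_centralizer_iff.1
      (hz.ge (Subgroup.mem_top (⟨x, hx⟩ : H))) z hz')

end CfsgLib.Fusion
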