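import Cfsg.Agent.Lib.Fusion.OffenderFree
import Cfsg.Agent.Lib.Fusion.ThompsonComplement
import Cfsg.Agent.Lib.Fusion.Sylow

/-!
# Sections `S₄` seen on a four-group section with two automorphisms

`G` involves `S₄` exactly when some `2`-section `U/Q` of order four has two automorphisms induced
from `N(U) ∩ N(Q)` acting as two noncommuting involutions.
-/

set_option autoImplicit false
set_option linter.style.haveILetI false

open Subgroup

namespace CfsgLib.Fusion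

/-- `a` and `b` act on `U/Q` as two involutions whose product has order three. -/
structure FourCond {G : Type*} [Group G] (Q U : Subgroup G) (a b : G → G) : Prop where
  sq_a : ∀ u ∈ U, a (a u) * u⁻¹ ∈ Q
  sq_b : ∀ u ∈ U, b (b u) * u⁻¹ ∈ Q
  cube : ∀ u ∈ U, a (b (a (b (a (b u))))) * u⁻¹ ∈ Q
  free : ∀ u ∈ U, a (b u) * u⁻¹ ∈ Q → u ∈ Q
  ne : ∃ u ∈ U, a u * u⁻¹ ∉ Q

section transport

variable {G H : Type*} [Group G] [Group H] {Q U : Subgroup G} {Q' U' : Subgroup H}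
  {a b : G → G} {a' b' : H → H} (θ : G → H)

theorem fourCond_iff (hU' : ∀ y, y ∈ U' ↔ ∃ x ∈ U, θ x = y)
    (hQ : ∀ x ∈ U, x ∈ Q ↔ θ x ∈ Q')
    (hmul : ∀ x ∈ U, ∀ y ∈ U, θ (x * y) = θ x * θ y)
    (ha : ∀ x ∈ U, a x ∈ U) (hb : ∀ x ∈ U, b x ∈ U)
    (ha' : ∀ x ∈ U, a' (θ x) = θ (a x)) (hb' : ∀ x ∈ U, b' (θ x) = θ (b x)) :
    FourCond Q U a b ↔ FourCond Q' U' a' b' := by
  have hinv : ∀ x ∈ U, θ x⁻¹ = (θ x)⁻¹ := by
    intro x hx
    have h1 : θ 1 = 1 := by
      have h := hmul 1 (one_mem U) 1 (one_mem U)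
      rw [one_mul, left_eq_mul] at h
      exact h
    refine eq_inv_of_mul_eq_one_left ?_
    rw [← hmul _ (inv_mem hx) x hx, inv_mul_cancel, h1]
  have key : ∀ x ∈ U, ∀ y ∈ U, y * x⁻¹ ∈ Q ↔ θ y * (θ x)⁻¹ ∈ Q' := fun x hx y hy => by
    rw [hQ _ (mul_mem hy (inv_mem hx)), hmul y hy _ (inv_mem hx), hinv x hx]
  have hbb : ∀ x ∈ U, a' (b' (θ x)) = θ (a (b x)) := fun x hx => by
    rw [hb' x hx, ha' _ (hb x hx)]
  have h3 : ∀ x ∈ U, a' (b' (a' (b' (a' (b' (θ x)))))) = θ (a (b (a (b (a (b x)))))) := fun x hx => by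
    rw [hbb x hx, hbb _ (ha _ (hb x hx)), hbb _ (ha _ (hb _ (ha _ (hb x hx))))]
  constructor
  · intro h
    refine ⟨fun y hy => ?_, fun y hy => ?_, fun y hy => ?_, fun y hy hy' => ?_, ?_⟩
    · obtain ⟨x, hx, rfl⟩ := (hU' y).1 hy
      rw [ha' x hx, ha' _ (ha x hx), ← key x hx _ (ha _ (ha x hx))]
      exact h.sq_a x hx
    · obtain ⟨x, hx, rfl⟩ := (hU' y).1 hy
      rw [hb' x hx, hb' _ (hb x hx), ← key x hx _ (hb _ (hb x hx))]
      exact h.sq_b x hx
    · obtain ⟨x, hx, rfl⟩ := (hU' y).1 hy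
      rw [h3 x hx, ← key x hx _ (ha _ (hb _ (ha _ (hb _ (ha _ (hb x hx))))))]
      exact h.cube x hx
    · obtain ⟨x, hx, rfl⟩ := (hU' y).1 hy
      rw [hbb x hx, ← key x hx _ (ha _ (hb x hx))] at hy'
      exact (hQ x hx).1 (h.free x hx hy')
    · obtain ⟨x, hx, hne⟩ := h.ne
      refine ⟨θ x, (hU' _).2 ⟨x, hx, rfl⟩, ?_⟩
      rwa [ha' x hx, ← key x hx _ (ha x hx)]
  · intro h
    have mem : ∀ x ∈ U, θ x ∈ U' := fun x hx => (hU' _).2 ⟨x, hx, rfl⟩
    refine ⟨fun x hx => ?_, fun x hx => ?_, fun x hx => ?_, fun x hx hx' => ?_, ?_⟩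
    · rw [key x hx _ (ha _ (ha x hx)), ← ha' _ (ha x hx), ← ha' x hx]
      exact h.sq_a _ (mem x hx)
    · rw [key x hx _ (hb _ (hb x hx)), ← hb' _ (hb x hx), ← hb' x hx]
      exact h.sq_b _ (mem x hx)
    · rw [key x hx _ (ha _ (hb _ (ha _ (hb _ (ha _ (hb x hx)))))), ← h3 x hx]
      exact h.cube _ (mem x hx)
    · rw [key x hx _ (ha _ (hb x hx)), ← hbb x hx] at hx'
      exact (hQ x hx).2 (h.free _ (mem x hx) hx')
    · obtain ⟨y, hy, hne⟩ := h.ne
      obtain ⟨x, hx, rfl⟩ := (hU' y).1 hy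
      exact ⟨x, hx, by rwa [key x hx _ (ha x hx), ← ha' x hx]⟩

end transport

variable {G : Type*} [Group G] [Finite G]

/-- A four-section with such automorphisms gives a section `S₄`. -/
theorem involves_of_fourCond (Q U : Subgroup G) (g h : G) (hQU : Q ≤ U)
    (hUQ : U ≤ Subgroup.normalizer (Q : Set G)) (h4 : Q.relIndex U = 4)
    (hgQ : g ∈ Subgroup.normalizer (Q : Set G)) (hgU : g ∈ Subgroup.normalizer (U : Set G))
    (hhQ : h ∈ Subgroup.normalizer (Q : Set G)) (hhU : h ∈ Subgroup.normalizer (U : Set G))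
    (hc : FourCond Q U (fun x => g * x * g⁻¹) (fun x => h * x * h⁻¹)) :
    Cfsg.Involves (Equiv.Perm (Fin 4)) G := by
  set H := Subgroup.normalizer (Q : Set G) with hH
  refine involves_of_injective H.subtype H.subtype_injective ?_
  haveI hQn : (Q.subgroupOf H).Normal := Subgroup.normal_in_normalizer
  set π := QuotientGroup.mk' (Q.subgroupOf H) with hπ
  refine involves_of_surjective π (QuotientGroup.mk'_surjective _) ?_
  have hone : ∀ x : H, π x = 1 ↔ (x : G) ∈ Q := fun x => QuotientGroup.eq_one_iff x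
  set V := (U.subgroupOf H).map π with hV
  have hcard : Nat.card V = 4 := by
    rw [hV, ← Subgroup.relIndex_ker, QuotientGroup.ker_mk', Subgroup.relIndex_subgroupOf hUQ, h4]
  have hmem : ∀ (k : G) (hk : k ∈ H), k ∈ Subgroup.normalizer (U : Set G) →
      π ⟨k, hk⟩ ∈ Subgroup.normalizer (V : Set (H ⧸ Q.subgroupOf H)) := by
    intro k hk hkU
    refine Subgroup.le_normalizer_map π (Subgroup.mem_map_of_mem π ?_)
    refine Subgroup.mem_normalizer_iff.2 fun x => ?_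
    rw [Subgroup.mem_subgroupOf, Subgroup.mem_subgroupOf]
    exact Subgroup.mem_normalizer_iff.1 hkU x
  have hUH : ∀ u ∈ U, u ∈ H := fun u hu => hUQ hu
  refine involves_perm_four V (π ⟨g, hgQ⟩) (π ⟨h, hhQ⟩) hcard (hmem g hgQ hgU) (hmem h hhQ hhU)
    ?_ ?_ ?_ ?_ ?_ ?_
  · haveI := Fact.mk Nat.prime_two
    intro u hu v hv
    exact congrArg Subtype.val
      (IsPGroup.commutative_of_card_eq_prime_sq (p := 2) (by rw [hcard]; norm_num)
        (⟨u, hu⟩ : V) ⟨v, hv⟩)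
  · rintro _ ⟨⟨u, huH⟩, hu, rfl⟩
    rw [← map_mul, ← map_mul, ← map_inv, ← map_mul, ← mul_inv_eq_one, ← map_inv, ← map_mul, hone]
    convert hc.sq_a u hu using 1
    simp only [Subgroup.coe_mul, Subgroup.coe_inv]
    group
  · rintro _ ⟨⟨u, huH⟩, hu, rfl⟩
    rw [← map_mul, ← map_mul, ← map_inv, ← map_mul, ← mul_inv_eq_one, ← map_inv, ← map_mul, hone]
    convert hc.sq_b u hu using 1
    simp only [Subgroup.coe_mul, Subgroup.coe_inv]
    group
  · rintro _ ⟨⟨u, huH⟩, hu, rfl⟩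
    rw [← map_mul, ← map_pow, ← map_mul, ← map_inv, ← map_mul, ← mul_inv_eq_one, ← map_inv, ← map_mul,
      hone]
    convert hc.cube u hu using 1
    simp only [Subgroup.coe_mul, Subgroup.coe_inv, pow_three]
    group
  · rintro _ ⟨⟨u, huH⟩, hu, rfl⟩ hfix
    rw [← map_mul, ← map_mul, ← map_inv, ← map_mul, ← mul_inv_eq_one, ← map_inv, ← map_mul, hone] at hfix
    refine (hone _).2 (hc.free u hu ?_)
    convert hfix using 1
    simp only [Subgroup.coe_mul, Subgroup.coe_inv]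
    group
  · obtain ⟨u, hu, hne⟩ := hc.ne
    refine ⟨π ⟨u, hUH u hu⟩, Subgroup.mem_map_of_mem π (Subgroup.mem_subgroupOf.2 hu), fun he => hne ?_⟩
    rw [← map_mul, ← map_inv, ← map_mul, ← mul_inv_eq_one, ← map_inv, ← map_mul, hone] at he
    exact he

/-- The four-group in `S₄`. -/
def kleinFour : Subgroup (Equiv.Perm (Fin 4)) where
  carrier := {x | x = 1 ∨ x = Equiv.swap 0 1 * Equiv.swap 2 3 ∨ x = Equiv.swap 0 2 * Equiv.swap 1 3 ∨
    x = Equiv.swap 0 3 * Equiv.swap 1 2}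
  one_mem' := Or.inl rfl
  mul_mem' := by
    intro a b ha hb
    rcases ha with rfl | rfl | rfl | rfl <;> rcases hb with rfl | rfl | rfl | rfl <;>
      simp only [Set.mem_setOf_eq] <;> decide
  inv_mem' := by
    intro a ha
    rcases ha with rfl | rfl | rfl | rfl <;> simp only [Set.mem_setOf_eq] <;> decide

instance : DecidablePred (· ∈ kleinFour) := fun x =>
  inferInstanceAs (Decidable (x = 1 ∨ _ ∨ _ ∨ _))

theorem card_kleinFour : Nat.card kleinFour = 4 := by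
  rw [Nat.card_eq_fintype_card]
  decide

theorem kleinFour_normal : kleinFour.Normal := ⟨by
  intro x hx g
  revert g
  rcases hx with rfl | rfl | rfl | rfl <;> decide⟩

theorem fourCond_kleinFour : FourCond ⊥ kleinFour
    (fun x => Equiv.swap (0 : Fin 4) 1 * x * (Equiv.swap (0 : Fin 4) 1)⁻¹)
    (fun x => Equiv.swap (1 : Fin 4) 2 * x * (Equiv.swap (1 : Fin 4) 2)⁻¹) where
  sq_a := fun u hu => by rcases hu with rfl | rfl | rfl | rfl <;> rw [Subgroup.mem_bot] <;> decide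
  sq_b := fun u hu => by rcases hu with rfl | rfl | rfl | rfl <;> rw [Subgroup.mem_bot] <;> decide
  cube := fun u hu => by rcases hu with rfl | rfl | rfl | rfl <;> rw [Subgroup.mem_bot] <;> decide
  free := fun u hu => by
    rcases hu with rfl | rfl | rfl | rfl <;> simp only [Subgroup.mem_bot] <;> decide
  ne := ⟨Equiv.swap 0 2 * Equiv.swap 1 3, Or.inr (Or.inr (Or.inl rfl)), by
    rw [Subgroup.mem_bot]; decide⟩

/-- A group involving `S₄` has such a section inside any given Sylow `2`-subgroup. -/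
theorem exists_fourCond_of_involves (T : Sylow 2 G) (h : Cfsg.Involves (Equiv.Perm (Fin 4)) G) :
    ∃ (Q U : Subgroup G) (g k : G), U ≤ (T : Subgroup G) ∧ Q ≤ U ∧
      U ≤ Subgroup.normalizer (Q : Set G) ∧ Q.relIndex U = 4 ∧
      g ∈ Subgroup.normalizer (Q : Set G) ∧ g ∈ Subgroup.normalizer (U : Set G) ∧
      k ∈ Subgroup.normalizer (Q : Set G) ∧ k ∈ Subgroup.normalizer (U : Set G) ∧
      FourCond Q U (fun x => g * x * g⁻¹) (fun x => k * x * k⁻¹) := by
  classical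
  haveI := Fact.mk Nat.prime_two
  obtain ⟨K, R, hn, ⟨e⟩⟩ := h
  let ψ : K →* Equiv.Perm (Fin 4) := e.toMonoidHom.comp (QuotientGroup.mk' (R.subgroupOf K))
  have hψs : Function.Surjective ψ := e.surjective.comp (QuotientGroup.mk'_surjective _)
  have hker : ∀ x : K, ψ x = 1 ↔ (x : G) ∈ R := fun x => by
    rw [← Subgroup.mem_subgroupOf, ← QuotientGroup.eq_one_iff]
    exact e.map_eq_one_iff
  haveI := kleinFour_normal
  set W := kleinFour.comap ψ with hW
  let P : Sylow 2 W := default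
  let P' : Subgroup K := (P : Subgroup W).map W.subtype
  -- `P` maps onto the four-group
  let ψW : W →* kleinFour := (ψ.comp W.subtype).codRestrict kleinFour fun w => w.2
  have hψW : Function.Surjective ψW := fun ⟨d, hd⟩ => by
    obtain ⟨x, rfl⟩ := hψs d
    exact ⟨⟨x, hd⟩, rfl⟩
  have htop : (P.mapSurjective hψW : Subgroup kleinFour) = ⊤ := by
    refine ((P.mapSurjective hψW).is_maximal' ?_ le_top).symm
    exact (IsPGroup.of_card (n := 2) (by rw [card_kleinFour]; norm_num)).to_subgroup ⊤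
  have himg : P'.map ψ = kleinFour := by
    apply le_antisymm
    · rintro _ ⟨_, ⟨w, -, rfl⟩, rfl⟩
      exact w.2
    · intro d hd
      obtain ⟨w, hw, hwd⟩ := (htop.ge (Subgroup.mem_top (⟨d, hd⟩ : kleinFour)) :
        (⟨d, hd⟩ : kleinFour) ∈ (P.mapSurjective hψW : Subgroup kleinFour))
      exact ⟨_, ⟨w, hw, rfl⟩, congrArg Subtype.val hwd⟩
  set N := Subgroup.normalizer (P' : Set K) with hN
  have hsup : N ⊔ W = ⊤ := Sylow.normalizer_sup_eq_top P
  have hfull : ∀ d, ∃ n ∈ N, ψ n = d := by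
    intro d
    obtain ⟨x, rfl⟩ := hψs d
    obtain ⟨n, hn', w, hw, rfl⟩ :=
      Subgroup.mem_sup_of_normal_right.1 (hsup.ge (Subgroup.mem_top x))
    obtain ⟨π, hπ, hπe⟩ := himg.ge hw
    exact ⟨n * π, mul_mem hn' (Subgroup.le_normalizer hπ), by rw [map_mul, map_mul, hπe]⟩
  obtain ⟨a, haN, haψ⟩ := hfull (Equiv.swap 0 1)
  obtain ⟨b, hbN, hbψ⟩ := hfull (Equiv.swap 1 2)
  set U := P'.map K.subtype with hU
  set Q := R ⊓ U with hQ
  have hUK : U ≤ K := Subgroup.map_subtype_le _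
  have hNU : ∀ n ∈ N, (n : G) ∈ Subgroup.normalizer (U : Set G) := fun n hn' =>
    Subgroup.le_normalizer_map K.subtype (Subgroup.mem_map_of_mem K.subtype hn')
  have hKQ : ∀ n : K, (n : G) ∈ Subgroup.normalizer (U : Set G) →
      (n : G) ∈ Subgroup.normalizer (Q : Set G) := by
    intro n hn'
    refine conjBy_eq_iff.1 (conjBy_eq_of_le (conjBy_le_iff.2 fun x hx => ⟨?_, ?_⟩))
    · exact hn.conj_mem ⟨x, hUK hx.2⟩ hx.1 n
    · exact (Subgroup.mem_normalizer_iff.1 hn' x).1 hx.2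
  have h4 : Q.relIndex U = 4 := by
    rw [hQ, Subgroup.inf_relIndex_right, hU, ← Subgroup.relIndex_comap,
      show R.comap K.subtype = ψ.ker from Subgroup.ext fun x => (hker x).symm, Subgroup.relIndex_ker,
      himg, card_kleinFour]
  have hUP : IsPGroup 2 U := (P.2.map W.subtype).map K.subtype
  let θ : G → Equiv.Perm (Fin 4) := fun x => if hx : x ∈ K then ψ ⟨x, hx⟩ else 1
  have hθ : ∀ x : K, θ x = ψ x := fun x => dif_pos x.2
  have hc : FourCond Q U (fun x => (a : G) * x * (a : G)⁻¹) (fun x => (b : G) * x * (b : G)⁻¹) := by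
    refine (fourCond_iff θ (U' := kleinFour) (Q' := ⊥) (fun y => ?_) (fun x hx => ?_)
      (fun x hx y hy => ?_) (fun x hx => (Subgroup.mem_normalizer_iff.1 (hNU a haN) x).1 hx)
      (fun x hx => (Subgroup.mem_normalizer_iff.1 (hNU b hbN) x).1 hx) (fun x hx => ?_)
      (fun x hx => ?_)).2 fourCond_kleinFour
    · rw [← himg]
      constructor
      · rintro ⟨z, hz, rfl⟩
        exact ⟨z, ⟨z, hz, rfl⟩, hθ z⟩
      · rintro ⟨_, ⟨z, hz, rfl⟩, rfl⟩
        exact ⟨z, hz, (hθ z).symm⟩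
    · rw [Subgroup.mem_bot, hθ ⟨x, hUK hx⟩, hker]
      exact ⟨fun h' => h'.1, fun h' => ⟨h', hx⟩⟩
    · rw [hθ ⟨x, hUK hx⟩, hθ ⟨y, hUK hy⟩, ← map_mul, ← hθ]
      rfl
    · rw [hθ ⟨x, hUK hx⟩, ← haψ, ← map_inv, ← map_mul, ← map_mul, ← hθ]
      rfl
    · rw [hθ ⟨x, hUK hx⟩, ← hbψ, ← map_inv, ← map_mul, ← map_mul, ← hθ]
      rfl
  -- conjugate into `T`
  obtain ⟨c, hcT⟩ : ∃ c : G, conjBy c U ≤ (T : Subgroup G) := by
    obtain ⟨T₀, hT₀⟩ := hUP.exists_le_sylow
    obtain ⟨c, hc'⟩ := MulAction.exists_smul_eq G T₀ T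
    exact ⟨c, by rw [← hc', Sylow.coe_subgroup_smul]; exact Subgroup.map_mono hT₀⟩
  have hnorm : ∀ {n : G} {X : Subgroup G}, n ∈ Subgroup.normalizer (X : Set G) →
      c * n * c⁻¹ ∈ Subgroup.normalizer (conjBy c X : Set G) := fun {n X} hn' => by
    rw [← conjBy_normalizer]
    exact conj_mem_conjBy hn'
  refine ⟨conjBy c Q, conjBy c U, c * a * c⁻¹, c * b * c⁻¹, hcT, conjBy_mono inf_le_right, ?_, ?_,
    hnorm (hKQ a (hNU a haN)), hnorm (hNU a haN), hnorm (hKQ b (hNU b hbN)), hnorm (hNU b hbN), ?_⟩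
  · rw [← conjBy_normalizer]
    exact conjBy_mono fun x hx => hKQ ⟨x, hUK hx⟩ (Subgroup.le_normalizer hx)
  · rw [conjBy, conjBy, Subgroup.relIndex_map_map_of_injective _ _ (MulEquiv.injective _), h4]
  · refine (fourCond_iff (fun x => c * x * c⁻¹) (fun y => ?_) (fun x _ => ?_) (fun x _ y _ => ?_)
      (fun x hx => (Subgroup.mem_normalizer_iff.1 (hNU a haN) x).1 hx)
      (fun x hx => (Subgroup.mem_normalizer_iff.1 (hNU b hbN) x).1 hx)
      (fun x _ => by group) (fun x _ => by group)).1 hc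
    · constructor
      · intro hy
        exact ⟨c⁻¹ * y * c, mem_conjBy.1 hy, by group⟩
      · rintro ⟨x, hx, rfl⟩
        exact conj_mem_conjBy hx
    · rw [mem_conjBy, show c⁻¹ * (c * x * c⁻¹) * c = x by group]
    · group

end CfsgLib.Fusion
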