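import Cfsg.Agent.Lib.Fusion.StableClosureBasic
import Cfsg.Agent.Lib.Fusion.Thompson
import Cfsg.Agent.Lib.Fusion.ThompsonComplement
import Cfsg.Agent.Lib.Coprime.Solvable

/-!
# The module generated by the `Ω₁` of the centres of the Sylow subgroups, and Thompson factorization
-/

set_option autoImplicit false
set_option linter.style.haveILetI false
set_option linter.unusedSectionVars false

open Subgroup

namespace CfsgLib.Fusion

universe u

variable {G : Type u} [Group G] [Finite G] {p : ℕ} [hpf : Fact p.Prime]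

/-- `Ω₁(Z(S))`. -/
abbrev sylowZ (p : ℕ) (S : Subgroup G) : Subgroup G :=
  Cfsg.omegaOne p (S ⊓ centralizer (S : Set G))

theorem sylowZ_le (S : Subgroup G) : sylowZ p S ≤ S ⊓ centralizer (S : Set G) :=
  (closure_le _).2 fun _ hx => hx.1

theorem isPGroup_of_mem_forall {A : Subgroup G} (h : ∀ a ∈ A, a ^ p = 1) : IsPGroup p A :=
  fun a => ⟨1, Subtype.ext (by rw [pow_one]; exact h a a.2)⟩

/-- An extension of the kernel by a normal `p`-group inside centralizes what Sylow subgroups fix. -/
theorem eq_centralizer_of_generated (V : Subgroup G) [V.Normal] (W : Sylow p G → Subgroup G)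
    (hW : ∀ S, W S ≤ centralizer ((S : Subgroup G) : Set G)) (hV : V = ⨆ S, W S)
    (D : Subgroup G) [hD : D.Normal] (hle : centralizer (V : Set G) ≤ D)
    (hk : ∃ k : ℕ, (centralizer (V : Set G)).relIndex D = p ^ k) : D = centralizer (V : Set G) := by
  refine le_antisymm ?_ hle
  set C := centralizer (V : Set G) with hC
  set π := QuotientGroup.mk' C
  obtain ⟨k, hk⟩ := hk
  have hDp : IsPGroup p (D.map π) := by
    refine IsPGroup.of_card (n := k) ?_
    have h1 := relIndex_map_map π (⊥ : Subgroup G) D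
    rw [Subgroup.map_bot, relIndex_bot_left, bot_sup_eq, QuotientGroup.ker_mk', sup_eq_left.2 hle,
      hk] at h1
    exact h1
  haveI : (D.map π).Normal := hD.map π (QuotientGroup.mk'_surjective C)
  intro d hd
  refine mem_centralizer_iff.2 fun v hv => ?_
  have h2 : V ≤ centralizer ({d} : Set G) := by
    rw [hV]
    refine iSup_le fun S w hw => mem_centralizer_singleton_iff.2 ?_
    have h3 : π d ∈ ((S : Subgroup G).map π) := by
      have h4 := (CfsgLib.Coprime.le_pCore hDp).trans (CfsgLib.Coprime.pCore_le_sylow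
        (S.mapSurjective (QuotientGroup.mk'_surjective C))) (mem_map_of_mem π hd)
      rwa [Sylow.coe_mapSurjective] at h4
    obtain ⟨s, hs, hsd⟩ := h3
    have hsd' : s⁻¹ * d ∈ C := (QuotientGroup.eq).1 hsd
    have h5 : w * (s⁻¹ * d) = s⁻¹ * d * w :=
      mem_centralizer_iff.1 hsd' w (hV ▸ le_iSup W S hw)
    have h6 : s * w = w * s := mem_centralizer_iff.1 (hW S hw) s hs
    calc w * d = (s * w) * s⁻¹ * d := by rw [h6]; group
      _ = s * (w * (s⁻¹ * d)) := by group
      _ = d * w := by rw [h5]; group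
  exact mem_centralizer_singleton_iff.1 (h2 hv)

theorem conj_sylowZ (g : G) (S : Sylow p G) :
    (sylowZ p (S : Subgroup G)).map (MulAut.conj g).toMonoidHom = sylowZ p ((g • S : Sylow p G) : Subgroup G) := by
  rw [omega_map_eq _ (MulAut.conj g).injective, inf_centralizer_map_eq _ (MulAut.conj g).injective]
  rfl

theorem sylowModule_normal : (⨆ S : Sylow p G, sylowZ p (S : Subgroup G)).Normal := by
  refine ⟨fun x hx g => ?_⟩
  have h1 := mem_map_of_mem (MulAut.conj g).toMonoidHom hx
  rw [Subgroup.map_iSup] at h1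
  refine (iSup_le fun S => ?_ : ⨆ S : Sylow p G, (sylowZ p (S : Subgroup G)).map
    (MulAut.conj g).toMonoidHom ≤ ⨆ S : Sylow p G, sylowZ p (S : Subgroup G)) h1
  rw [conj_sylowZ]
  exact le_iSup (fun S : Sylow p G => sylowZ p (S : Subgroup G)) _

/-- In characteristic `p`, the module is elementary abelian. -/
theorem sylowModule_elementary
    (hc : centralizer (Cfsg.pCore p G : Set G) ≤ Cfsg.pCore p G) :
    Cfsg.IsElementaryAbelian p (⨆ S : Sylow p G, sylowZ p (S : Subgroup G)) := by
  set Q := Cfsg.pCore p G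
  set Z := Q ⊓ centralizer (Q : Set G)
  let E : Subgroup G :=
    { carrier := {x | x ∈ Z ∧ x ^ p = 1}
      one_mem' := ⟨one_mem _, one_pow p⟩
      mul_mem' := fun {a b} ha hb => ⟨mul_mem ha.1 hb.1, by
        rw [(show Commute a b from mem_centralizer_iff.1 hb.1.2 a ha.1.1).mul_pow, ha.2, hb.2, mul_one]⟩
      inv_mem' := fun {a} ha => ⟨inv_mem ha.1, by rw [inv_pow, ha.2, inv_one]⟩ }
  have hle : ⨆ S : Sylow p G, sylowZ p (S : Subgroup G) ≤ E := iSup_le fun S =>
    (closure_le _).2 fun z hz => by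
      have hzC : z ∈ centralizer (Q : Set G) :=
        centralizer_le (CfsgLib.Coprime.pCore_le_sylow S) hz.1.2
      exact ⟨⟨hc hzC, hzC⟩, hz.2⟩
  refine ⟨isMulCommutative_iff.2 fun a b => Subtype.ext ?_, fun a ha => (hle ha).2⟩
  exact mem_centralizer_iff.1 (hle b.2).1.2 a (hle a.2).1.1

theorem thompsonSubgroupOf_le_whole (S : Sylow p G) :
    Cfsg.thompsonSubgroupOf p (S : Subgroup G) ≤ Cfsg.thompsonSubgroup p G := by
  rw [thompsonSubgroupOf_eq]
  refine sSup_le fun A hA => le_sSup ⟨hA.2.1, fun B hB => ?_⟩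
  obtain ⟨T, hT⟩ := (isPGroup_of_mem_forall hB.2).exists_le_sylow
  obtain ⟨g, hg⟩ := MulAction.exists_smul_eq G T S
  have h1 : B.map (MulAut.conj g).toMonoidHom ≤ (S : Subgroup G) := by
    rw [← hg]
    exact map_mono hT
  exact (card_map_of_injective (f := (MulAut.conj g).toMonoidHom) (MulAut.conj g).injective).ge.trans
    (hA.2.2 _ h1 (isElementaryAbelian_map _ hB))

theorem thompsonSubgroup_le_iSup :
    Cfsg.thompsonSubgroup p G ≤ ⨆ S : Sylow p G, Cfsg.thompsonSubgroupOf p (S : Subgroup G) := by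
  refine sSup_le fun A hA => ?_
  obtain ⟨T, hT⟩ := (isPGroup_of_mem_forall hA.1.2).exists_le_sylow
  exact (le_thompsonSubgroupOf ⟨hT, hA.1, fun B _ hB => hA.2 B hB⟩).trans
    (le_iSup (fun S : Sylow p G => Cfsg.thompsonSubgroupOf p (S : Subgroup G)) T)

/-- Thompson factorizability when the `p'`-core is trivial. -/
theorem thompsonFactorizable_iff (hO : Cfsg.pPrimeCore p G = ⊥) :
    Cfsg.IsThompsonFactorizable p G ↔ Cfsg.thompsonSubgroup p G ≤
      centralizer ((⨆ S : Sylow p G, sylowZ p (S : Subgroup G) : Subgroup G) : Set G) := by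
  constructor
  · intro h
    refine thompsonSubgroup_le_iSup.trans (iSup_le fun S => le_centralizer_iff.1 (iSup_le fun T => ?_))
    obtain ⟨g, rfl⟩ := MulAction.exists_smul_eq G S T
    obtain ⟨x, hx, c, hc, n, hn, he⟩ := h S g⁻¹
    rw [hO, mem_bot] at hx
    rw [hx, one_mul] at he
    have hg : g = n⁻¹ * c⁻¹ := by rw [← mul_inv_rev, ← he, inv_inv]
    rw [← conj_sylowZ]
    rintro _ ⟨z, hz, rfl⟩
    refine mem_centralizer_iff.2 fun j hj => ?_
    have hz' : c⁻¹ * z * c = z := by
      rw [mul_assoc, mem_centralizer_iff.1 hc z hz, inv_mul_cancel_left]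
    have e : (MulAut.conj g).toMonoidHom z = n⁻¹ * z * n := by
      show g * z * g⁻¹ = _
      calc g * z * g⁻¹ = n⁻¹ * (c⁻¹ * z * c) * n := by rw [hg]; group
        _ = n⁻¹ * z * n := by rw [hz']
    rw [e]
    have hjS : n * j * n⁻¹ ∈ Cfsg.thompsonSubgroupOf p (S : Subgroup G) :=
      (mem_normalizer_iff.1 hn j).1 hj
    have h1 : (n * j * n⁻¹) * z = z * (n * j * n⁻¹) :=
      mem_centralizer_iff.1 (sylowZ_le _ hz).2 _ (thompsonSubgroupOf_le _ hjS)
    calc j * (n⁻¹ * z * n) = n⁻¹ * ((n * j * n⁻¹) * z) * n := by group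
      _ = n⁻¹ * z * n * j := by rw [h1]; group
  · intro h S g
    haveI := sylowModule_normal (p := p) (G := G)
    set V := ⨆ S : Sylow p G, sylowZ p (S : Subgroup G) with hV
    set C := centralizer (V : Set G) with hC
    haveI : C.Normal := normal_centralizer
    have hJC : Cfsg.thompsonSubgroupOf p (S : Subgroup G) ≤ C := (thompsonSubgroupOf_le_whole S).trans h
    set T := (S : Subgroup G) ⊓ C with hT
    have hTJ : Cfsg.thompsonSubgroupOf p T = Cfsg.thompsonSubgroupOf p (S : Subgroup G) := by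
      rw [thompsonSubgroupOf_eq, thompsonSubgroupOf_eq]
      refine congrArg sSup (Set.ext fun A => ⟨fun hA => ?_, fun hA => ?_⟩)
      · obtain ⟨A₀, h₀⟩ := exists_isMaxEA p (S : Subgroup G)
        exact ⟨hA.1.trans inf_le_left, hA.2.1, fun B hB hBe => (h₀.2.2 B hB hBe).trans
          (hA.2.2 A₀ (le_inf h₀.1 ((le_thompsonSubgroupOf h₀).trans hJC)) h₀.2.1)⟩
      · exact ⟨le_inf hA.1 ((le_thompsonSubgroupOf hA).trans hJC), hA.2.1,
          fun B hB hBe => hA.2.2 B (hB.trans inf_le_left) hBe⟩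
    obtain ⟨Q, hQ⟩ : ∃ Q : Sylow p C, ((Q : Subgroup C).map C.subtype) = T := by
      have hTC : T ≤ C := inf_le_right
      obtain ⟨Q, hQ⟩ := ((S.2.to_le (inf_le_left : T ≤ (S : Subgroup G))).of_equiv
        (subgroupOfEquivOfLe hTC).symm).exists_le_sylow
      obtain ⟨S', hS'⟩ := (Q.2.map C.subtype).exists_le_sylow
      obtain ⟨a, ha⟩ := MulAction.exists_smul_eq G S' S
      refine ⟨Q, (eq_of_le_of_card_ge ?_ ?_).symm⟩
      · rw [← map_subgroupOf_eq_of_le hTC]
        exact map_mono hQ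
      · rw [← card_map_of_injective (f := (MulAut.conj a).toMonoidHom) (MulAut.conj a).injective]
        refine card_le_of_le (le_inf ?_ ?_)
        · rw [← ha]
          exact map_mono hS'
        · rintro _ ⟨x, ⟨y, -, rfl⟩, rfl⟩
          exact Subgroup.Normal.conj_mem inferInstance (y : G) y.2 a
    have htop := Sylow.normalizer_sup_eq_top (N := C) Q
    rw [hQ] at htop
    have hgm : g ∈ C ⊔ normalizer (T : Set G) := by rw [sup_comm, htop]; exact mem_top g
    obtain ⟨c, hc, n, hn, rfl⟩ := mem_sup_of_normal_left.1 hgm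
    refine ⟨1, one_mem _, c, centralizer_le (le_iSup (fun S : Sylow p G => sylowZ p (S : Subgroup G)) S) hc,
      n, ?_, by rw [one_mul]⟩
    rw [← hTJ]
    exact normalizer_le_normalizer_thompsonSubgroupOf _ hn

/-- Thompson factorizability is detected modulo the `p'`-core. -/
theorem thompsonFactorizable_quotient_iff :
    Cfsg.IsThompsonFactorizable p G ↔ Cfsg.IsThompsonFactorizable p (G ⧸ Cfsg.pPrimeCore p G) := by
  set K := Cfsg.pPrimeCore p G with hK
  set π := QuotientGroup.mk' K with hπ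
  have hπs : Function.Surjective π := QuotientGroup.mk'_surjective K
  have hKc : ¬ p ∣ Nat.card K := CfsgLib.Coprime.pPrimeCore_not_dvd Fact.out
  have hbot : Cfsg.pPrimeCore p (G ⧸ K) = ⊥ :=
    CfsgLib.Coprime.pPrimeCore_quotient_eq_bot (Fact.out : p.Prime)
  have hinj : ∀ S : Sylow p G, ∀ x ∈ (S : Subgroup G), π x = 1 → x = 1 := fun S x hx h =>
    eq_one_of_pGroup_of_coprime S.2 hx ((not_dvd_card_iff_forall_coprime_orderOf K).1 hKc x
      ((QuotientGroup.eq_one_iff x).1 h))
  have hcor : ∀ S : Sylow p G,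
      centralizer (sylowZ p ((S.mapSurjective hπs : Sylow p (G ⧸ K)) : Subgroup (G ⧸ K)) : Set (G ⧸ K)) =
        (centralizer (sylowZ p (S : Subgroup G) : Set G)).map π ∧
      normalizer (Cfsg.thompsonSubgroupOf p ((S.mapSurjective hπs : Sylow p (G ⧸ K)) : Subgroup (G ⧸ K)) :
          Set (G ⧸ K)) =
        (normalizer (Cfsg.thompsonSubgroupOf p (S : Subgroup G) : Set G)).map π := by
    intro S
    rw [Sylow.coe_mapSurjective]
    have hi : Function.Injective (π.comp (S : Subgroup G).subtype) :=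
      (injective_iff_map_eq_one _).2 fun x hx => Subtype.ext (hinj S x x.2 hx)
    have hZ : sylowZ p ((S : Subgroup G).map π) = (sylowZ p (S : Subgroup G)).map π := by
      have htop : ((⊤ : Subgroup (S : Subgroup G))).map (S : Subgroup G).subtype = (S : Subgroup G) := by
        rw [← MonoidHom.range_eq_map, range_subtype]
      have h1 : ((⊤ : Subgroup (S : Subgroup G))).map (π.comp (S : Subgroup G).subtype) =
          (S : Subgroup G).map π := by rw [← Subgroup.map_map, htop]
      have h2 : sylowZ p (S : Subgroup G) = (Cfsg.omegaOne p ((⊤ : Subgroup (S : Subgroup G)) ⊓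
          centralizer ((⊤ : Subgroup (S : Subgroup G)) : Set (S : Subgroup G)))).map
          (S : Subgroup G).subtype := by
        rw [omega_map_eq _ (subtype_injective _), inf_centralizer_map_eq _ (subtype_injective _), htop]
      rw [h2, Subgroup.map_map, omega_map_eq _ hi, inf_centralizer_map_eq _ hi, h1]
    rw [hZ, ← map_thompsonSubgroupOf π (hinj S)]
    have hZp : IsPGroup p (sylowZ p (S : Subgroup G)) := S.2.to_le ((sylowZ_le _).trans inf_le_left)
    have hJp : IsPGroup p (Cfsg.thompsonSubgroupOf p (S : Subgroup G)) :=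
      S.2.to_le (thompsonSubgroupOf_le _)
    refine ⟨le_antisymm (centralizer_map_le K hKc hZp) ?_,
      le_antisymm (normalizer_map_le K hKc hJp) (le_normalizer_map π)⟩
    rintro _ ⟨c, hc, rfl⟩
    refine mem_centralizer_iff.2 ?_
    rintro _ ⟨z, hz, rfl⟩
    rw [← map_mul, ← map_mul, mem_centralizer_iff.1 hc z hz]
  constructor
  · intro h S' g'
    obtain ⟨S, rfl⟩ := Sylow.mapSurjective_surjective hπs p S'
    obtain ⟨g, rfl⟩ := hπs g'
    obtain ⟨x, hx, c, hc, n, hn, rfl⟩ := h S g
    obtain ⟨h1, h2⟩ := hcor S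
    refine ⟨1, one_mem _, π c, ?_, π n, ?_, ?_⟩
    · rw [h1]; exact mem_map_of_mem π hc
    · rw [h2]; exact mem_map_of_mem π hn
    · rw [map_mul, map_mul, show π x = 1 from (QuotientGroup.eq_one_iff x).2 hx]
  · intro h S g
    obtain ⟨x', hx', c', hc', n', hn', he⟩ := h (S.mapSurjective hπs) (π g)
    obtain ⟨h1, h2⟩ := hcor S
    rw [hbot, mem_bot] at hx'
    rw [h1] at hc'
    rw [h2] at hn'
    obtain ⟨c, hc, rfl⟩ := hc'
    obtain ⟨n, hn, rfl⟩ := hn'
    refine ⟨g * n⁻¹ * c⁻¹, ?_, c, hc, n, hn, by group⟩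
    rw [← QuotientGroup.eq_one_iff]
    show π (g * n⁻¹ * c⁻¹) = 1
    rw [map_mul, map_mul, map_inv, map_inv, he, hx', one_mul]
    group

end CfsgLib.Fusion
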