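import Cfsg.Agent.Lib.Fusion.Abelian

/-!
# Nilpotent and abelian Hall subgroups
-/

set_option autoImplicit false

open Subgroup
open scoped Pointwise

namespace CfsgLib.Fusion

variable {G : Type*} [Group G] [Finite G]

/-- A Sylow subgroup of a nilpotent subgroup is normal in it and centralized by the elements of
prime power order for other primes. -/
theorem conj_eq_conj_mem_of_nilpotent {H : Subgroup G} (hH : Group.IsNilpotent H) {p : ℕ}
    [Fact p.Prime] {P : Subgroup G} (hPH : P ≤ H) (hP : IsPGroup p P)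
    (hi : ¬ p ∣ P.relIndex H) {x y : G} (hx : x ∈ P) (hy : y ∈ P) {h : G} (hh : h ∈ H)
    (hxy : h * x * h⁻¹ = y) : ∃ u ∈ P, u * x * u⁻¹ = y := by
  have hnorm : ∀ {q : ℕ}, q.Prime → ∀ {Q : Subgroup G}, Q ≤ H → IsPGroup q Q →
      ¬ q ∣ Q.relIndex H → (Q.subgroupOf H).Normal := by
    intro q hq Q hQH hQ hQi
    haveI := Fact.mk hq
    haveI := hH
    exact (inferInstance :
      ((hQ.of_equiv (Subgroup.subgroupOfEquivOfLe hQH).symm).toSylow hQi : Subgroup H).Normal)
  have hN := hnorm Fact.out hPH hP hi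
  have key : H ≤ P ⊔ Subgroup.centralizer (P : Set G) := by
    refine le_of_forall_prime_pow fun q hq z hz hk => ?_
    haveI := Fact.mk hq
    obtain ⟨k, hk⟩ := hk
    obtain ⟨j, -, hj⟩ := (Nat.dvd_prime_pow hq).1 (orderOf_dvd_of_pow_eq_one hk)
    have hz' : IsPGroup q (Subgroup.zpowers z) := IsPGroup.of_card ((Nat.card_zpowers z).trans hj)
    rcases eq_or_ne q p with rfl | hqp
    · obtain ⟨c, hc, hc2⟩ := exists_conj_le_of_not_dvd_relIndex hP hPH hi hz'
        (Subgroup.zpowers_le.2 hz)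
      refine Subgroup.mem_sup_left ?_
      have h1 := hN.conj_mem ⟨_, mul_mem (mul_mem hc hz) (inv_mem hc)⟩
        (Subgroup.mem_subgroupOf.2 (conjBy_le_iff.1 hc2 z (Subgroup.mem_zpowers z)))
        (⟨c, hc⟩ : H)⁻¹
      simpa [Subgroup.mem_subgroupOf, mul_assoc] using h1
    · refine Subgroup.mem_sup_right ?_
      obtain ⟨T, hzT, hTH, hTq, hTi⟩ :=
        exists_le_not_dvd_relIndex hz' (Subgroup.zpowers_le.2 hz)
      refine Subgroup.mem_centralizer_iff.2 fun w hw => ?_
      have hc := Subgroup.commute_of_normal_of_disjoint _ _ hN (hnorm hq hTH hTq hTi)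
        (IsPGroup.disjoint_of_ne p q hqp.symm _ _
          (hP.of_equiv (Subgroup.subgroupOfEquivOfLe hPH).symm)
          (hTq.of_equiv (Subgroup.subgroupOfEquivOfLe hTH).symm))
        ⟨w, hPH hw⟩ ⟨z, hz⟩ hw (hzT (Subgroup.mem_zpowers z))
      exact congrArg Subtype.val hc.eq
  have hcn : Subgroup.centralizer (P : Set G) ≤ Subgroup.normalizer (P : Set G) :=
    Subgroup.centralizer_le_normalizer _
  have hm : h ∈ ((P ⊔ Subgroup.centralizer (P : Set G) : Subgroup G) : Set G) := key hh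
  rw [Subgroup.coe_mul_of_right_le_normalizer_left _ _ hcn] at hm
  obtain ⟨u, hu, c, hc, rfl⟩ := hm
  refine ⟨u, hu, ?_⟩
  rw [← hxy, show u * c * x * (u * c)⁻¹ = u * (c * x * c⁻¹) * u⁻¹ by group,
    mem_centralizer_iff'.1 hc x hx]

/-- Normal subgroups whose quotients have `π`-order: the intersection has too. -/
theorem index_inf_dvd_mul (A B : Subgroup G) [B.Normal] :
    (A ⊓ B).index ∣ A.index * B.index := by
  rw [← Subgroup.relIndex_mul_index (inf_le_left (a := A) (b := B)), mul_comm]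
  refine Nat.mul_dvd_mul_left _ ?_
  rw [Subgroup.inf_relIndex_left]
  exact Subgroup.relIndex_dvd_index_of_normal B A

/-- A nilpotent Hall subgroup controlling its own fusion has a normal complement. -/
theorem exists_normal_complement_of_nilpotent_hall (H : Subgroup G) (hH : Group.IsNilpotent H)
    (hHall : Nat.Coprime (Nat.card H) H.index) (hf : NoExtraFusion H) :
    ∃ N : Subgroup G, N.Normal ∧ N.IsComplement' H := by
  classical
  have hcomp : ∀ p ∈ (Nat.card H).primeFactors, Cfsg.HasNormalPComplement p G := by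
    intro p hp
    obtain ⟨hpp, hpd, -⟩ := Nat.mem_primeFactors.1 hp
    haveI := Fact.mk hpp
    obtain ⟨T, -, hTH, hTp, hTi⟩ := exists_le_not_dvd_relIndex (p := p)
      (IsPGroup.of_bot (G := G) (p := p)) (bot_le (a := H))
    have hTG : ¬ p ∣ T.index := by
      rw [← Subgroup.relIndex_mul_index hTH, hpp.dvd_mul, not_or]
      exact ⟨hTi, fun hd => hpp.one_lt.ne' (Nat.eq_one_of_dvd_coprimes hHall hpd hd)⟩
    refine hasNormalPComplement_of_noExtraFusion (hTp.toSylow hTG) ?_
    intro x hx y hy hg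
    rw [IsPGroup.toSylow_coe] at hx hy ⊢
    obtain ⟨h, hh, hxy⟩ := hf x (hTH hx) y (hTH hy) hg
    exact conj_eq_conj_mem_of_nilpotent hH hTH hTp hTi hx hy hh hxy
  obtain ⟨N, hNn, hNc, hNi⟩ : ∃ N : Subgroup G, N.Normal ∧
      (∀ p ∈ (Nat.card H).primeFactors, ¬ p ∣ Nat.card N) ∧
      (∀ q : ℕ, q.Prime → q ∣ N.index → q ∈ (Nat.card H).primeFactors) := by
    suffices hs : ∀ s : Finset ℕ, s ⊆ (Nat.card H).primeFactors → ∃ N : Subgroup G, N.Normal ∧
        (∀ p ∈ s, ¬ p ∣ Nat.card N) ∧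
        (∀ q : ℕ, q.Prime → q ∣ N.index → q ∈ (Nat.card H).primeFactors) from
      hs _ subset_rfl
    intro s
    induction s using Finset.induction_on with
    | empty =>
      exact fun _ => ⟨⊤, inferInstance, by simp, fun q hq hd => by
        rw [Subgroup.index_top] at hd
        exact absurd (Nat.dvd_one.1 hd) hq.one_lt.ne'⟩
    | insert p s _ ih =>
      intro hs
      obtain ⟨hp, hs'⟩ := Finset.insert_subset_iff.1 hs
      obtain ⟨N, hN, hN1, hN2⟩ := ih hs'
      haveI := hN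
      haveI := Fact.mk (Nat.prime_of_mem_primeFactors hp)
      haveI := pResidual_normal (G := G) (p := p)
      refine ⟨N ⊓ Cfsg.pResidual p G, inferInstance, fun q hq hd => ?_, fun q hq hd => ?_⟩
      · rcases Finset.mem_insert.1 hq with rfl | hq'
        · exact hasNormalPComplement_iff_not_dvd.1 (hcomp _ hp)
            (hd.trans (Subgroup.card_dvd_of_le inf_le_right))
        · exact hN1 q hq' (hd.trans (Subgroup.card_dvd_of_le inf_le_left))
      · rcases hq.dvd_mul.1 (hd.trans (index_inf_dvd_mul _ _)) with h1 | h1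
        · exact hN2 q hq h1
        · obtain ⟨n, hn⟩ := exists_index_pResidual (G := G) (p := p)
          rw [hn] at h1
          rwa [(Nat.prime_dvd_prime_iff_eq hq Fact.out).1 (hq.dvd_of_dvd_pow h1)]
  refine ⟨N, hNn, ?_⟩
  have c1 : Nat.Coprime (Nat.card N) (Nat.card H) := by
    refine Nat.coprime_of_dvd fun q hq h1 h2 => hNc q ?_ h1
    exact Nat.mem_primeFactors.2 ⟨hq, h2, Nat.card_pos.ne'⟩
  have c2 : Nat.Coprime N.index H.index := by
    refine Nat.coprime_of_dvd fun q hq h1 h2 => ?_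
    exact hq.one_lt.ne' (Nat.eq_one_of_dvd_coprimes hHall
      (Nat.dvd_of_mem_primeFactors (hNi q hq h1)) h2)
  have he : Nat.card H * H.index = Nat.card N * N.index := by
    rw [Subgroup.card_mul_index, Subgroup.card_mul_index]
  have hd1 : Nat.card H ∣ N.index := c1.symm.dvd_of_dvd_mul_left (he ▸ Dvd.intro _ rfl)
  have hd2 : N.index ∣ Nat.card H :=
    c2.dvd_of_dvd_mul_right (he.symm ▸ Dvd.intro_left _ rfl)
  refine Subgroup.isComplement'_of_coprime ?_ c1
  rw [Nat.dvd_antisymm hd1 hd2, Subgroup.card_mul_index]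

/-- Conjugacy of abelian Hall subgroups. -/
theorem exists_conj_eq_of_abelian_hall {K A B : Subgroup G} (hAK : A ≤ K) (hBK : B ≤ K)
    (hA : IsMulCommutative A) (hB : IsMulCommutative B) (hc : Nat.card A = Nat.card B)
    (hcop : Nat.Coprime (Nat.card A) (A.relIndex K)) : ∃ k ∈ K, conjBy k B = A := by
  induction hn : Nat.card A using Nat.strong_induction_on generalizing K A B with
  | _ n ih =>
  by_cases h1 : Nat.card A = 1
  · refine ⟨1, one_mem _, ?_⟩
    rw [conjBy_one, Subgroup.card_eq_one.1 h1, Subgroup.card_eq_one.1 (hc.symm.trans h1)]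
  obtain ⟨p, hp, hpd⟩ := Nat.exists_prime_and_dvd h1
  haveI := Fact.mk hp
  have hrel : A.relIndex K = B.relIndex K := by
    have e1 := Subgroup.relIndex_mul_relIndex ⊥ A K bot_le hAK
    have e2 := Subgroup.relIndex_mul_relIndex ⊥ B K bot_le hBK
    simp only [Subgroup.relIndex_bot_left] at e1 e2
    rw [← e2, ← hc] at e1
    exact Nat.eq_of_mul_eq_mul_left Nat.card_pos e1
  have hpK : ¬ p ∣ A.relIndex K := fun hd =>
    hp.one_lt.ne' (Nat.eq_one_of_dvd_coprimes hcop hpd hd)
  obtain ⟨Ap, -, hApA, hApp, hApi⟩ := exists_le_not_dvd_relIndex (p := p)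
    (IsPGroup.of_bot (G := G) (p := p)) (bot_le (a := A))
  obtain ⟨Bp, -, hBpB, hBpp, hBpi⟩ := exists_le_not_dvd_relIndex (p := p)
    (IsPGroup.of_bot (G := G) (p := p)) (bot_le (a := B))
  have hApK : ¬ p ∣ Ap.relIndex K := by
    rw [← Subgroup.relIndex_mul_relIndex Ap A K hApA hAK, hp.dvd_mul, not_or]
    exact ⟨hApi, hpK⟩
  obtain ⟨k, hk, hk'⟩ := exists_conj_le_of_not_dvd_relIndex hApp (hApA.trans hAK) hApK hBpp
    (hBpB.trans hBK)
  have hBpK : ¬ p ∣ Bp.relIndex K := by
    rw [← Subgroup.relIndex_mul_relIndex Bp B K hBpB hBK, hp.dvd_mul, not_or]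
    exact ⟨hBpi, hrel ▸ hpK⟩
  have hkK : conjBy k K = K := conjBy_eq_iff.2 (Subgroup.le_normalizer hk)
  have hkeq : conjBy k Bp = Ap := by
    refine (eq_of_le_of_isPGroup_of_not_dvd_relIndex hApp hk' (hApA.trans hAK) ?_).symm
    have h := not_dvd_relIndex_conjBy k hBpK
    rwa [hkK] at h
  set B' := conjBy k B with hB'
  have hB'c : IsMulCommutative B' := Subgroup.map_isMulCommutative _ _
  -- the centralizer of the common Sylow subgroup
  set C := K ⊓ Subgroup.centralizer (Ap : Set G) with hC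
  have hcen : ∀ {D : Subgroup G}, IsMulCommutative D → Ap ≤ D →
      D ≤ Subgroup.centralizer (Ap : Set G) := fun {D} hD hle d hd =>
    Subgroup.mem_centralizer_iff.2 fun a ha =>
      congrArg Subtype.val (hD.is_comm.comm (⟨a, hle ha⟩ : D) ⟨d, hd⟩)
  have hAC : A ≤ C := le_inf hAK (hcen hA hApA)
  have hB'C : B' ≤ C :=
    le_inf (hkK ▸ conjBy_mono hBK) (hcen hB'c (hkeq ▸ conjBy_mono hBpB))
  have hApC : Ap ≤ C := hApA.trans hAC
  have hApCi : ¬ p ∣ Ap.relIndex C := fun hd => hApK (by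
    rw [← Subgroup.relIndex_mul_relIndex Ap C K hApC inf_le_left]
    exact hd.mul_right _)
  let S : Sylow p C := (hApp.of_equiv (Subgroup.subgroupOfEquivOfLe hApC).symm).toSylow hApCi
  have hS : (S : Subgroup C) = Ap.subgroupOf C := rfl
  have hcompl : Cfsg.HasNormalPComplement p C := by
    refine hasNormalPComplement_of_normalizer_le_centralizer S fun c _ => ?_
    rw [hS]
    exact Subgroup.mem_centralizer_iff.2 fun a ha =>
      Subtype.ext (Subgroup.mem_centralizer_iff.1 c.2.2 (a : G) ha)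
  have hM := hasNormalPComplement_iff_forall_sylow.1 hcompl S
  haveI := pResidual_normal (G := C) (p := p)
  set M := (Cfsg.pResidual p C).map C.subtype with hMdef
  have hMC : M ≤ C := Subgroup.map_subtype_le _
  have hMcop : ¬ p ∣ Nat.card M := by
    rw [hMdef, Subgroup.card_map_of_injective C.subtype_injective]
    exact hasNormalPComplement_iff_not_dvd.1 hcompl
  have hsplit : ∀ D : Subgroup G, Ap ≤ D → D ≤ C →
      D = (D ⊓ M) ⊔ Ap ∧ Nat.card D = Nat.card (D ⊓ M : Subgroup G) * Nat.card Ap := by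
    intro D hApD hDC
    have heq : D = (D ⊓ M) ⊔ Ap := by
      refine le_antisymm (fun d hd => ?_) (sup_le inf_le_left hApD)
      have hm := hM.sup_eq_top.symm ▸ Subgroup.mem_top (⟨d, hDC hd⟩ : C)
      obtain ⟨m, hm1, a, ha, hma⟩ := Subgroup.mem_sup_of_normal_left.1 hm
      have he : d = (m : G) * a := (congrArg Subtype.val hma).symm
      have ha' : (a : G) ∈ Ap := ha
      have hmD : (m : G) ∈ D := by
        rw [show (m : G) = d * (a : G)⁻¹ by rw [he]; group]
        exact mul_mem hd (inv_mem (hApD ha'))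
      rw [he]
      exact Subgroup.mul_mem_sup ⟨hmD, ⟨m, hm1, rfl⟩⟩ ha'
    refine ⟨heq, ?_⟩
    have hcom : D ⊓ M ≤ Subgroup.normalizer (Ap : Set G) :=
      inf_le_left.trans ((hDC.trans inf_le_right).trans (Subgroup.centralizer_le_normalizer _))
    have hdis : Disjoint (D ⊓ M) Ap := by
      rw [disjoint_iff, Subgroup.inf_eq_bot_of_coprime]
      obtain ⟨j, hj⟩ := hApp.exists_card_eq
      rw [hj]
      exact Nat.Coprime.pow_right j (Nat.coprime_comm.2 (hp.coprime_iff_not_dvd.2
        fun hd => hMcop (hd.trans (Subgroup.card_dvd_of_le inf_le_right))))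
    have e : (((D ⊓ M) ⊔ Ap : Subgroup G) : Set G) = ((D ⊓ M : Subgroup G) : Set G) * (Ap : Set G) :=
      Subgroup.coe_mul_of_left_le_normalizer_right _ _ hcom
    rw [← heq] at e
    let f : (D ⊓ M : Subgroup G) × Ap → D := fun x => ⟨(x.1 : G) * x.2, mul_mem x.1.2.1 (hApD x.2.2)⟩
    have hf : Function.Bijective f := by
      refine ⟨fun x y hxy => Subgroup.mul_injective_of_disjoint hdis (congrArg Subtype.val hxy),
        fun d => ?_⟩
      obtain ⟨m, hm, a, ha, hma⟩ := e.le d.2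
      exact ⟨(⟨m, hm⟩, ⟨a, ha⟩), Subtype.ext hma⟩
    rw [← Nat.card_eq_of_bijective f hf, Nat.card_prod]
  obtain ⟨hA1, hA2⟩ := hsplit A hApA hAC
  obtain ⟨hB1, hB2⟩ := hsplit B' (hkeq ▸ conjBy_mono hBpB) hB'C
  have hlt : Nat.card (A ⊓ M : Subgroup G) < n := by
    rw [← hn, hA2]
    refine lt_mul_of_one_lt_right Nat.card_pos ?_
    obtain ⟨j, hj⟩ := hApp.exists_card_eq
    rcases Nat.eq_zero_or_pos j with rfl | hj0
    · exfalso
      apply hApi
      rw [Subgroup.card_eq_one.1 (hj.trans (pow_zero p)), Subgroup.relIndex_bot_left]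
      exact hpd
    · rw [hj]; exact Nat.one_lt_pow hj0.ne' hp.one_lt
  have hcAB : Nat.card (A ⊓ M : Subgroup G) = Nat.card (B' ⊓ M : Subgroup G) := by
    refine Nat.eq_of_mul_eq_mul_right (Nat.card_pos (α := Ap)) ?_
    rw [← hA2, ← hB2, hB', card_conjBy, hc]
  have hcop' : Nat.Coprime (Nat.card (A ⊓ M : Subgroup G)) ((A ⊓ M).relIndex M) := by
    refine Nat.Coprime.coprime_dvd_left (Dvd.intro _ hA2.symm) ?_
    refine Nat.Coprime.coprime_dvd_right ?_ hcop
    rw [Subgroup.inf_relIndex_right]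
    -- `|M : A ⊓ M| = |C : A|`
    have e1 := Subgroup.relIndex_mul_relIndex ⊥ (A ⊓ M) M bot_le inf_le_right
    have e2 := Subgroup.relIndex_mul_relIndex ⊥ A C bot_le hAC
    simp only [Subgroup.relIndex_bot_left] at e1 e2
    have e3 : Nat.card M * Nat.card Ap = Nat.card C := by
      rw [hMdef, Subgroup.card_map_of_injective C.subtype_injective,
        ← Nat.card_congr (Subgroup.subgroupOfEquivOfLe hApC).toEquiv, ← hS]
      exact hM.card_mul_card
    rw [← e1, ← e2, hA2, Subgroup.inf_relIndex_right] at e3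
    have e4 : A.relIndex M = A.relIndex C := by
      refine Nat.eq_of_mul_eq_mul_left
        (Nat.mul_pos (Nat.card_pos (α := (A ⊓ M : Subgroup G))) (Nat.card_pos (α := Ap))) ?_
      rw [← e3]; ring
    rw [e4, ← Subgroup.relIndex_mul_relIndex A C K hAC inf_le_left]
    exact Dvd.intro _ rfl
  have hcA : IsMulCommutative (A ⊓ M : Subgroup G) :=
    ⟨⟨fun a b => Subtype.ext (show (a : G) * b = b * a from
      congrArg Subtype.val (hA.is_comm.comm (⟨(a : G), a.2.1⟩ : A) ⟨(b : G), b.2.1⟩))⟩⟩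
  have hcB : IsMulCommutative (B' ⊓ M : Subgroup G) :=
    ⟨⟨fun a b => Subtype.ext (show (a : G) * b = b * a from
      congrArg Subtype.val (hB'c.is_comm.comm (⟨(a : G), a.2.1⟩ : B') ⟨(b : G), b.2.1⟩))⟩⟩
  obtain ⟨m, hm, hm'⟩ := ih _ hlt inf_le_right inf_le_right hcA hcB hcAB hcop' rfl
  have hmC := hMC hm
  refine ⟨m * k, mul_mem hmC.1 hk, ?_⟩
  rw [← conjBy_conjBy, ← hB', hB1, hA1]
  show Subgroup.map _ _ = _
  rw [Subgroup.map_sup]
  congr 1
  exact conjBy_eq_iff.2 (Subgroup.centralizer_le_normalizer _ hmC.2)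

/-- A Hall subgroup central in its normalizer controls fusion trivially. -/
theorem eq_of_conj_of_hall_central (H : Subgroup G) (hHall : Nat.Coprime (Nat.card H) H.index)
    (h : Subgroup.normalizer (H : Set G) ≤ Subgroup.centralizer (H : Set G)) {x : G} (hx : x ∈ H)
    (g : G) (hy : g * x * g⁻¹ ∈ H) : g * x * g⁻¹ = x := by
  have hHc : IsMulCommutative H :=
    ⟨⟨fun a b => Subtype.ext
      ((Subgroup.mem_centralizer_iff.1 (h (Subgroup.le_normalizer b.2)) a a.2))⟩⟩
  have hgc : IsMulCommutative (conjBy g H) := Subgroup.map_isMulCommutative _ _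
  set K := Subgroup.centralizer ({g * x * g⁻¹} : Set G) with hK
  have h1 : H ≤ K := fun a ha => Subgroup.mem_centralizer_iff.2 fun w hw => by
    rw [Set.mem_singleton_iff.1 hw]
    exact congrArg Subtype.val (hHc.is_comm.comm (⟨_, hy⟩ : H) ⟨a, ha⟩)
  have h2 : conjBy g H ≤ K := fun a ha => Subgroup.mem_centralizer_iff.2 fun w hw => by
    rw [Set.mem_singleton_iff.1 hw]
    exact congrArg Subtype.val
      (hgc.is_comm.comm (⟨_, conj_mem_conjBy hx⟩ : conjBy g H) ⟨a, ha⟩)
  obtain ⟨c, hc, hc'⟩ := exists_conj_eq_of_abelian_hall h1 h2 hHc hgc (card_conjBy g H).symm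
    (hHall.coprime_dvd_right (Subgroup.relIndex_dvd_index_of_le h1))
  rw [conjBy_conjBy] at hc'
  have h3 := Subgroup.mem_centralizer_iff.1 (h (conjBy_eq_iff.1 hc')) x hx
  have h4 := Subgroup.mem_centralizer_iff.1 hc (g * x * g⁻¹) rfl
  have h5 : c * (g * x * g⁻¹) * c⁻¹ = x := by
    rw [show c * (g * x * g⁻¹) * c⁻¹ = (c * g) * x * (c * g)⁻¹ by group, ← h3,
      mul_inv_cancel_right]
  rwa [← h4, mul_inv_cancel_right] at h5

end CfsgLib.Fusion
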