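import Cfsg.Agent.Lib.Fusion.MaxFamily
import Cfsg.Agent.Lib.Coprime.Core

/-!
# The axiomatic ZJ theorem
-/

set_option autoImplicit false
set_option linter.style.haveILetI false

open Subgroup
open scoped commutatorElement

namespace CfsgLib.Fusion

variable {G : Type*} [Group G] {p : ℕ}

/-- The intersection of the members of the family inside `Q`. -/
def Iof (𝒜 : Set (Subgroup G)) (Q : Subgroup G) : Subgroup G :=
  ⨅ A ∈ {A : Subgroup G | A ∈ 𝒜 ∧ A ≤ Q}, A

theorem Iof_le {𝒜 : Set (Subgroup G)} {Q A : Subgroup G} (hA : A ∈ 𝒜) (hAQ : A ≤ Q) :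
    Iof 𝒜 Q ≤ A := iInf₂_le A ⟨hA, hAQ⟩

theorem le_Iof {𝒜 : Set (Subgroup G)} {Q X : Subgroup G} (h : ∀ A ∈ 𝒜, A ≤ Q → X ≤ A) :
    X ≤ Iof 𝒜 Q := le_iInf₂ fun A hA => h A hA.1 hA.2

theorem Iof_antitone {𝒜 : Set (Subgroup G)} {Q R : Subgroup G} (h : Q ≤ R) :
    Iof 𝒜 R ≤ Iof 𝒜 Q := le_Iof fun _ hA hAQ => Iof_le hA (hAQ.trans h)

theorem commutator_zpowers_le {B A : Subgroup G} {a : G} (ha : a ∈ A)
    (hBA : B ≤ Subgroup.normalizer (A : Set G)) : ⁅B, Subgroup.zpowers a⁆ ≤ A := by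
  rw [Subgroup.commutator_le]
  intro x hx y hy
  have hyA : y ∈ A := Subgroup.zpowers_le.2 ha hy
  rw [commutatorElement_def]
  exact mul_mem ((Subgroup.mem_normalizer_iff.1 (hBA hx) y).1 hyA) (inv_mem hyA)

theorem quadratic_of_abelian_le {B A : Subgroup G} {a : G} (hA : IsMulCommutative A) (ha : a ∈ A)
    (hBA : B ≤ Subgroup.normalizer (A : Set G)) :
    ⁅⁅B, Subgroup.zpowers a⁆, Subgroup.zpowers a⁆ = ⊥ := by
  rw [Subgroup.commutator_eq_bot_iff_le_centralizer]
  intro x hx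
  refine Subgroup.mem_centralizer_iff.2 fun y hy => ?_
  exact congrArg Subtype.val (hA.is_comm.comm (⟨y, Subgroup.zpowers_le.2 ha hy⟩ : A)
    ⟨x, commutator_zpowers_le ha hBA hx⟩)

variable [Finite G] [Fact p.Prime]

omit [Fact p.Prime] in
theorem card_lt_card_of_lt {H K : Subgroup G} (h : H < K) : Nat.card H < Nat.card K := by
  have h3 := Set.ncard_lt_ncard (SetLike.coe_ssubset_coe.2 h) (Set.toFinite _)
  simp only [← Nat.card_coe_set_eq, SetLike.coe_sort_coe] at h3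
  exact h3

/-- The axiomatic ZJ theorem. -/
theorem Iof_normal (S : Sylow p G) (𝒜 : Set (Subgroup G))
    (h𝒜 : ∀ A ∈ 𝒜, A ≤ (S : Subgroup G) ∧ IsMulCommutative A) (hne : 𝒜.Nonempty)
    (hinv : ∀ Q : Subgroup G, Q ≤ (S : Subgroup G) → (∃ A ∈ 𝒜, A ≤ Q) →
      ∀ g ∈ Subgroup.normalizer (Q : Set G), ∀ x ∈ Iof 𝒜 Q, g * x * g⁻¹ ∈ Iof 𝒜 Q)
    (hrep : ∀ B : Subgroup G, B.Normal → B ≤ (S : Subgroup G) → ⁅⁅B, B⁆, B⁆ = ⊥ →
      (∃ A ∈ 𝒜, ⁅B, B⁆ ≤ A ∧ ¬ B ≤ A) →
      ∃ A ∈ 𝒜, ⁅B, B⁆ ≤ A ∧ ¬ B ≤ A ∧ B ≤ Subgroup.normalizer (A : Set G))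
    (hc : Subgroup.centralizer (Cfsg.pCore p G : Set G) ≤ Cfsg.pCore p G)
    (hst : ∀ (P : Subgroup G) [P.Normal], IsPGroup p P → Cfsg.IsPStableOn p P) :
    (Iof 𝒜 (S : Subgroup G)).Normal := by
  classical
  set Z := Iof 𝒜 (S : Subgroup G) with hZ
  obtain ⟨A₀, hA₀⟩ := hne
  have hex : ∃ A ∈ 𝒜, A ≤ (S : Subgroup G) := ⟨A₀, hA₀, (h𝒜 A₀ hA₀).1⟩
  have hZA : Z ≤ A₀ := Iof_le hA₀ (h𝒜 A₀ hA₀).1
  have hZc : IsMulCommutative Z := ⟨⟨fun a b => Subtype.ext (by
    have := congrArg Subtype.val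
      ((h𝒜 A₀ hA₀).2.is_comm.comm (⟨a, hZA a.2⟩ : A₀) ⟨b, hZA b.2⟩)
    exact this)⟩⟩
  have hZS : (S : Subgroup G) ≤ Subgroup.normalizer (Z : Set G) := fun s hs => by
    refine conjBy_eq_iff.1 (conjBy_eq_of_le (conjBy_le_iff.2 fun x hx => ?_))
    exact hinv _ le_rfl hex s (Subgroup.le_normalizer hs) x hx
  have hpS : ∀ B : Subgroup G, B.Normal → IsPGroup p B → B ≤ (S : Subgroup G) := fun B hB hBp =>
    haveI := hB; hBp.le_sylow_of_normal S
  -- stability pushes quadratic elements into `O_p(G mod C(B))`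
  have key : ∀ B : Subgroup G, B.Normal → IsPGroup p B → (Z ⊓ B).Normal := by
    intro B hBn hBp
    induction hn : Nat.card B using Nat.strong_induction_on generalizing B with
    | _ n ih =>
    haveI := hBn
    have hBS := hpS B hBn hBp
    set Bg := Subgroup.normalClosure ((Z ⊓ B : Subgroup G) : Set G) with hBg
    have hBgB : Bg ≤ B := Subgroup.normalClosure_le_normal fun _ hx => hx.2
    by_cases hlt : Bg < B
    · have h := ih _ (hn ▸ card_lt_card_of_lt hlt) Bg inferInstance (hBp.to_le hBgB) rfl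
      rwa [show Z ⊓ Bg = Z ⊓ B from le_antisymm (inf_le_inf_left _ hBgB)
        (le_inf inf_le_left Subgroup.le_normalClosure)] at h
    have hBeq : Bg = B := eq_of_le_of_not_lt hBgB hlt
    by_cases hB1 : B = ⊥
    · subst hB1; rw [inf_bot_eq]; infer_instance
    haveI : Group.IsNilpotent B := hBp.isNilpotent
    have hB'lt : ⁅B, B⁆ < B := lt_of_le_of_ne (Subgroup.commutator_le_self B) fun he =>
      hB1 (eq_bot_of_le_commutator le_rfl he.ge)
    have hN0 : (Z ⊓ ⁅B, B⁆).Normal :=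
      ih _ (hn ▸ card_lt_card_of_lt hB'lt) ⁅B, B⁆ inferInstance (hBp.to_le hB'lt.le) rfl
    -- `[B,B] ≤ Z`
    have hB'Z : ⁅B, B⁆ ≤ Z ⊓ ⁅B, B⁆ := by
      set N0 := Z ⊓ ⁅B, B⁆
      set C0 := (Subgroup.centralizer ((B.map (QuotientGroup.mk' N0) : Subgroup _) :
        Set (G ⧸ N0))).comap (QuotientGroup.mk' N0)
      haveI : (B.map (QuotientGroup.mk' N0)).Normal :=
        hBn.map _ (QuotientGroup.mk'_surjective N0)
      have h1 : Bg ≤ C0 := by
        haveI : C0.Normal := Subgroup.Normal.comap inferInstance _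
        refine Subgroup.normalClosure_le_normal fun x hx => ?_
        refine Subgroup.mem_centralizer_iff.2 ?_
        rintro _ ⟨y, hy, rfl⟩
        rw [← map_mul, ← map_mul, eq_comm, ← div_eq_one, ← map_div, QuotientGroup.mk'_apply,
          QuotientGroup.eq_one_iff]
        refine ⟨?_, ?_⟩
        · rw [show x * y / (y * x) = x * (y * x⁻¹ * y⁻¹) by rw [div_eq_mul_inv]; group]
          exact mul_mem hx.1 ((Subgroup.mem_normalizer_iff.1 (hZS (hBS hy)) _).1 (inv_mem hx.1))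
        · rw [show x * y / (y * x) = ⁅x, y⁆ by rw [div_eq_mul_inv, commutatorElement_def]; group]
          exact Subgroup.commutator_mem_commutator hx.2 hy
      rw [Subgroup.commutator_le]
      intro x hx y hy
      have h2 : QuotientGroup.mk' N0 ⁅x, y⁆ = 1 := by
        rw [map_commutatorElement, commutatorElement_eq_one_iff_mul_comm]
        exact (Subgroup.mem_centralizer_iff.1 (h1 (hBeq.ge hx)) _ ⟨y, hy, rfl⟩).symm
      exact (QuotientGroup.eq_one_iff _).1 h2
    have hcl : ⁅⁅B, B⁆, B⁆ = ⊥ := by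
      rw [Subgroup.commutator_eq_bot_iff_le_centralizer]
      have hCn : (Subgroup.centralizer ((⁅B, B⁆ : Subgroup G) : Set G)).Normal := inferInstance
      have h1 : Bg ≤ Subgroup.centralizer ((⁅B, B⁆ : Subgroup G) : Set G) :=
        Subgroup.normalClosure_le_normal fun x hx => Subgroup.mem_centralizer_iff.2 fun y hy =>
          congrArg Subtype.val (hZc.is_comm.comm (⟨y, (hB'Z hy).1⟩ : Z) ⟨x, hx.1⟩)
      intro y hy
      refine Subgroup.mem_centralizer_iff.2 fun x hx => ?_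
      exact (Subgroup.mem_centralizer_iff.1 (h1 (hBeq.ge hx)) y hy).symm
    by_cases hall : ∀ A ∈ 𝒜, B ≤ A
    · rwa [inf_eq_right.2 (show B ≤ Z from le_Iof fun A hA _ => hall A hA)]
    push Not at hall
    obtain ⟨U, hU, hBU⟩ := hall
    obtain ⟨A, hA, -, hBA, hBN⟩ := hrep B hBn hBS hcl
      ⟨U, hU, fun x hx => Iof_le hU (h𝒜 U hU).1 (hB'Z hx).1, hBU⟩
    exfalso
    set C := Subgroup.centralizer (B : Set G)
    set L := (Cfsg.pCore p (G ⧸ C)).comap (QuotientGroup.mk' C) with hL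
    haveI : (Cfsg.pCore p (G ⧸ C)).Normal := CfsgLib.Coprime.pCore_normal' p
    haveI hLn : L.Normal := Subgroup.Normal.comap inferInstance _
    have hAL : A ≤ L := fun a ha =>
      hst B hBp a (quadratic_of_abelian_le (h𝒜 A hA).2 ha hBN)
    set Q := (S : Subgroup G) ⊓ L with hQ
    have hAQ : A ≤ Q := le_inf (h𝒜 A hA).1 hAL
    have hQi : ¬ p ∣ Q.relIndex L := not_dvd_relIndex_inf_of_normal S L
    have hCL : C ≤ L := fun c hc => by
      show QuotientGroup.mk' C c ∈ Cfsg.pCore p (G ⧸ C)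
      rw [show QuotientGroup.mk' C c = 1 from (QuotientGroup.eq_one_iff c).2 hc]
      exact one_mem _
    have hLQ : L = Q ⊔ C := by
      refine le_antisymm ?_ (sup_le inf_le_right hCL)
      rw [← Subgroup.relIndex_eq_one]
      have h1 : (Q ⊔ C).relIndex L ∣ Q.relIndex L :=
        Dvd.intro_left _ (Subgroup.relIndex_mul_relIndex Q (Q ⊔ C) L le_sup_left (sup_le inf_le_right hCL))
      have h2 : (Q ⊔ C).relIndex L ∣ C.relIndex L :=
        Dvd.intro_left _ (Subgroup.relIndex_mul_relIndex C (Q ⊔ C) L le_sup_right (sup_le inf_le_right hCL))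
      have h3 : ∃ k, C.relIndex L = p ^ k := by
        obtain ⟨k, hk⟩ := (CfsgLib.Coprime.pCore_isPGroup (G := G ⧸ C) p).exists_card_eq
        refine ⟨k, hk ▸ ?_⟩
        have h := Subgroup.relIndex_comap (f := QuotientGroup.mk' C) ⊥ L
        rw [MonoidHom.comap_bot, QuotientGroup.ker_mk', Subgroup.relIndex_bot_left,
          hL, Subgroup.map_comap_eq_self_of_surjective (QuotientGroup.mk'_surjective C)] at h
        exact h
      obtain ⟨k, hk⟩ := h3
      obtain ⟨j, -, hj⟩ := (Nat.dvd_prime_pow (Fact.out : p.Prime)).1 (hk ▸ h2)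
      rcases Nat.eq_zero_or_pos j with rfl | hjpos
      · rw [hj, pow_zero]
      · exact absurd ((dvd_pow_self p hjpos.ne').trans (hj ▸ h1)) hQi
    set X := Iof 𝒜 Q ⊓ B with hX
    have hXn : X.Normal := by
      rw [← Subgroup.normalizer_eq_top_iff, eq_top_iff]
      let T : Sylow p L := ((S.isPGroup'.to_le (inf_le_left : Q ≤ (S : Subgroup G))).of_equiv
        (Subgroup.subgroupOfEquivOfLe (inf_le_right : Q ≤ L)).symm).toSylow hQi
      have hT : (T : Subgroup L).map L.subtype = Q :=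
        Subgroup.map_subgroupOf_eq_of_le (inf_le_right : Q ≤ L)
      have hF := Sylow.normalizer_sup_eq_top T
      rw [hT] at hF
      have hC : C ≤ Subgroup.normalizer (X : Set G) := fun c hc =>
        Subgroup.centralizer_le_normalizer (X : Set G)
          (Subgroup.centralizer_le (show (X : Set G) ⊆ (B : Set G) from fun x hx => hx.2) hc)
      have hNQ : Subgroup.normalizer (Q : Set G) ≤ Subgroup.normalizer (X : Set G) := by
        intro g hg
        refine conjBy_eq_iff.1 (conjBy_eq_of_le (conjBy_le_iff.2 fun x hx => ?_))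
        exact ⟨hinv Q inf_le_left ⟨A, hA, hAQ⟩ g hg x hx.1, hBn.conj_mem x hx.2 g⟩
      rw [← hF]
      exact sup_le hNQ (hLQ.le.trans (sup_le (Subgroup.le_normalizer.trans hNQ) hC))
    have hBX : Bg ≤ X := Subgroup.normalClosure_le_normal fun x hx =>
      ⟨Iof_antitone (inf_le_left : Q ≤ (S : Subgroup G)) hx.1, hx.2⟩
    exact hBA (fun x hx => Iof_le hA hAQ (hBX (hBeq.ge hx)).1)
  haveI hOn : (Cfsg.pCore p G).Normal := CfsgLib.Coprime.pCore_normal' p
  have hOp : IsPGroup p (Cfsg.pCore p G) := CfsgLib.Coprime.pCore_isPGroup p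
  have hZO : Z ≤ Cfsg.pCore p G := by
    intro a ha
    set C := Subgroup.centralizer ((Cfsg.pCore p G : Subgroup G) : Set G)
    set L := (Cfsg.pCore p (G ⧸ C)).comap (QuotientGroup.mk' C) with hL
    haveI : (Cfsg.pCore p (G ⧸ C)).Normal := CfsgLib.Coprime.pCore_normal' p
    haveI : L.Normal := Subgroup.Normal.comap inferInstance _
    have haL : a ∈ L := hst _ hOp a (quadratic_of_abelian_le hZc ha ((hpS _ hOn hOp).trans hZS))
    refine CfsgLib.Coprime.le_pCore (N := L) ?_ haL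
    exact IsPGroup.comap_of_ker_isPGroup (CfsgLib.Coprime.pCore_isPGroup (G := G ⧸ C) p)
      (QuotientGroup.mk' C) (by rw [QuotientGroup.ker_mk']; exact hOp.to_le hc)
  rw [show Z = Z ⊓ Cfsg.pCore p G from (inf_eq_left.2 hZO).symm]
  exact key _ hOn hOp

end CfsgLib.Fusion
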