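import Cfsg.Agent.Lib.Fusion.Sylow
import Cfsg.Agent.Lib.Fusion.PComplement
import Cfsg.Agent.Lib.Coprime.Core

/-!
# `p`-th powers of fixed central elements, with quadratic action

If, in every group where `W(T)` is not normal, some element of `T` outside `O_p` acts quadratically
on `Z(O_p)`, then `w^p` is central as soon as it is fixed by `N(W(T))`, for `w ∈ Z(T)`.
-/

set_option autoImplicit false
set_option linter.style.haveILetI false

open Subgroup
open scoped Classical commutatorElement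

namespace CfsgLib.Fusion

universe u

theorem pow_conj_of_quadratic {G : Type*} [Group G] {g v a : G} (ha : g * v * g⁻¹ = a * v)
    (hga : g * a * g⁻¹ = a) (k : ℕ) : g ^ k * v * (g ^ k)⁻¹ = a ^ k * v := by
  induction k with
  | zero => simp
  | succ k ih =>
    have hgak : g * a ^ k * g⁻¹ = a ^ k := by rw [← conj_pow, hga]
    calc g ^ (k + 1) * v * (g ^ (k + 1))⁻¹ = g * (g ^ k * v * (g ^ k)⁻¹) * g⁻¹ := by
          rw [pow_succ']; group
      _ = (g * a ^ k * g⁻¹) * (g * v * g⁻¹) := by rw [ih]; group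
      _ = a ^ (k + 1) * v := by rw [hgak, ha, pow_succ, mul_assoc]

theorem conj_pow_prime_eq {G : Type*} [Group G] {g v a : G} {p : ℕ}
    (ha : g * v * g⁻¹ = a * v) (hga : g * a * g⁻¹ = a) (hav : Commute a v)
    (hgp : g ^ p * v * (g ^ p)⁻¹ = v) : g * v ^ p * g⁻¹ = v ^ p := by
  have h1 : a ^ p = 1 := by
    have := (pow_conj_of_quadratic ha hga p).symm.trans hgp
    exact mul_eq_right.1 this
  rw [← conj_pow, ha, hav.mul_pow, h1, one_mul]

variable {p : ℕ} [Fact p.Prime]

theorem central_pow_of_quadratic (W : ∀ (A : Type u) [Group A], Subgroup A)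
    (hW2 : ∀ (A B : Type u) [Group A] [Group B] [Finite A], IsPGroup p A → ∀ φ : A ≃* B,
      (W A).map φ.toMonoidHom = W B)
    (hq : ∀ (G : Type u) [Group G] [Finite G] (P : Sylow p G),
      ¬ (((W ↥(P : Subgroup G)).map (P : Subgroup G).subtype : Subgroup G)).Normal →
      ∃ g : G, g ∈ (P : Subgroup G) ∧ g ∉ Cfsg.pCore p G ∧
        ⁅⁅Subgroup.center ↥(Cfsg.pCore p G) |>.map (Cfsg.pCore p G).subtype, Subgroup.zpowers g⁆,
          Subgroup.zpowers g⁆ = ⊥)
    (L : Type u) [Group L] [Finite L] (T : Sylow p L)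
    (hC : Subgroup.centralizer ((Cfsg.pCore p L : Subgroup L) : Set L) ≤ Cfsg.pCore p L)
    (w : L) (hwT : w ∈ (T : Subgroup L)) (hwc : ∀ t ∈ (T : Subgroup L), t * w = w * t)
    (hfix : ∀ n ∈ Subgroup.normalizer (((W ↥(T : Subgroup L)).map (T : Subgroup L).subtype :
      Subgroup L) : Set L), n * w ^ p * n⁻¹ = w ^ p) :
    ∀ g : L, g * w ^ p * g⁻¹ = w ^ p := by
  induction hn : Nat.card L using Nat.strong_induction_on generalizing L with
  | _ n ih =>
  set WT := (W ↥(T : Subgroup L)).map (T : Subgroup L).subtype with hWT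
  by_cases hWn : WT.Normal
  · intro g
    exact hfix g (by rw [Subgroup.normalizer_eq_top]; exact Subgroup.mem_top g)
  obtain ⟨g, hgT, hgQ, hquad⟩ := hq L T hWn
  set Q := (Cfsg.pCore p L : Subgroup L) with hQ
  haveI hQn : Q.Normal := CfsgLib.Coprime.pCore_normal' p
  have hQp : IsPGroup p Q := CfsgLib.Coprime.pCore_isPGroup p
  have hQT : Q ≤ (T : Subgroup L) := hQp.le_sylow_of_normal T
  have hwQ : w ∈ Q := hC (Subgroup.mem_centralizer_iff.2 fun t ht => hwc t (hQT ht))
  set V := Q ⊓ Subgroup.centralizer (Q : Set L) with hV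
  have hwV : w ∈ V := ⟨hwQ, Subgroup.mem_centralizer_iff.2 fun t ht => hwc t (hQT ht)⟩
  have hVconj : ∀ x : L, ∀ v ∈ V, x * v * x⁻¹ ∈ V := fun x v hv =>
    ⟨hQn.conj_mem v hv.1 x, mem_centralizer_iff'.2 fun y hy => by
      have h1 := mem_centralizer_iff'.1 hv.2 _ (hQn.conj_mem y hy x⁻¹)
      calc x * v * x⁻¹ * y * (x * v * x⁻¹)⁻¹ = x * (v * (x⁻¹ * y * x⁻¹⁻¹) * v⁻¹) * x⁻¹ := by group
        _ = y := by rw [h1]; group⟩
  have hVZ : ∀ v ∈ V, v ∈ (Subgroup.center ↥Q).map Q.subtype := fun v hv =>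
    ⟨⟨v, hv.1⟩, Subgroup.mem_center_iff.2 fun y =>
      Subtype.ext (Subgroup.mem_centralizer_iff.1 hv.2 y y.2), rfl⟩
  -- a quadratic element of order `p` modulo `Q`
  obtain ⟨m, hm⟩ := T.2 ⟨g, hgT⟩
  have hex : ∃ k, g ^ p ^ k ∈ Q := ⟨m, by
    have := congrArg Subtype.val hm
    simp only [Subgroup.coe_pow, Subgroup.coe_one] at this
    rw [this]; exact one_mem _⟩
  obtain ⟨j, hj⟩ : ∃ j, Nat.find hex = j + 1 := Nat.exists_eq_succ_of_ne_zero fun h => hgQ (by
    have := Nat.find_spec hex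
    rwa [h, pow_zero, pow_one] at this)
  set g' := g ^ p ^ j with hg'
  have hg'Q : g' ∉ Q := fun h => Nat.find_min hex (show j < Nat.find hex by omega) h
  have hg'p : g' ^ p ∈ Q := by
    rw [hg', ← pow_mul, ← pow_succ, ← hj]
    exact Nat.find_spec hex
  have hg'z : g' ∈ Subgroup.zpowers g := Subgroup.npow_mem_zpowers g _
  have hKmem : ∀ v ∈ V, g' * v ^ p * g'⁻¹ = v ^ p := by
    intro v hv
    set c := ⁅v, g'⁆ with hc
    have hc1 : c ∈ ⁅(Subgroup.center ↥Q).map Q.subtype, Subgroup.zpowers g⁆ :=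
      Subgroup.commutator_mem_commutator (hVZ v hv) hg'z
    have hc2 : Commute c g' := commutatorElement_eq_one_iff_commute.1
      (Subgroup.mem_bot.1 (hquad ▸ Subgroup.commutator_mem_commutator hc1 hg'z))
    have hcV : c ∈ V := by
      rw [hc, show ⁅v, g'⁆ = v * (g' * v⁻¹ * g'⁻¹) by simp [commutatorElement_def, mul_assoc]]
      exact mul_mem hv (hVconj g' _ (inv_mem hv))
    refine conj_pow_prime_eq (a := c⁻¹) ?_ ?_
      (show Commute c⁻¹ v from (Subgroup.mem_centralizer_iff.1 hv.2 _ (inv_mem hcV.1))) ?_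
    · simp [hc, commutatorElement_def, mul_assoc]
    · rw [← conj_inv, ← hc2.eq, mul_inv_cancel_right]
    · have hcm : v * g' ^ p = g' ^ p * v :=
        mul_inv_eq_iff_eq_mul.1 (mem_centralizer_iff'.1 hv.2 _ hg'p)
      rw [← hcm, mul_inv_cancel_right]
  -- the normal subgroup centralizing all `p`-th powers in `V`
  let K : Subgroup L :=
    { carrier := {x | ∀ v ∈ V, x * v ^ p * x⁻¹ = v ^ p}
      one_mem' := fun v _ => by simp
      mul_mem' := fun {x y} hx hy v hv => by
        calc x * y * v ^ p * (x * y)⁻¹ = x * (y * v ^ p * y⁻¹) * x⁻¹ := by group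
          _ = v ^ p := by rw [hy v hv, hx v hv]
      inv_mem' := fun {x} hx v hv => by
        calc x⁻¹ * v ^ p * x⁻¹⁻¹ = x⁻¹ * (x * v ^ p * x⁻¹) * x := by rw [hx v hv, inv_inv]
          _ = v ^ p := by group }
  haveI hKn : K.Normal := ⟨fun x hx y v hv => by
    have h1 := hx _ (hVconj y⁻¹ v hv)
    rw [conj_pow] at h1
    calc y * x * y⁻¹ * v ^ p * (y * x * y⁻¹)⁻¹ = y * (x * (y⁻¹ * v ^ p * y⁻¹⁻¹) * x⁻¹) * y⁻¹ := by
          group
      _ = v ^ p := by rw [h1]; group⟩
  set R := (T : Subgroup L) ⊓ K with hR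
  have hg'R : g' ∈ R := ⟨pow_mem hgT _, hKmem⟩
  have hRp : IsPGroup p R := T.2.to_le inf_le_left
  have hfrat : Subgroup.normalizer (R : Set L) ⊔ K = ⊤ := by
    have hi := not_dvd_relIndex_inf_of_normal T K
    let RS : Sylow p K := (hRp.of_equiv (Subgroup.subgroupOfEquivOfLe
      (inf_le_right : R ≤ K)).symm).toSylow hi
    have h := Sylow.normalizer_sup_eq_top RS
    rwa [show ((RS : Subgroup K).map K.subtype) = R from by
      show (R.subgroupOf K).map K.subtype = R
      rw [Subgroup.subgroupOf_map_subtype, inf_eq_left.2 (inf_le_right : R ≤ K)]] at h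
  have hTR : (T : Subgroup L) ≤ Subgroup.normalizer (R : Set L) := by
    intro t ht
    refine conjBy_eq_iff.1 (conjBy_eq_of_le (conjBy_le_iff.2 fun x hx => ?_))
    exact ⟨(T : Subgroup L).mul_mem ((T : Subgroup L).mul_mem ht hx.1) ((T : Subgroup L).inv_mem ht),
      hKn.conj_mem x hx.2 t⟩
  have hNfix : ∀ x ∈ Subgroup.normalizer (R : Set L), x * w ^ p * x⁻¹ = w ^ p := by
    intro x hx
    set M := Subgroup.normalizer (R : Set L) with hM
    have hMtop : M ≠ ⊤ := fun h => hg'Q (by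
      haveI : R.Normal := Subgroup.normalizer_eq_top_iff.1 h
      exact CfsgLib.Coprime.le_pCore hRp hg'R)
    have hlt : Nat.card M < n := hn ▸ lt_of_le_of_ne (Subgroup.card_le_card_group M)
      fun he => hMtop (Subgroup.eq_top_of_card_eq M he)
    have hQM : Q ≤ M := hQT.trans hTR
    haveI : (Q.subgroupOf M).Normal := inferInstance
    have hQle : Q.subgroupOf M ≤ Cfsg.pCore p M :=
      CfsgLib.Coprime.le_pCore (hQp.of_equiv (Subgroup.subgroupOfEquivOfLe hQM).symm)
    let T' : Sylow p M := T.subtype hTR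
    have hT' : (T' : Subgroup M) = (T : Subgroup L).subgroupOf M := Sylow.coe_subtype ..
    have hWM : (W ↥(T' : Subgroup M)).map (T' : Subgroup M).subtype =
        (W ↥(T : Subgroup L)).map (Subgroup.inclusion hTR) := by
      let e : ↥(T : Subgroup L) ≃* ↥(T' : Subgroup M) :=
        (Subgroup.subgroupOfEquivOfLe hTR).symm.trans (MulEquiv.subgroupCongr hT'.symm)
      rw [← hW2 _ _ T.2 e, Subgroup.map_map]
      rfl
    have hres := ih _ hlt M T' (fun y hy => hQle (show (y : L) ∈ Q from hC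
      (mem_centralizer_iff'.2 fun z hz => congrArg Subtype.val
        (mem_centralizer_iff'.1 hy ⟨z, hQM hz⟩ (hQle hz)))))
      ⟨w, hTR hwT⟩ (by rw [hT']; exact hwT)
      (fun t ht => Subtype.ext (hwc t (by rw [hT'] at ht; exact ht)))
      (fun y hy => Subtype.ext (hfix y (by
        refine conjBy_eq_iff.1 (conjBy_eq_of_le (conjBy_le_iff.2 fun z hz => ?_))
        obtain ⟨a, ha, rfl⟩ := hz
        rw [hWM] at hy
        obtain ⟨b, hb, hbe⟩ := (Subgroup.mem_normalizer_iff.1 hy (Subgroup.inclusion hTR a)).1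
          ⟨a, ha, rfl⟩
        exact ⟨b, hb, congrArg Subtype.val hbe⟩))) rfl
    exact congrArg Subtype.val (hres ⟨x, hx⟩)
  intro x
  have hH : (⊤ : Subgroup L) ≤ Subgroup.centralizer {w ^ p} := by
    rw [← hfrat]
    refine sup_le (fun y hy => ?_) fun y hy => ?_
    · exact Subgroup.mem_centralizer_iff.2 fun z hz => by
        rw [Set.mem_singleton_iff.1 hz]
        exact (mul_inv_eq_iff_eq_mul.1 (hNfix y hy)).symm
    · exact Subgroup.mem_centralizer_iff.2 fun z hz => by
        rw [Set.mem_singleton_iff.1 hz]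
        exact (mul_inv_eq_iff_eq_mul.1 (hy w hwV)).symm
  have := Subgroup.mem_centralizer_iff.1 (hH (Subgroup.mem_top x)) _ rfl
  rw [← this, mul_inv_cancel_right]

end CfsgLib.Fusion
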