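import Cfsg.Agent.Lib.Fusion.ZJFamilies
import Cfsg.Agent.Lib.Fusion.QuadraticFixed
import Cfsg.Agent.Lib.Fusion.Dichotomy
import Cfsg.Agent.Lib.Coprime.Core

/-!
# A quadratic element when the Thompson subgroup is not normal
-/

set_option autoImplicit false
set_option linter.style.haveILetI false

open Subgroup
open scoped commutatorElement

namespace CfsgLib.Fusion

variable {G : Type*} [Group G] [Finite G] {p : ℕ} [Fact p.Prime]

theorem le_of_maxAb_of_commute {D A Z : Subgroup G} (hA : A ∈ maxAb D) (hZD : Z ≤ D)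
    (hAZ : ∀ a ∈ A, ∀ z ∈ Z, a * z = z * a) : Z ≤ A := fun z hz =>
  mem_of_commute_maxAb hA (hZD hz) fun a ha => hAZ a ha z hz

/-- If `J(P)` is not normal, some element of `P` outside `O_p` acts quadratically on `Z(O_p)`. -/
theorem exists_quadratic_of_not_normal (P : Sylow p G)
    (h : ¬ (Cfsg.thompsonSubgroupAOf (P : Subgroup G)).Normal) :
    ∃ g : G, g ∈ (P : Subgroup G) ∧ g ∉ Cfsg.pCore p G ∧
      ⁅⁅Subgroup.center ↥(Cfsg.pCore p G) |>.map (Cfsg.pCore p G).subtype, Subgroup.zpowers g⁆,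
        Subgroup.zpowers g⁆ = ⊥ := by
  classical
  set Q := (Cfsg.pCore p G : Subgroup G) with hQdef
  haveI hQn : Q.Normal := CfsgLib.Coprime.pCore_normal' p
  have hQP : Q ≤ (P : Subgroup G) := (CfsgLib.Coprime.pCore_isPGroup p).le_sylow_of_normal P
  set Z := (Subgroup.center ↥Q).map Q.subtype with hZ
  haveI hZn : Z.Normal := inferInstance
  have hZQ : Z ≤ Q := Subgroup.map_subtype_le _
  have hZc : ∀ x ∈ Q, ∀ z ∈ Z, x * z = z * x := by
    rintro x hx _ ⟨z, hz, rfl⟩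
    exact congrArg Subtype.val (Subgroup.mem_center_iff.1 hz ⟨x, hx⟩)
  have quad : ∀ g : G, (∀ z ∈ Z, Commute ⁅z, g⁆ g) → ⁅⁅Z, Subgroup.zpowers g⁆, Subgroup.zpowers g⁆ = ⊥ := by
    intro g hg
    have hin : ⁅Z, Subgroup.zpowers g⁆ ≤ Subgroup.centralizer {g} := by
      refine Subgroup.commutator_le.2 fun z hz x hx => ?_
      obtain ⟨k, rfl⟩ := Subgroup.mem_zpowers_iff.1 hx
      refine Subgroup.mem_centralizer_singleton_iff.2 ?_
      clear hx
      induction k using Int.induction_on with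
      | zero => simp
      | succ k ih =>
        have e : ⁅z, g ^ ((k : ℤ) + 1)⁆ = ⁅z, g ^ (k : ℤ)⁆ * (g ^ (k : ℤ) * ⁅z, g⁆ * (g ^ (k : ℤ))⁻¹) := by
          rw [zpow_add, zpow_one, commutatorElement_def, commutatorElement_def, commutatorElement_def]
          group
        rw [e, show g ^ (k : ℤ) * ⁅z, g⁆ * (g ^ (k : ℤ))⁻¹ = ⁅z, g⁆ by
          rw [((hg z hz).symm.zpow_left k).eq, mul_inv_cancel_right]]
        exact (show Commute _ g from ih).mul_left (hg z hz)
      | pred k ih =>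
        have e : ⁅z, g ^ (-(k : ℤ) - 1)⁆ = ⁅z, g ^ (-(k : ℤ))⁆ *
            (g ^ (-(k : ℤ) - 1) * ⁅z, g⁆⁻¹ * (g ^ (-(k : ℤ) - 1))⁻¹) := by
          rw [zpow_sub, zpow_one, commutatorElement_def, commutatorElement_def, commutatorElement_def]
          group
        rw [e, show g ^ (-(k : ℤ) - 1) * ⁅z, g⁆⁻¹ * (g ^ (-(k : ℤ) - 1))⁻¹ = ⁅z, g⁆⁻¹ by
          rw [((hg z hz).inv_left.symm.zpow_left _).eq, mul_inv_cancel_right]]
        exact (show Commute _ g from ih).mul_left (hg z hz).inv_left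
    rw [eq_bot_iff, Subgroup.commutator_le]
    intro c hc x hx
    obtain ⟨k, rfl⟩ := Subgroup.mem_zpowers_iff.1 hx
    rw [Subgroup.mem_bot, commutatorElement_eq_one_iff_commute]
    exact (show Commute c g from Subgroup.mem_centralizer_singleton_iff.1 (hin hc)).zpow_right k
  by_cases hC : (P : Subgroup G) ⊓ Subgroup.centralizer (Z : Set G) ≤ Q
  swap
  · obtain ⟨g, ⟨hgP, hgC⟩, hgQ⟩ := SetLike.not_le_iff_exists.1 hC
    refine ⟨g, hgP, hgQ, quad g fun z hz => ?_⟩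
    have h1 : ⁅z, g⁆ = 1 := commutatorElement_eq_one_iff_mul_comm.2
      (Subgroup.mem_centralizer_iff.1 hgC z hz)
    rw [h1]
    exact Commute.one_left g
  obtain ⟨U, hU, hUQ⟩ : ∃ U ∈ maxAb (P : Subgroup G), ¬ U ≤ Q := by
    by_contra hcon
    push Not at hcon
    refine h ⟨fun x hx g => ?_⟩
    rw [thompsonSubgroupAOf_eq] at hx ⊢
    have hle : (sSup (maxAb (P : Subgroup G))).map (MulAut.conj g).toMonoidHom ≤
        sSup (maxAb (P : Subgroup G)) := by
      rw [(Subgroup.gc_map_comap _).l_sSup]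
      refine iSup₂_le fun A hA => le_sSup ?_
      have hAQ : A.map (MulAut.conj g).toMonoidHom ≤ Q := by
        rintro _ ⟨a, ha, rfl⟩
        exact hQn.conj_mem a (hcon A hA ha) g
      exact ⟨hAQ.trans hQP, isMulCommutative_map _ hA.2.1, fun B hB hBc => by
        rw [Subgroup.card_map_of_injective (MulAut.conj g).injective]
        exact hA.2.2 B hB hBc⟩
    exact hle ⟨x, hx, rfl⟩
  -- work inside `P`
  set T := (P : Subgroup G) with hT
  let 𝒜 : Set (Subgroup T) := {A | A ∈ maxAb (⊤ : Subgroup T) ∧ ¬ A ≤ Q.subgroupOf T}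
  haveI : (Z.subgroupOf T).Normal := hZn.subgroupOf T
  have hZcomm : IsMulCommutative (Z.subgroupOf T) := ⟨⟨fun a b => Subtype.ext (Subtype.ext
    (hZc _ (hZQ a.2) _ b.2))⟩⟩
  have hnotle : ∀ A : Subgroup T, A ∈ 𝒜 → ¬ Z.subgroupOf T ≤ A := by
    intro A hA hle
    refine hA.2 fun a ha => hC ⟨(a : T).2, Subgroup.mem_centralizer_iff.2 fun z hz => ?_⟩
    exact congrArg Subtype.val (congrArg Subtype.val
      (hA.1.2.1.is_comm.comm (⟨⟨z, hQP (hZQ hz)⟩, hle hz⟩ : A) ⟨a, ha⟩))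
  have hUT : U ≤ T := hU.1
  have hU' : U.subgroupOf T ∈ 𝒜 := by
    refine ⟨⟨le_top, isMulCommutative_subgroupOf hU.2.1, fun B _ hBc => ?_⟩,
      fun hle => hUQ fun x hx => @hle ⟨x, hUT hx⟩ hx⟩
    rw [Nat.card_congr (Subgroup.subgroupOfEquivOfLe hUT).toEquiv,
      Nat.card_congr (B.equivMapOfInjective T.subtype T.subtype_injective).toEquiv]
    exact hU.2.2 _ (Subgroup.map_subtype_le _) (isMulCommutative_map _ hBc)
  have hder : ∀ A : Subgroup T, ⁅Z.subgroupOf T, Z.subgroupOf T⁆ ≤ A := fun A => by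
    refine (le_of_eq (Subgroup.commutator_eq_bot_iff_le_centralizer.2 fun x hx =>
      Subgroup.mem_centralizer_iff.2 fun y hy => Subtype.ext (hZc _ (hZQ hy) _ hx))).trans bot_le
  obtain ⟨A, hA, -, -, hAn⟩ := exists_normalized_member P.isPGroup' (B := Z.subgroupOf T)
    (fun _ => hZcomm) 𝒜 (fun A hA => hA.1.2.1)
    (fun A hA b hr => ⟨rstar_mem_maxAb hA.1 hr, fun hle => by
      by_cases hb : b ∈ Subgroup.normalizer (A : Set T)
      · have hrA : rstar A b ≤ A := by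
          refine (le_of_eq RStep.rstar_eq_closure).trans ((Subgroup.closure_le _).2 ?_)
          rintro u (hu | ⟨a, ha, rfl⟩)
          · exact hu.1
          · rw [mul_assoc, mul_assoc, ← mul_assoc b⁻¹]
            exact mul_mem ha ((Subgroup.mem_normalizer_iff''.1 hb _).1 (inv_mem ha))
        exact hA.2 ((Subgroup.eq_of_le_of_card_ge hrA hr.card_rstar.ge).ge.trans hle)
      · exact (hr.inf_lt fun hn => hb (hn hr.mem)).ne (inf_eq_right.2 (le_of_maxAb_of_commute
          (rstar_mem_maxAb hA.1 hr) le_top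
          fun a ha z hz => Subtype.ext (hZc _ (hle ha) _ hz)))⟩)
    ⟨_, hU', hder _, hnotle _ hU'⟩
  obtain ⟨a, ha, haQ⟩ := SetLike.not_le_iff_exists.1 hA.2
  refine ⟨(a : G), a.2, fun h => haQ h, quad _ fun z hz => ?_⟩
  have hzA : ⁅(⟨z, hQP (hZQ hz)⟩ : T), a⁆ ∈ A := by
    rw [commutatorElement_def]
    exact mul_mem ((Subgroup.mem_normalizer_iff.1 (hAn (show (⟨z, hQP (hZQ hz)⟩ : T) ∈ Z.subgroupOf T
      from hz)) a).1 ha) (inv_mem ha)
  exact congrArg Subtype.val (congrArg Subtype.val (hA.1.2.1.is_comm.comm (⟨_, hzA⟩ : A) ⟨a, ha⟩))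

/-- If `J(T)` is not normal, a normal subgroup meeting `T` outside `O_p` fixes the `p`-th powers
of the central elements of `T`. -/
theorem exists_fix_subgroup (T : Sylow p G)
    (hC : Subgroup.centralizer ((Cfsg.pCore p G : Subgroup G) : Set G) ≤ Cfsg.pCore p G)
    (h : ¬ (Cfsg.thompsonSubgroupAOf (T : Subgroup G)).Normal) :
    ∃ K : Subgroup G, K.Normal ∧ ¬ (T : Subgroup G) ⊓ K ≤ Cfsg.pCore p G ∧
      ∀ x ∈ K, ∀ w ∈ (T : Subgroup G), (∀ t ∈ (T : Subgroup G), Commute t w) →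
        Commute x (w ^ p) := by
  classical
  obtain ⟨g, hgT, hgQ, hquad⟩ := exists_quadratic_of_not_normal T h
  set Q := (Cfsg.pCore p G : Subgroup G) with hQdef
  haveI hQn : Q.Normal := CfsgLib.Coprime.pCore_normal' p
  have hQT : Q ≤ (T : Subgroup G) := (CfsgLib.Coprime.pCore_isPGroup p).le_sylow_of_normal T
  set V := (Subgroup.center ↥Q).map Q.subtype with hV
  haveI hVn : V.Normal := inferInstance
  have hVc : ∀ x ∈ Q, ∀ v ∈ V, Commute x v := by
    rintro x hx _ ⟨v, hv, rfl⟩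
    exact congrArg Subtype.val (Subgroup.mem_center_iff.1 hv ⟨x, hx⟩)
  let K : Subgroup G :=
    { carrier := {x | ∀ v ∈ V, Commute x (v ^ p)}
      one_mem' := fun v _ => Commute.one_left _
      mul_mem' := fun {a b} ha hb v hv => (ha v hv).mul_left (hb v hv)
      inv_mem' := fun {a} ha v hv => (ha v hv).inv_left }
  have hKn : K.Normal := ⟨fun x hx y v hv => by
    have h1 : x * (y⁻¹ * v * y) ^ p = (y⁻¹ * v * y) ^ p * x :=
      (hx _ (hVn.conj_mem' v hv y)).eq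
    rw [show (y⁻¹ * v * y) ^ p = y⁻¹ * v ^ p * y by
      have h2 := conj_pow (i := p) (a := y⁻¹) (b := v)
      rwa [inv_inv] at h2] at h1
    show y * x * y⁻¹ * v ^ p = v ^ p * (y * x * y⁻¹)
    calc y * x * y⁻¹ * v ^ p = y * (x * (y⁻¹ * v ^ p * y)) * y⁻¹ := by group
      _ = y * (y⁻¹ * v ^ p * y * x) * y⁻¹ := by rw [h1]
      _ = v ^ p * (y * x * y⁻¹) := by group⟩
  obtain ⟨m, hm⟩ := T.2 ⟨g, hgT⟩
  have hex : ∃ k, g ^ p ^ k ∈ Q := ⟨m, by
    have h1 : g ^ p ^ m = 1 := congrArg Subtype.val hm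
    rw [h1]; exact one_mem _⟩
  obtain ⟨j, hj⟩ : ∃ j, Nat.find hex = j + 1 := Nat.exists_eq_succ_of_ne_zero fun h0 => hgQ (by
    have h1 := Nat.find_spec hex
    rwa [h0, pow_zero, pow_one] at h1)
  set g' := g ^ p ^ j with hg'
  have hg'Q : g' ∉ Q := Nat.find_min hex (by omega)
  have hg'p : g' ^ p ∈ Q := by
    rw [hg', ← pow_mul, ← pow_succ, ← hj]
    exact Nat.find_spec hex
  have hg'K : g' ∈ K := by
    intro v hv
    have hz : g' ∈ Subgroup.zpowers g := Subgroup.npow_mem_zpowers g _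
    have hc2 : Commute ⁅v, g'⁆ g' := commutatorElement_eq_one_iff_commute.1
      (Subgroup.mem_bot.1 (hquad ▸ Subgroup.commutator_mem_commutator
        (Subgroup.commutator_mem_commutator hv hz) hz))
    have hcV : ⁅v, g'⁆ ∈ V := by
      rw [show ⁅v, g'⁆ = v * (g' * v⁻¹ * g'⁻¹) by simp [commutatorElement_def, mul_assoc]]
      exact mul_mem hv (hVn.conj_mem _ (inv_mem hv) g')
    have h1 := conj_pow_prime_eq (g := g') (v := v) (a := ⁅v, g'⁆⁻¹) (p := p)
      (by simp [commutatorElement_def, mul_assoc])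
      (by rw [← conj_inv, ← hc2.eq, mul_inv_cancel_right])
      (hVc _ (inv_mem (Subgroup.map_subtype_le _ hcV)) v hv)
      (by rw [(hVc _ hg'p v hv).eq, mul_inv_cancel_right])
    exact mul_inv_eq_iff_eq_mul.1 h1
  refine ⟨K, hKn, fun hle => hg'Q (hle ⟨pow_mem hgT _, hg'K⟩), fun x hx w hw hwc => hx w ?_⟩
  have hwQ : w ∈ Q := hC (Subgroup.mem_centralizer_iff.2 fun t ht => (hwc t (hQT ht)).eq)
  exact ⟨⟨w, hwQ⟩, Subgroup.mem_center_iff.2 fun t => Subtype.ext (hwc t (hQT t.2)).eq, rfl⟩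

end CfsgLib.Fusion
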