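import Cfsg.Agent.Lib.Fusion.ZStarCenter
import Cfsg.Agent.Lib.Coprime.Core
import Cfsg.Agent.S0076
import Mathlib.GroupTheory.Complement
import Mathlib.Algebra.BigOperators.GroupWithZero.Finset

/-!
# Automorphisms centralizing an abelian Sylow 2-subgroup
-/

set_option autoImplicit false
set_option linter.unusedSectionVars false
set_option linter.style.haveILetI false

open scoped Pointwise

namespace CfsgLib.Fusion

universe u

/-- An element of two-power order over a self-centralizing normal subgroup without odd core, centralizing an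
abelian Sylow 2-subgroup of it, lies in it. -/
theorem mem_of_centralizes_abelian_sylow {Γ : Type u} [Group Γ] [Finite Γ] (I : Subgroup Γ) [I.Normal]
    (hC : Subgroup.centralizer (I : Set Γ) = ⊥) (hcore : Cfsg.pPrimeCore 2 I = ⊥) (P : Sylow 2 I)
    (hab : IsMulCommutative (P : Subgroup I)) (a : Γ) {j : ℕ} (hj : orderOf a = 2 ^ j)
    (htop : I ⊔ Subgroup.zpowers a = ⊤) (hfix : ∀ x : P, a * ((x : I) : Γ) = ((x : I) : Γ) * a) :
    a ∈ I := by
  classical
  haveI := Fact.mk Nat.prime_two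
  set P' := (P : Subgroup I).map I.subtype with hP'
  set A := P' ⊔ Subgroup.zpowers a with hA
  have hP'I : P' ≤ I := Subgroup.map_subtype_le _
  have haA : a ∈ A := Subgroup.mem_sup_right (Subgroup.mem_zpowers a)
  have hPA : P' ≤ A := le_sup_left
  have hAset : A = Subgroup.closure ((P' : Set Γ) ∪ {a}) := by
    rw [Subgroup.closure_union, Subgroup.closure_eq, ← Subgroup.zpowers_eq_closure]
  have hAcomm : ∀ x ∈ A, ∀ y ∈ A, x * y = y * x := by
    have hgen : ∀ x ∈ (P' : Set Γ) ∪ {a}, ∀ y ∈ (P' : Set Γ) ∪ {a}, x * y = y * x := by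
      rintro x (⟨x', hx', rfl⟩ | rfl) y (⟨y', hy', rfl⟩ | rfl)
      · exact congrArg Subtype.val (congrArg Subtype.val (mul_comm' (M := (P : Subgroup I)) ⟨x', hx'⟩ ⟨y', hy'⟩))
      · exact (hfix ⟨x', hx'⟩).symm
      · exact hfix ⟨y', hy'⟩
      · rfl
    intro x hx y hy
    rw [hAset] at hx hy
    exact congrArg Subtype.val
      ((Subgroup.isMulCommutative_closure hgen).is_comm.comm (⟨x, hx⟩ : Subgroup.closure _) ⟨y, hy⟩)
  have hnorm : Subgroup.zpowers a ≤ Subgroup.normalizer (P' : Set Γ) := by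
    rw [Subgroup.zpowers_le, Subgroup.mem_normalizer_iff]
    intro h
    have hf : ∀ x ∈ P', a * x * a⁻¹ = x := fun x hx => by
      rw [hAcomm a haA x (hPA hx), mul_inv_cancel_right]
    refine ⟨fun hh => by rw [hf h hh]; exact hh, fun hh => ?_⟩
    have := hf _ hh
    rw [mul_right_cancel_iff, mul_right_inj] at this
    exact this ▸ hh
  have hPp : IsPGroup 2 P' := P.2.map _
  have hap : IsPGroup 2 (Subgroup.zpowers a) := IsPGroup.of_card (n := j) (by rw [Nat.card_zpowers, hj])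
  have hAp : IsPGroup 2 A := hPp.to_sup_of_normal_left' hap hnorm
  have hidx : ¬ 2 ∣ A.index := by
    have hle : A ⊔ I = ⊤ := eq_top_iff.mpr (htop.ge.trans (sup_le le_sup_right
      ((Subgroup.zpowers_le.mpr haA).trans le_sup_left)))
    have h1 : A.index = A.relIndex I := by
      have e1 : (A ⊓ I).relIndex I * I.index = (A ⊓ I).index :=
        Subgroup.relIndex_mul_index inf_le_right
      have e2 : (A ⊓ I).relIndex A * A.index = (A ⊓ I).index :=
        Subgroup.relIndex_mul_index inf_le_left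
      have e3 : I.relIndex A = I.index := by
        rw [← Subgroup.relIndex_sup_right (H := A) (K := I), hle, Subgroup.relIndex_top_right]
      rw [Subgroup.inf_relIndex_right] at e1
      rw [Subgroup.inf_relIndex_left, e3, ← e1, mul_comm] at e2
      exact Nat.eq_of_mul_eq_mul_right (Nat.pos_of_ne_zero Subgroup.index_ne_zero_of_finite) e2
    intro hd
    rw [h1] at hd
    have h2 : P'.relIndex I = (P : Subgroup I).index := by
      rw [hP', Subgroup.relIndex, Subgroup.subgroupOf, Subgroup.comap_map_eq_self_of_injective I.subtype_injective]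
    exact P.not_dvd_index (h2 ▸ hd.trans (Subgroup.relIndex_dvd_of_le_left I hPA))
  let S : Sylow 2 Γ := hAp.toSylow hidx
  have hSA : (S : Subgroup Γ) = A := rfl
  have hcapI : A ⊓ I ≤ P' := by
    have h1 : (A ⊓ I).subgroupOf I = (P : Subgroup I) := P.3
      (hAp.to_le inf_le_left |>.comap_subtype) fun x hx =>
        Subgroup.mem_subgroupOf.mpr ⟨hPA ⟨x, hx, rfl⟩, x.2⟩
    intro x hx
    exact ⟨⟨x, hx.2⟩, h1 ▸ Subgroup.mem_subgroupOf.mpr hx, rfl⟩
  -- the commutators lie in the normal subgroup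
  have hcI : ∀ g : Γ, g * a * g⁻¹ * a⁻¹ ∈ I := by
    intro g
    have hg : g ∈ (I : Set Γ) * (Subgroup.zpowers a : Set Γ) := by
      rw [← Subgroup.normal_mul, htop]; trivial
    obtain ⟨i, hi, b, hb, rfl⟩ := Set.mem_mul.mp hg
    obtain ⟨k, rfl⟩ := hb
    have e : i * a ^ k * a * (i * a ^ k)⁻¹ * a⁻¹ = i * (a * i⁻¹ * a⁻¹) := by
      rw [mul_inv_rev, mul_assoc i (a ^ k) a, ((Commute.refl a).zpow_left k).eq]
      group
    show i * a ^ k * a * (i * a ^ k)⁻¹ * a⁻¹ ∈ I
    rw [e]
    exact mul_mem hi (Subgroup.Normal.conj_mem inferInstance _ (inv_mem hi) a)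
  set N := Subgroup.normalizer (A : Set Γ) with hN
  have hconj : ∀ n ∈ N, ∀ x ∈ A, n * x * n⁻¹ ∈ A := fun n hn x hx =>
    (Subgroup.mem_normalizer_iff.mp hn x).mp hx
  letI : CommGroup A :=
    { (inferInstance : Group A) with mul_comm := fun x y => Subtype.ext (hAcomm _ x.2 _ y.2) }
  let cj : N → (A →* A) := fun n => MonoidHom.mk'
    (fun x => ⟨(n : Γ) * x * (n : Γ)⁻¹, hconj _ n.2 _ x.2⟩)
    fun x y => Subtype.ext (by simp [mul_assoc])
  have hcj : ∀ (n m : N) (x : A), cj (n * m) x = cj n (cj m x) := fun n m x =>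
    Subtype.ext (by simp [cj, mul_assoc])
  have hcjA : ∀ (n : N) (h : N), (h : Γ) ∈ A → ∀ x : A, cj (n * h) x = cj n x := fun n h hh x => by
    rw [hcj]
    refine congrArg _ (Subtype.ext ?_)
    show (h : Γ) * x * (h : Γ)⁻¹ = x
    rw [hAcomm _ hh _ x.2, mul_inv_cancel_right]
  set AN := A.subgroupOf N with hAN
  let aA : A := ⟨a, haA⟩
  haveI := Fintype.ofFinite (N ⧸ AN)
  set c : A := ∏ q : N ⧸ AN, cj q.out aA with hc
  have hcfix : ∀ n : N, cj n c = c := by
    intro n
    rw [hc, map_prod]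
    refine Fintype.prod_equiv (MulAction.toPerm n) _ _ fun q => ?_
    obtain ⟨h, hh⟩ := QuotientGroup.mk_out_eq_mul AN (n * q.out)
    have e : MulAction.toPerm n q = ((n * q.out : N) : N ⧸ AN) := by
      conv_lhs => rw [← QuotientGroup.out_eq' q]
      rfl
    rw [e, hh, hcjA _ _ (Subgroup.mem_subgroupOf.mp h.2), hcj]
  set m := AN.index with hm
  have hmodd : Nat.Coprime m (2 ^ j) := by
    refine Nat.Coprime.pow_right j ((Nat.prime_two.coprime_iff_not_dvd.mpr fun hd => hidx (hd.trans ?_)).symm)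
    exact Subgroup.relIndex_dvd_index_of_le Subgroup.le_normalizer
  set PA := P'.subgroupOf A with hPA'
  have hcm : c⁻¹ * aA ^ m ∈ PA := by
    rw [← QuotientGroup.eq (s := PA), ← QuotientGroup.mk'_apply, ← QuotientGroup.mk'_apply, hc, map_prod,
      map_pow]
    rw [Finset.prod_eq_pow_card (b := QuotientGroup.mk' PA aA) fun q _ => ?_]
    · rw [Finset.card_univ, ← Nat.card_eq_fintype_card]; rfl
    · refine ((QuotientGroup.eq (s := PA)).mpr ?_).symm
      rw [Subgroup.mem_subgroupOf, Subgroup.coe_mul, Subgroup.coe_inv]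
      refine hcapI ⟨A.mul_mem (A.inv_mem haA) (cj q.out aA).2, ?_⟩
      show a⁻¹ * ((q.out : Γ) * a * (q.out : Γ)⁻¹) ∈ I
      rw [show a⁻¹ * ((q.out : Γ) * a * (q.out : Γ)⁻¹) =
        a⁻¹ * ((q.out : Γ) * a * (q.out : Γ)⁻¹ * a⁻¹) * a⁻¹⁻¹ by group]
      exact Subgroup.Normal.conj_mem inferInstance _ (hcI _) _
  obtain ⟨k, hk, hk2⟩ := Nat.chineseRemainder hmodd 0 1
  obtain ⟨k', hk'⟩ : m ∣ k := Nat.modEq_zero_iff_dvd.mp hk
  set c' := c ^ k' with hc'
  have hak : aA ^ (m * k') = aA := by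
    refine Subtype.ext ?_
    rw [SubgroupClass.coe_pow, ← hk']
    conv_rhs => rw [← pow_one ((aA : A) : Γ)]
    exact pow_eq_pow_iff_modEq.mpr (hj.symm ▸ hk2)
  have hca : c'⁻¹ * aA ∈ PA := by
    have := pow_mem hcm k'
    rwa [mul_pow, inv_pow, ← pow_mul, hak] at this
  have hclosed : ∀ w ∈ Subgroup.zpowers (c' : Γ), ∀ g : Γ, g * w * g⁻¹ ∈ (S : Subgroup Γ) →
      g * w * g⁻¹ = w := by
    rintro _ ⟨i, rfl⟩ g hg
    have hwA : ((c' : Γ)) ^ i ∈ A := zpow_mem c'.2 i
    obtain ⟨n, hn, hne⟩ := Cfsg.Agent.S0076.result S {((c' : Γ)) ^ i} {g * (c' : Γ) ^ i * g⁻¹}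
      (Set.singleton_subset_iff.mpr hwA) (Set.singleton_subset_iff.mpr hg)
      (fun x hx => by rw [Set.image_singleton, hAcomm x hx _ hwA, mul_inv_cancel_right])
      (fun x hx => by rw [Set.image_singleton, hAcomm x hx _ hg, mul_inv_cancel_right]) g
      (Set.image_singleton ..)
    rw [Set.image_singleton, Set.singleton_eq_singleton_iff] at hne
    show g * (c' : Γ) ^ i * g⁻¹ = (c' : Γ) ^ i
    rw [← hne]
    have h := congrArg Subtype.val
      (show cj ⟨n, hn⟩ (c' ^ i) = c' ^ i by rw [map_zpow, hc', map_pow, hcfix])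
    simpa [cj] using h
  have hO : Cfsg.pPrimeCore 2 Γ = ⊥ := by
    set O := Cfsg.pPrimeCore 2 Γ with hO
    have hcopO : (Nat.card O).Coprime 2 := CfsgLib.Coprime.pPrimeCore_coprime Nat.prime_two
    have h1 : O.subgroupOf I ≤ Cfsg.pPrimeCore 2 I := CfsgLib.Coprime.le_pPrimeCore_of_not_dvd Nat.prime_two
      fun hd => Nat.prime_two.coprime_iff_not_dvd.mp hcopO.symm
        (hd.trans (Subgroup.card_comap_dvd_of_injective O I.subtype I.subtype_injective))
    have h2 : Disjoint O I := Subgroup.subgroupOf_eq_bot.mp (le_bot_iff.mp (hcore ▸ h1))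
    have h3 : O ≤ Subgroup.centralizer (I : Set Γ) := fun x hx => Subgroup.mem_centralizer_iff.mpr fun y hy =>
      (Subgroup.commute_of_normal_of_disjoint O I inferInstance inferInstance h2 x y hx hy).eq.symm
    exact le_bot_iff.mp (hC ▸ h3)
  have hz := zcentral_of_closed_subgroup Γ S (Subgroup.zpowers (c' : Γ)) (Subgroup.zpowers_le.mpr c'.2)
    hclosed _ (Subgroup.mem_zpowers _)
  have h1 : (c' : Γ) ∈ Subgroup.centralizer (I : Set Γ) := Subgroup.mem_centralizer_iff.mpr fun y _ => by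
    have := hz y
    rw [hO, Subgroup.mem_bot, mul_inv_eq_one, mul_inv_eq_iff_eq_mul] at this
    exact this
  rw [hC, Subgroup.mem_bot] at h1
  have h2 : (c'⁻¹ * aA : A).val ∈ P' := Subgroup.mem_subgroupOf.mp hca
  rw [Subgroup.coe_mul, Subgroup.coe_inv, h1, inv_one, one_mul] at h2
  exact hP'I h2

/-- An automorphism of 2-power order fixing an abelian Sylow 2-subgroup pointwise is inner. -/
theorem isInner_of_fixes_abelian_sylow {G : Type u} [Group G] [Finite G] (hZ : Subgroup.center G = ⊥)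
    (hcore : Cfsg.pPrimeCore 2 G = ⊥) (P : Sylow 2 G) (hab : IsMulCommutative (P : Subgroup G))
    (α : MulAut G) {j : ℕ} (hj : orderOf α = 2 ^ j) (hfix : ∀ x ∈ (P : Subgroup G), α x = x) :
    ∃ g : G, ∀ x : G, α x = g * x * g⁻¹ := by
  haveI := Fact.mk Nat.prime_two
  set f : G →* MulAut G := MulAut.conj with hf
  have hcomm : ∀ (β : MulAut G) (g : G), β * f g * β⁻¹ = f (β g) := fun β g =>
    MulEquiv.ext fun x => by simp [hf]
  have hfn : f.range.Normal := ⟨by
    rintro _ ⟨g, rfl⟩ β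
    exact ⟨β g, (hcomm β g).symm⟩⟩
  set Γ := f.range ⊔ Subgroup.zpowers α with hΓ
  let ι : G →* Γ := f.codRestrict Γ fun g => Subgroup.mem_sup_left ⟨g, rfl⟩
  have hι : Function.Injective ι := by
    rw [injective_iff_map_eq_one]
    intro g hg
    rw [← Subgroup.mem_bot, ← hZ, Subgroup.mem_center_iff]
    intro h
    have := DFunLike.congr_fun (congrArg Subtype.val hg) h
    simp only [ι, hf, MonoidHom.codRestrict_apply, MulAut.conj_apply, OneMemClass.coe_one,
      MulAut.one_apply, mul_inv_eq_iff_eq_mul] at this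
    exact this.symm
  set I := ι.range with hI
  have hIn : I.Normal := ⟨by
    rintro _ ⟨g, rfl⟩ β
    exact ⟨(β : MulAut G) g, Subtype.ext (hcomm β g).symm⟩⟩
  let e : G ≃* I := MonoidHom.ofInjective hι
  have hC : Subgroup.centralizer (I : Set Γ) = ⊥ := le_bot_iff.mp fun β hβ => Subgroup.mem_bot.mpr
    (Subtype.ext (MulEquiv.ext fun g => by
      have h := congrArg Subtype.val (Subgroup.mem_centralizer_iff.mp hβ (ι g) ⟨g, rfl⟩)
      have h2 : f ((β : MulAut G) g) = f g := by
        rw [← hcomm, mul_inv_eq_iff_eq_mul]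
        exact h.symm
      exact hι (Subtype.ext h2)))
  have hcoreI : Cfsg.pPrimeCore 2 I = ⊥ := le_bot_iff.mp fun x hx => by
    have hle : (Cfsg.pPrimeCore 2 I).comap e.toMonoidHom ≤ Cfsg.pPrimeCore 2 G :=
      CfsgLib.Coprime.le_pPrimeCore_of_not_dvd Nat.prime_two fun hd =>
        Nat.prime_two.coprime_iff_not_dvd.mp (CfsgLib.Coprime.pPrimeCore_coprime (G := I) Nat.prime_two).symm
          (hd.trans (Subgroup.card_comap_dvd_of_injective _ e.toMonoidHom e.injective))
    have h := hle (show e.symm x ∈ (Cfsg.pPrimeCore 2 I).comap e.toMonoidHom by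
      rw [Subgroup.mem_comap, MulEquiv.coe_toMonoidHom, MulEquiv.apply_symm_apply]; exact hx)
    rw [hcore, Subgroup.mem_bot, MulEquiv.map_eq_one_iff] at h
    exact Subgroup.mem_bot.mpr h
  let P₁ : Sylow 2 I := P.mapSurjective (f := e.toMonoidHom) e.surjective
  have hP₁ : (P₁ : Subgroup I) = (P : Subgroup G).map e.toMonoidHom := Sylow.coe_mapSurjective _ P
  have hab₁ : IsMulCommutative (P₁ : Subgroup I) := by
    refine ⟨⟨fun x y => Subtype.ext ?_⟩⟩
    obtain ⟨x', hx', ex⟩ := hP₁.le x.2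
    obtain ⟨y', hy', ey⟩ := hP₁.le y.2
    rw [Subgroup.coe_mul, Subgroup.coe_mul, ← ex, ← ey, ← map_mul, ← map_mul]
    exact congrArg _ (congrArg Subtype.val (mul_comm' (M := (P : Subgroup G)) ⟨x', hx'⟩ ⟨y', hy'⟩))
  let a : Γ := ⟨α, Subgroup.mem_sup_right (Subgroup.mem_zpowers α)⟩
  have htop : I ⊔ Subgroup.zpowers a = ⊤ := by
    apply Subgroup.map_injective Γ.subtype_injective
    rw [Subgroup.map_sup, MonoidHom.map_zpowers, ← MonoidHom.range_eq_map, Subgroup.range_subtype]
    rw [hI, ← MonoidHom.range_comp]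
    rfl
  obtain ⟨g, hg⟩ := mem_of_centralizes_abelian_sylow I hC hcoreI P₁ hab₁ a (by
    rw [← Subgroup.orderOf_coe]; exact hj) htop fun x => by
      obtain ⟨x', hx', ex⟩ := hP₁.le x.2
      rw [← ex]
      refine Subtype.ext ?_
      show α * f x' = f x' * α
      rw [← mul_inv_eq_iff_eq_mul, hcomm, hfix x' hx']
  exact ⟨g, fun x => (DFunLike.congr_fun (congrArg Subtype.val hg) x).symm⟩

end CfsgLib.Fusion
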