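import Cfsg.Agent.Lib.Fusion.Sylow
import Mathlib.GroupTheory.Nilpotent
import Mathlib.Algebra.Polynomial.AlgebraMap
import Mathlib.Data.Nat.Choose.Dvd
import Mathlib.RingTheory.Ideal.Quotient.Operations
import Mathlib.RingTheory.Nilpotent.Basic
import Mathlib.Data.Finset.Max
import Mathlib.Data.Set.Finite.Lemmas

/-!
# Powers of central elements of a Sylow subgroup of small class are fixed by all `p`-elements
-/

set_option autoImplicit false
set_option linter.style.haveILetI false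

open Subgroup Finset
open scoped commutatorElement

namespace CfsgLib.Fusion

/-- `p^n (x - 1)` lies in the ideal of `x^p - 1` and `(x - 1)^(n (p - 1) + 1)`. -/
theorem exists_pow_mul_sub_one {R : Type*} [CommRing R] (x : R) {p : ℕ} (hp : p.Prime) (n : ℕ) :
    ∃ A B : R, (p : R) ^ n * (x - 1) = A * (x ^ p - 1) + B * (x - 1) ^ (n * (p - 1) + 1) := by
  obtain ⟨m, rfl⟩ : ∃ m, p = m + 2 := ⟨p - 2, by have := hp.two_le; omega⟩
  set u := x - 1 with hu
  set f : ℕ → R := fun i => ((m + 2).choose (i + 1) : R) * u ^ i with hf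
  have hsum : x ^ (m + 2) - 1 = u * ∑ i ∈ range (m + 2), f i := by
    have hx : x = u + 1 := by rw [hu]; ring
    rw [hx, add_pow, sum_range_succ' _ (m + 2), mul_sum]
    simp only [hf, one_pow, mul_one, pow_zero, Nat.choose_zero_right, Nat.cast_one, one_mul,
      add_sub_cancel_right]
    exact sum_congr rfl fun i _ => by ring
  have hs : ∃ s : R, ∑ i ∈ range (m + 2), f i = u ^ (m + 1) + (m + 2 : ℕ) * (1 + u * s) := by
    have hd : ∀ i ∈ range m, ∃ c : ℕ, (m + 2).choose (i + 2) = (m + 2) * c := fun i hi =>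
      hp.dvd_choose_self (by omega) (by have := mem_range.1 hi; omega)
    choose! c hc using hd
    refine ⟨∑ i ∈ range m, (c i : R) * u ^ i, ?_⟩
    rw [sum_range_succ, sum_range_succ', mul_sum, mul_add, mul_sum, hf]
    simp only [Nat.choose_self, Nat.choose_one_right, zero_add, pow_zero]
    rw [sum_congr rfl fun i hi => show ((m + 2).choose (i + 1 + 1) : R) * u ^ (i + 1) =
      ((m + 2 : ℕ) : R) * (u * ((c i : R) * u ^ i)) by rw [hc i hi, Nat.cast_mul]; ring]
    push_cast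
    ring
  obtain ⟨s, hs⟩ := hs
  let I := Ideal.span ({∑ i ∈ range (m + 2), f i, u ^ (n * (m + 1))} : Set R)
  set q := Ideal.Quotient.mk I
  have h0 : q (∑ i ∈ range (m + 2), f i) = 0 :=
    Ideal.Quotient.eq_zero_iff_mem.2 (Ideal.subset_span (Set.mem_insert _ _))
  have h1 : q u ^ (n * (m + 1)) = 0 := by
    rw [← map_pow]
    exact Ideal.Quotient.eq_zero_iff_mem.2 (Ideal.subset_span (Set.mem_insert_of_mem _ rfl))
  rw [hs, map_add, map_mul, map_pow, map_add, map_one, map_mul, map_natCast] at h0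
  have hnil : IsNilpotent (q u * q s) := by
    refine ⟨n * (m + 1) + 1, ?_⟩
    rw [pow_succ, mul_pow, h1, zero_mul, zero_mul]
  obtain ⟨g, hg⟩ := hnil.isUnit_one_add.exists_right_inv
  have hp' : ((m + 2 : ℕ) : R ⧸ I) = -(q u ^ (m + 1)) * g := by
    rw [neg_eq_of_add_eq_zero_right h0, mul_assoc, hg, mul_one]
  have hmem : ((m + 2 : ℕ) : R) ^ n ∈ I := by
    rw [← Ideal.Quotient.eq_zero_iff_mem, map_pow, map_natCast, hp', mul_pow, neg_pow, ← pow_mul,
      mul_comm (m + 1) n, h1, mul_zero, zero_mul]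
  obtain ⟨a, b, hab⟩ := Ideal.mem_span_pair.1 hmem
  exact ⟨a, b, by rw [← hab, hsum, show m + 2 - 1 = m + 1 by omega, pow_succ]; ring⟩

variable {L : Type*} [Group L]

theorem map_lowerCentralSeries' {H : Type*} [Group H] (f : L →* H) (S : Subgroup L) :
    ∀ k, (S.lowerCentralSeries k).map f = (S.map f).lowerCentralSeries k
  | 0 => rfl
  | k + 1 => by
    rw [Subgroup.lowerCentralSeries_succ, Subgroup.lowerCentralSeries_succ,
      Subgroup.map_commutator, map_lowerCentralSeries' f S k]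

variable {p : ℕ} [Fact p.Prime]

theorem isPGroup_zpowers_mem {T : Subgroup L} (hT : IsPGroup p T) {a : L} (ha : a ∈ T) :
    IsPGroup p (Subgroup.zpowers a) :=
  hT.to_le (Subgroup.zpowers_le.2 ha)

/-- A sharper step: `p^n`-th powers are fixed by `a` when `a^p` fixes and `a` is unipotent. -/
theorem commute_pow_of_iterate {V : Subgroup L} [V.Normal] (hV : ∀ x ∈ V, ∀ y ∈ V, Commute x y)
    {a z : L} (hz : z ∈ V) (hap : Commute (a ^ p) z) {n : ℕ}
    (hit : (fun v => ⁅a, v⁆)^[n * (p - 1) + 1] z = 1) : Commute a (z ^ p ^ n) := by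
  haveI : IsMulCommutative V := ⟨⟨fun x y => Subtype.ext (hV x x.2 y y.2).eq⟩⟩
  letI : CommGroup V := { (inferInstance : Group V) with
    mul_comm := fun x y => Subtype.ext (hV x x.2 y y.2).eq }
  let φ : Module.End ℤ (Additive V) :=
    (MonoidHom.toAdditive ((MulAut.conjNormal a : MulAut V).toMonoidHom)).toIntLinearMap
  have hφ : ∀ v : V, φ (Additive.ofMul v) = Additive.ofMul (MulAut.conjNormal a v) := fun v => rfl
  have hpow : ∀ (i : ℕ) (v : V),
      (φ ^ i) (Additive.ofMul v) = Additive.ofMul (MulAut.conjNormal (a ^ i) v) := by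
    intro i
    induction i with
    | zero => intro v; simp
    | succ i ih =>
      intro v
      rw [pow_succ', Module.End.mul_apply, ih, hφ, pow_succ', map_mul, MulAut.mul_apply]
  have hcom : ∀ i : ℕ, ((((φ - 1) ^ i) (Additive.ofMul ⟨z, hz⟩)).toMul : L) =
      (fun v => ⁅a, v⁆)^[i] z := by
    intro i
    induction i with
    | zero => rfl
    | succ i ih =>
      rw [pow_succ', Module.End.mul_apply, Function.iterate_succ_apply', ← ih]
      generalize ((φ - 1) ^ i) (Additive.ofMul ⟨z, hz⟩) = w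
      obtain ⟨v, rfl⟩ := Additive.ofMul.surjective w
      rw [LinearMap.sub_apply, Module.End.one_apply, hφ, toMul_sub, toMul_ofMul, toMul_ofMul,
        commutatorElement_def, Subgroup.coe_div, MulAut.conjNormal_apply, div_eq_mul_inv]
  set w := Additive.ofMul (⟨z, hz⟩ : V)
  have h1 : (φ ^ p) w = w := by
    rw [hpow]
    refine congrArg Additive.ofMul (Subtype.ext ?_)
    rw [MulAut.conjNormal_apply]
    exact mul_inv_eq_iff_eq_mul.2 hap.eq
  have h2 : ((φ - 1) ^ (n * (p - 1) + 1)) w = 0 := by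
    refine Additive.toMul.injective (Subtype.ext ?_)
    rw [hcom]
    exact hit
  obtain ⟨A, B, h⟩ := exists_pow_mul_sub_one (Polynomial.X : Polynomial ℤ)
    (Fact.out : p.Prime) n
  have h3 := congrArg (fun f => (Polynomial.aeval φ f) w) h
  simp only [map_mul, map_pow, map_sub, map_one, map_add, map_natCast, Polynomial.aeval_X,
    Module.End.mul_apply, LinearMap.add_apply] at h3
  rw [h2, map_zero, add_zero, LinearMap.sub_apply (φ ^ p), h1, Module.End.one_apply, sub_self,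
    map_zero, ← Nat.cast_pow, Module.End.natCast_apply, LinearMap.sub_apply, Module.End.one_apply,
    hφ, ← ofMul_div, ← ofMul_pow, ofMul_eq_zero, div_pow, div_eq_one, ← map_pow] at h3
  have h4 := congrArg Subtype.val h3
  rw [MulAut.conjNormal_apply, SubmonoidClass.coe_pow] at h4
  exact mul_inv_eq_iff_eq_mul.1 h4

variable [Finite L]

theorem iterate_commutator_eq_one {T : Subgroup L} {k : ℕ} (hk : T.lowerCentralSeries k = ⊥)
    {a v : L} (ha : a ∈ T) (hv : v ∈ T) : (fun v => ⁅a, v⁆)^[k] v = 1 := by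
  have h : ∀ i, (fun v => ⁅a, v⁆)^[i] v ∈ T.lowerCentralSeries i := by
    intro i
    induction i with
    | zero => exact hv
    | succ i ih =>
      rw [Function.iterate_succ_apply', Subgroup.lowerCentralSeries_succ, Subgroup.commutator_comm]
      exact Subgroup.commutator_mem_commutator ha ih
  exact Subgroup.mem_bot.1 (hk ▸ h k)

/-- All `p`-elements fix the `p^n`-th powers of central elements of a Sylow subgroup of class
at most `n (p - 1) + 1`. -/
theorem commute_pow_of_small_class (T : Sylow p L) {n : ℕ}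
    (hcl : (T : Subgroup L).lowerCentralSeries (n * (p - 1) + 1) = ⊥) {V : Subgroup L} [V.Normal]
    (hVp : IsPGroup p V) (hV : ∀ x ∈ V, ∀ y ∈ V, Commute x y) {z : L} (hz : z ∈ V)
    (hzT : ∀ t ∈ (T : Subgroup L), Commute t z) {a : L} (ha : IsPGroup p (Subgroup.zpowers a)) :
    Commute a (z ^ p ^ n) := by
  have hp : p.Prime := Fact.out
  set C := Subgroup.centralizer ({z ^ p ^ n} : Set L) with hC
  have hmemC : ∀ x : L, x ∈ C ↔ Commute x (z ^ p ^ n) := fun x =>
    ⟨fun h => Subgroup.mem_centralizer_singleton_iff.1 h,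
      fun h => Subgroup.mem_centralizer_singleton_iff.2 h⟩
  have hTC : (T : Subgroup L) ≤ C := fun t ht => (hmemC t).2 ((hzT t ht).pow_right _)
  have hclR : ∀ R : Sylow p L, (R : Subgroup L).lowerCentralSeries (n * (p - 1) + 1) = ⊥ := by
    intro R
    obtain ⟨g, rfl⟩ := MulAction.exists_smul_eq L T R
    have e : ((g • T : Sylow p L) : Subgroup L) =
        (T : Subgroup L).map (MulAut.conj g).toMonoidHom := rfl
    rw [e, ← map_lowerCentralSeries', hcl, Subgroup.map_bot]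
  have hVR : ∀ R : Sylow p L, V ≤ (R : Subgroup L) := by
    intro R
    obtain ⟨R₀, hR₀⟩ := hVp.exists_le_sylow
    obtain ⟨g, rfl⟩ := MulAction.exists_smul_eq L R₀ R
    intro v hv
    exact ⟨g⁻¹ * v * g, hR₀ (Subgroup.Normal.conj_mem' inferInstance v hv g), by simp [mul_assoc]⟩
  have step : ∀ (b w : L), IsPGroup p (Subgroup.zpowers b) → w ∈ V → Commute (b ^ p) w →
      Commute b (w ^ p ^ n) := by
    intro b w hb hw hbw
    obtain ⟨R, hR⟩ := hb.exists_le_sylow
    exact commute_pow_of_iterate hV hw hbw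
      (iterate_commutator_eq_one (hclR R) (hR (Subgroup.mem_zpowers b)) (hVR R hw))
  suffices h : ∀ R : Sylow p L, (R : Subgroup L) ≤ C by
    obtain ⟨R, hR⟩ := ha.exists_le_sylow
    exact (hmemC a).1 (h R (hR (Subgroup.mem_zpowers a)))
  by_contra hcon
  push Not at hcon
  haveI : Finite (Sylow p L) := inferInstance
  let bad : Set (Sylow p L × Sylow p L) := {x | ¬ (x.1 : Subgroup L) ≤ C ∧ (x.2 : Subgroup L) ≤ C}
  obtain ⟨R₀, hR₀⟩ := hcon
  obtain ⟨⟨R, R'⟩, ⟨hR, hR'⟩, hmax⟩ := Set.exists_max_image bad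
    (fun x => Nat.card ↥((x.1 : Subgroup L) ⊓ x.2)) bad.toFinite ⟨(R₀, T), hR₀, hTC⟩
  set D := (R : Subgroup L) ⊓ R' with hD
  -- `D` fixes a conjugate of `z` under `C`
  obtain ⟨g, hg, hgR'⟩ : ∃ g ∈ C, ∀ x ∈ (R' : Subgroup L), g⁻¹ * x * g ∈ (T : Subgroup L) := by
    obtain ⟨g, hg⟩ := MulAction.exists_smul_eq C (T.subtype hTC) (R'.subtype hR')
    refine ⟨g, g.2, fun x hx => ?_⟩
    have hx' : (⟨x, hR' hx⟩ : C) ∈ ((g • T.subtype hTC : Sylow p C) : Subgroup C) := hg ▸ hx
    obtain ⟨t, ht, hte⟩ := hx'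
    have h5 : (g : L) * t * (g : L)⁻¹ = x := congrArg Subtype.val hte
    rw [← h5]
    simpa [mul_assoc] using Subgroup.mem_subgroupOf.1 ht
  set z' := g * z * g⁻¹ with hz'
  have hz'V : z' ∈ V := Subgroup.Normal.conj_mem inferInstance z hz g
  have hpz : z' ^ p ^ n = z ^ p ^ n := by
    rw [hz', conj_pow, ((hmemC g).1 hg).eq]
    group
  have hDz' : ∀ x ∈ D, Commute x z' := fun x hx => by
    have h := (hzT _ (hgR' x hx.2)).eq
    show x * (g * z * g⁻¹) = g * z * g⁻¹ * x
    calc x * (g * z * g⁻¹) = g * (g⁻¹ * x * g * z) * g⁻¹ := by group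
      _ = g * (z * (g⁻¹ * x * g)) * g⁻¹ := by rw [h]
      _ = g * z * g⁻¹ * x := by group
  set K := Subgroup.closure {b : L | b ∈ Subgroup.normalizer (D : Set L) ∧
    IsPGroup p (Subgroup.zpowers b) ∧ b ^ p ∈ D} with hK
  have hKC : K ≤ C := (Subgroup.closure_le _).2 fun b ⟨_, hb, hbp⟩ =>
    (hmemC b).2 (hpz ▸ step b z' hb hz'V (hDz' _ hbp))
  have hgrow : ∀ Q : Sylow p L, D ≤ (Q : Subgroup L) → ¬ (Q : Subgroup L) ≤ D →
      D < (Q : Subgroup L) ⊓ K := by
    intro Q hDQ hQD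
    obtain ⟨b, hbQ, hbD, hbN, hbp⟩ : ∃ b ∈ (Q : Subgroup L), b ∉ D ∧
        b ∈ Subgroup.normalizer (D : Set L) ∧ b ^ p ∈ D := by
      have hlt : D < (Q : Subgroup L) ⊓ Subgroup.normalizer (D : Set L) := by
        refine lt_of_le_of_ne (le_inf hDQ Subgroup.le_normalizer) fun he => hQD ?_
        haveI : Finite ↥(Q : Subgroup L) := inferInstance
        haveI := Q.2.isNilpotent
        have h := Group.normalizerCondition_of_isNilpotent (G := ↥(Q : Subgroup L)) (D.subgroupOf Q)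
        by_contra hn
        obtain ⟨y, hy, hyD⟩ := SetLike.exists_of_lt (h (lt_top_iff_ne_top.2 fun ht =>
          hn (Subgroup.subgroupOf_eq_top.1 ht)))
        refine hyD (Subgroup.mem_subgroupOf.2 ?_)
        rw [he]
        refine ⟨y.2, ?_⟩
        refine Subgroup.mem_normalizer_iff.2 fun x => ⟨fun hx => ?_, fun hx => ?_⟩
        · exact (Subgroup.mem_normalizer_iff.1 hy ⟨x, hDQ hx⟩).1 hx
        · have hxQ : x ∈ (Q : Subgroup L) := by
            have h6 := mul_mem (mul_mem (inv_mem y.2) (hDQ hx)) y.2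
            simpa [mul_assoc] using h6
          exact (Subgroup.mem_normalizer_iff.1 hy ⟨x, hxQ⟩).2 hx
      obtain ⟨c, ⟨hcQ, hcN⟩, hcD⟩ := SetLike.exists_of_lt hlt
      obtain ⟨j, hj⟩ := Q.2 ⟨c, hcQ⟩
      have hex : ∃ i, c ^ p ^ i ∈ D := ⟨j, by
        have h7 : c ^ p ^ j = 1 := congrArg Subtype.val hj
        rw [h7]
        exact one_mem D⟩
      classical
      have h0 : Nat.find hex ≠ 0 := fun h => hcD (by
        have h8 := Nat.find_spec hex
        rwa [h, pow_zero, pow_one] at h8)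
      obtain ⟨i, hi⟩ := Nat.exists_eq_succ_of_ne_zero h0
      refine ⟨c ^ p ^ i, pow_mem hcQ _, Nat.find_min hex (by omega), pow_mem hcN _, ?_⟩
      rw [← pow_mul, ← pow_succ]
      have h10 := Nat.find_spec hex
      rwa [hi] at h10
    refine lt_of_le_of_ne (le_inf hDQ fun x hx => Subgroup.subset_closure
      ⟨Subgroup.le_normalizer hx, isPGroup_zpowers_mem Q.2 (hDQ hx), pow_mem hx p⟩) fun he => hbD ?_
    rw [he]
    exact ⟨hbQ, Subgroup.subset_closure ⟨hbN, isPGroup_zpowers_mem Q.2 hbQ, hbp⟩⟩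
  have hlt₁ : D < (R : Subgroup L) ⊓ K := hgrow R inf_le_left fun h => hR ((h.trans inf_le_right).trans hR')
  have hlt₂ : D < (R' : Subgroup L) ⊓ K := hgrow R' inf_le_right fun h => by
    have h1 : (R' : Subgroup L) ≤ R := h.trans inf_le_left
    exact hR ((R'.3 R.2 h1).le.trans hR')
  obtain ⟨RK, hRK⟩ := ((R'.2.to_le inf_le_left).comap_of_injective K.subtype
    K.subtype_injective).exists_le_sylow (G := K) (P := ((R' : Subgroup L) ⊓ K).subgroupOf K)
  obtain ⟨RK₁, hRK₁⟩ := ((R.2.to_le inf_le_left).comap_of_injective K.subtype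
    K.subtype_injective).exists_le_sylow (G := K) (P := ((R : Subgroup L) ⊓ K).subgroupOf K)
  obtain ⟨k, hk⟩ := MulAction.exists_smul_eq K RK₁ RK
  obtain ⟨T₃, hT₃⟩ := (RK.2.map K.subtype).exists_le_sylow
  have hbig : ∀ (Q₁ Q₂ : Sylow p L) (X : Subgroup L), D < X → X ≤ Q₁ → X ≤ Q₂ →
      (Q₂ : Subgroup L) ≤ C → (Q₁ : Subgroup L) ≤ C := by
    intro Q₁ Q₂ X hX h₁ h₂ hQ₂
    by_contra hQ₁
    have h1 : Nat.card ↥((Q₁ : Subgroup L) ⊓ Q₂) ≤ Nat.card D := hmax (Q₁, Q₂) ⟨hQ₁, hQ₂⟩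
    have h2 : D < (Q₁ : Subgroup L) ⊓ Q₂ := hX.trans_le (le_inf h₁ h₂)
    exact h2.ne (Subgroup.eq_of_le_of_card_ge h2.le h1)
  have h3C : (T₃ : Subgroup L) ≤ C := hbig T₃ R' ((R' : Subgroup L) ⊓ K) hlt₂
    (fun x hx => hT₃ ⟨⟨x, hx.2⟩, hRK hx, rfl⟩) inf_le_left hR'
  let R₄ : Sylow p L := (k : L) • R
  have hR₄ : (R₄ : Subgroup L) ≤ C := by
    have hkD : ∀ x ∈ D, (k : L) * x * (k : L)⁻¹ ∈ D := fun x hx => by
      have hN : K ≤ Subgroup.normalizer (D : Set L) := (Subgroup.closure_le _).2 fun b hb => hb.1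
      exact (Subgroup.mem_normalizer_iff.1 (hN k.2) x).1 hx
    refine hbig R₄ T₃ (((R : Subgroup L) ⊓ K).map (MulAut.conj (k : L)).toMonoidHom) ?_
      (Subgroup.map_mono inf_le_left) ?_ h3C
    · have e : D.map (MulAut.conj (k : L)).toMonoidHom = D := by
        refine Subgroup.eq_of_le_of_card_ge ?_
          (Subgroup.card_map_of_injective (MulAut.conj (k : L)).injective).ge
        rintro _ ⟨x, hx, rfl⟩
        exact hkD x hx
      rw [← e]
      exact (Subgroup.map_lt_map_iff_of_injective (MulAut.conj (k : L)).injective).2 hlt₁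
    · rintro _ ⟨x, hx, rfl⟩
      refine hT₃ ⟨k * ⟨x, hx.2⟩ * k⁻¹, ?_, rfl⟩
      rw [← hk]
      exact ⟨⟨x, hx.2⟩, hRK₁ hx, rfl⟩
  refine hR fun x hx => ?_
  have hy : (k : L) * x * (k : L)⁻¹ ∈ C := hR₄ ⟨x, hx, rfl⟩
  have h9 := mul_mem (mul_mem (inv_mem (hKC k.2)) hy) (hKC k.2)
  simpa [mul_assoc] using h9

end CfsgLib.Fusion
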