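import Cfsg.Agent.Lib.Fusion.AlperinGoldschmidt
import Cfsg.Agent.Lib.Fusion.Residual
import Cfsg.Agent.Lib.CFun.PNilpotent
import Cfsg.Agent.Lib.Coprime.Hyperplanes
import Cfsg.Agent.Lib.PGroup.EmbeddedForms
import Cfsg.Agent.S3056

/-!
# The strong form of Alperin's fusion theorem

The conjugation family consists of the fully normalized centric subgroups `E` whose automizer has a strongly
`p`-embedded subgroup, the conjugating elements lie in `O^p(X)`, `X / E` the smallest normal subgroup of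
`N(E) / E` of order divisible by `p`, and one element of `N(P)` is split off at the end.
-/

set_option autoImplicit false
set_option linter.style.haveILetI false
set_option linter.unusedSectionVars false

open Subgroup

namespace CfsgLib.Fusion.Strong

open CfsgLib.Fusion.Goldschmidt

universe u v

/-! ### Groups with a strongly `p`-embedded subgroup -/

section Embedded

variable {H : Type u} [Group H] [Finite H] {p : ℕ} [hpf : Fact p.Prime] {K : Subgroup H}

theorem mem_of_pElement_conj_mem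
    (hse : ∀ g : H, g ∉ K → ¬ p ∣ Nat.card ↥(K ⊓ K.map (MulAut.conj g).toMonoidHom))
    {c g : H} (hc : c ∈ K) (hcp : orderOf c = p) (hg : g * c * g⁻¹ ∈ K) : g ∈ K := by
  by_contra hgK
  refine hse g hgK ?_
  have h1 : g * c * g⁻¹ ∈ K ⊓ K.map (MulAut.conj g).toMonoidHom := ⟨hg, c, hc, rfl⟩
  have h2 : orderOf (g * c * g⁻¹) = p := by
    rw [← hcp]; exact (MulAut.conj g).orderOf_eq c
  exact h2 ▸ Subgroup.orderOf_dvd_natCard _ h1

/-- Two normal subgroups of order divisible by `p` meet in one. -/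
theorem dvd_card_inf_of_embedded (hK : K ≠ ⊤) (hpK : p ∣ Nat.card K)
    (hse : ∀ g : H, g ∉ K → ¬ p ∣ Nat.card ↥(K ⊓ K.map (MulAut.conj g).toMonoidHom))
    (Y₁ Y₂ : Subgroup H) [Y₁.Normal] [Y₂.Normal] (h1 : p ∣ Nat.card Y₁) (h2 : p ∣ Nat.card Y₂) :
    p ∣ Nat.card ↥(Y₁ ⊓ Y₂) := by
  by_contra hW
  have hp : p.Prime := Fact.out
  have hNF := CfsgLib.PEmb.ConjForm.normForm (p := p) hse
  obtain ⟨S, hS⟩ := hNF.exists_sylow_le hpK
  have key : ∀ Y : Subgroup H, Y.Normal → p ∣ Nat.card Y →
      ∃ a ∈ (S : Subgroup H) ⊓ Y, orderOf a = p := by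
    intro Y hY hd
    haveI := hY
    have h3 : p ∣ Nat.card ↥((S : Subgroup H) ⊓ Y) := by
      have h4 := not_dvd_relIndex_inf_of_normal S Y
      have h5 : Nat.card ↥((S : Subgroup H) ⊓ Y) * ((S : Subgroup H) ⊓ Y).relIndex Y = Nat.card Y := by
        rw [← relIndex_bot_left, ← relIndex_bot_left]
        exact relIndex_mul_relIndex ⊥ _ Y bot_le inf_le_right
      rw [← h5] at hd
      exact (hp.dvd_mul.1 hd).resolve_right h4
    obtain ⟨a, ha⟩ := exists_prime_orderOf_dvd_card' (G := ↥((S : Subgroup H) ⊓ Y)) p h3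
    exact ⟨a, a.2, by rw [orderOf_coe, ha]⟩
  obtain ⟨a, ⟨haS, haY⟩, hao⟩ := key Y₁ inferInstance h1
  obtain ⟨b, ⟨hbS, hbY⟩, hbo⟩ := key Y₂ inferInstance h2
  have hWS : (Y₁ ⊓ Y₂) ⊓ (S : Subgroup H) = ⊥ := by
    obtain ⟨n, hn⟩ := IsPGroup.iff_card.1 S.2
    refine inf_eq_bot_of_coprime ?_
    rw [hn]
    exact ((hp.coprime_iff_not_dvd.2 hW).symm).pow_right n
  have hab : a * b = b * a := by
    have h3 : a * b * a⁻¹ * b⁻¹ ∈ (Y₁ ⊓ Y₂) ⊓ (S : Subgroup H) := by
      refine ⟨⟨?_, ?_⟩, mul_mem (mul_mem (mul_mem haS hbS) (Subgroup.inv_mem _ haS)) (Subgroup.inv_mem _ hbS)⟩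
      · rw [mul_assoc a b, mul_assoc a]
        exact mul_mem haY ((inferInstance : Y₁.Normal).conj_mem _ (Subgroup.inv_mem _ haY) b)
      · exact mul_mem ((inferInstance : Y₂.Normal).conj_mem _ hbY a) (Subgroup.inv_mem _ hbY)
    rw [hWS, mem_bot] at h3
    calc a * b = a * b * a⁻¹ * b⁻¹ * (b * a) := by group
      _ = b * a := by rw [h3, one_mul]
  set A := closure ({a, b} : Set H) with hA
  have hAS : A ≤ (S : Subgroup H) := (closure_le _).2 (by
    rintro x (rfl | rfl) <;> assumption)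
  haveI hAc : IsMulCommutative A := by
    refine isMulCommutative_closure ?_
    rintro x (rfl | rfl) y (rfl | rfl)
    · rfl
    · exact hab
    · exact hab.symm
    · rfl
  have hAe : Cfsg.IsElementaryAbelian p A := by
    refine ⟨hAc, fun x hx => ?_⟩
    have hcomm : ∀ x ∈ A, ∀ y ∈ A, Commute x y := fun x hx y hy =>
      congrArg Subtype.val (hAc.is_comm.comm (⟨x, hx⟩ : A) ⟨y, hy⟩)
    induction hx using closure_induction with
    | mem y hy =>
      rcases hy with rfl | rfl
      · rw [← hao]; exact pow_orderOf_eq_one _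
      · rw [← hbo]; exact pow_orderOf_eq_one _
    | one => exact one_pow p
    | mul y z hy hz h4 h5 => rw [(hcomm y hy z hz).mul_pow, h4, h5, one_mul]
    | inv y _ h4 => rw [inv_pow, h4, inv_one]
  have hA2 : p ^ 2 ≤ Nat.card A := by
    have hzA : zpowers a ≤ A := zpowers_le.2 (subset_closure (Set.mem_insert _ _))
    have hbA : b ∈ A := subset_closure (Set.mem_insert_of_mem _ rfl)
    have hne : zpowers a ≠ A := fun e => by
      have hb1 : b ∈ (Y₁ ⊓ Y₂) ⊓ (S : Subgroup H) :=
        ⟨⟨zpowers_le.2 haY (e ▸ hbA), hbY⟩, hbS⟩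
      rw [hWS, mem_bot] at hb1
      exact hp.ne_one (by rw [← hbo, hb1, orderOf_one])
    obtain ⟨n, hn⟩ := IsPGroup.iff_card.1 (S.2.to_le hAS)
    have h3 : p < Nat.card A := by
      refine lt_of_le_of_ne ?_ fun e => hne (eq_of_le_of_card_ge hzA ?_)
      · rw [← hao, ← Nat.card_zpowers]; exact Subgroup.card_le_of_le hzA
      · rw [Nat.card_zpowers, hao, e]
    rw [hn] at h3 ⊢
    refine Nat.pow_le_pow_right hp.pos ?_
    by_contra h4
    have h5 := Nat.pow_le_pow_right hp.pos (show n ≤ 1 by omega)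
    rw [pow_one] at h5
    omega
  have hWK : Y₁ ⊓ Y₂ ≤ K := by
    refine CfsgLib.Coprime.le_of_hyperplanes hAe hA2 hW (by rw [normalizer_eq_top]; exact le_top)
      fun E hE hEi => ?_
    have hE1 : E ≠ ⊥ := by
      rintro rfl
      rw [relIndex_bot_left] at hEi
      rw [hEi] at hA2
      have := hp.two_le
      nlinarith
    obtain ⟨e, he, he1⟩ : ∃ e ∈ E, e ≠ 1 := by
      by_contra h
      push Not at h
      exact hE1 ((eq_bot_iff_forall _).2 h)
    intro x hx
    have heK : e ∈ K := hS (hAS (hE he))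
    have heo : orderOf e = p := orderOf_eq_prime (hAe.2 e (hE he)) he1
    refine mem_of_pElement_conj_mem hse heK heo ?_
    rw [show x * e * x⁻¹ = e by rw [← mem_centralizer_iff.1 hx.2 e he, mul_inv_cancel_right]]
    exact heK
  have hYK : Y₁ ≤ K := fun y hy => by
    refine mem_of_pElement_conj_mem hse (hS hbS) hbo ?_
    have h3 : y * b * y⁻¹ * b⁻¹ ∈ K := hWK ⟨by
      rw [mul_assoc y b, mul_assoc y]
      exact mul_mem hy ((inferInstance : Y₁.Normal).conj_mem _ (inv_mem hy) b),
      mul_mem ((inferInstance : Y₂.Normal).conj_mem _ hbY y) (Subgroup.inv_mem _ hbY)⟩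
    simpa [mul_assoc] using mul_mem h3 (hS hbS)
  exact hK (eq_top_iff.2 fun g _ => mem_of_pElement_conj_mem hse (hS haS) hao
    (hYK ((inferInstance : Y₁.Normal).conj_mem _ haY g)))

theorem dvd_card_of_not_connected (h : ¬ Cfsg.IsSylowChainConnected p H) : p ∣ Nat.card H := by
  obtain ⟨K, -, hpK, -⟩ := (Cfsg.Agent.S3056.result p).1 h
  exact hpK.trans (card_subgroup_dvd_card K)

/-- The smallest normal subgroup of order divisible by `p`. -/
theorem exists_least_normal (h : ¬ Cfsg.IsSylowChainConnected p H) :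
    ∃ X : Subgroup H, X.Normal ∧ p ∣ Nat.card X ∧
      ∀ Y : Subgroup H, Y.Normal → p ∣ Nat.card Y → X ≤ Y := by
  obtain ⟨K, hK, hpK, hse⟩ := (Cfsg.Agent.S3056.result p).1 h
  obtain ⟨X, hX, hmin⟩ := (Set.toFinite {X : Subgroup H | X.Normal ∧ p ∣ Nat.card X}).exists_minimal
    ⟨⊤, inferInstance, by rw [card_top]; exact dvd_card_of_not_connected h⟩
  refine ⟨X, hX.1, hX.2, fun Y hY hd => ?_⟩
  haveI := hX.1
  exact (hmin ⟨inferInstance, dvd_card_inf_of_embedded hK hpK hse X Y hX.2 hd⟩ inf_le_left).trans inf_le_right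

theorem not_connected_of_equiv {H' : Type v} [Group H'] [Finite H'] (e : H ≃* H')
    (h : ¬ Cfsg.IsSylowChainConnected p H) : ¬ Cfsg.IsSylowChainConnected p H' := by
  obtain ⟨K, hK, hpK, hse⟩ := (Cfsg.Agent.S3056.result p).1 h
  refine (Cfsg.Agent.S3056.result p).2 ⟨K.map e.toMonoidHom, fun he => hK ?_,
    by rwa [card_map_of_injective e.injective], fun g hg hd => ?_⟩
  · apply map_injective (f := e.toMonoidHom) e.injective
    rw [he, map_top_of_surjective _ e.surjective]
  · obtain ⟨g, rfl⟩ := e.surjective g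
    refine hse g (fun h' => hg (mem_map_of_mem _ h')) ?_
    have h3 : (K.map e.toMonoidHom).map (MulAut.conj (e g)).toMonoidHom =
        (K.map (MulAut.conj g).toMonoidHom).map e.toMonoidHom := by
      rw [map_map, map_map]
      congr 1
      ext x
      simp
    rwa [h3, ← map_inf _ _ _ e.injective, card_map_of_injective e.injective] at hd

end Embedded

/-! ### The steps -/

variable {G : Type u} [Group G] {p : ℕ}

/-- A step of the strong form. -/
def Step (P : Sylow p G) (E X : Subgroup G) (x : G) : Prop :=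
  E ≤ (P : Subgroup G) ∧
    ¬ p ∣ ((P : Subgroup G) ⊓ normalizer (E : Set G)).relIndex (normalizer (E : Set G)) ∧
    (P : Subgroup G) ⊓ centralizer (E : Set G) ≤ E ∧
    corePP p E = E ⊔ centralizer (E : Set G) ∧
    ¬ Cfsg.IsSylowChainConnected p
      (↥(normalizer (E : Set G)) ⧸ E.subgroupOf (normalizer (E : Set G))) ∧
    (E ≤ X ∧ X ≤ normalizer (E : Set G) ∧ (X.subgroupOf (normalizer (E : Set G))).Normal ∧
      p ∣ E.relIndex X ∧
      ∀ Y : Subgroup G, E ≤ Y → Y ≤ normalizer (E : Set G) →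
        (Y.subgroupOf (normalizer (E : Set G))).Normal → p ∣ E.relIndex Y → X ≤ Y) ∧
    x ∈ (Cfsg.pResidual p ↥X).map X.subtype

theorem Step.mem_normalizer {P : Sylow p G} {E X : Subgroup G} {x : G} (h : Step P E X x) :
    x ∈ normalizer (E : Set G) :=
  h.2.2.2.2.2.1.2.1 (map_subtype_le _ h.2.2.2.2.2.2)

/-- `O_{p',p}` is natural. -/
theorem map_pPrimePCore_equiv {X : Type u} [Group X] [Finite X] [Fact p.Prime] {X' : Type v} [Group X']
    [Finite X'] (e : X ≃* X') :
    (Cfsg.pPrimePCore p X).map e.toMonoidHom = Cfsg.pPrimePCore p X' := by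
  haveI := CfsgLib.Coprime.pPrimeCore_characteristic (G := X) p
  haveI := CfsgLib.Coprime.pPrimeCore_characteristic (G := X') p
  have hK : (Cfsg.pPrimeCore p X).map e.toMonoidHom = Cfsg.pPrimeCore p X' :=
    CfsgLib.Coprime.map_pPrimeCore_equiv e p
  let q := QuotientGroup.congr (Cfsg.pPrimeCore p X) (Cfsg.pPrimeCore p X') e hK
  have hq : (Cfsg.pCore p (X ⧸ Cfsg.pPrimeCore p X)).map q.toMonoidHom =
      Cfsg.pCore p (X' ⧸ Cfsg.pPrimeCore p X') := CfsgLib.Coprime.map_pCore_equiv q p
  ext y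
  obtain ⟨x, rfl⟩ := e.surjective y
  rw [show e x = e.toMonoidHom x from rfl, mem_map_iff_mem (f := e.toMonoidHom) e.injective]
  simp only [Cfsg.pPrimePCore, mem_comap]
  rw [← hq, ← mem_map_iff_mem (f := q.toMonoidHom) q.injective]
  rfl

/-- The automizer is carried along by an automorphism. -/
theorem Step.map [Finite G] [Fact p.Prime] {P : Sylow p G} {E X : Subgroup G} {x : G} (h : Step P E X x)
    (e : G ≃* G) (hP : (P : Subgroup G).map e.toMonoidHom = P) :
    Step P (E.map e.toMonoidHom) (X.map e.toMonoidHom) (e x) := by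
  obtain ⟨hEP, hN, hC, hO, hnc, ⟨hEX, hXN, hXn, hXi, hXm⟩, hx⟩ := h
  have hNe : (normalizer (E : Set G)).map e.toMonoidHom =
      normalizer ((E.map e.toMonoidHom : Subgroup G) : Set G) := map_equiv_normalizer_eq E e
  have hCe : (centralizer (E : Set G)).map e.toMonoidHom =
      centralizer ((E.map e.toMonoidHom : Subgroup G) : Set G) := by
    ext y
    obtain ⟨z, rfl⟩ := e.surjective y
    rw [show e z = e.toMonoidHom z from rfl, mem_map_iff_mem (f := e.toMonoidHom) e.injective,
      mem_centralizer_iff, mem_centralizer_iff]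
    refine ⟨?_, fun h' w hw => e.injective ?_⟩
    · rintro h' _ ⟨w, hw, rfl⟩
      rw [← map_mul, h' w hw, map_mul]
    · simpa using h' (e w) ⟨w, hw, rfl⟩
  let f : ↥(normalizer (E : Set G)) ≃* ↥(normalizer ((E.map e.toMonoidHom : Subgroup G) : Set G)) :=
    (equivMapOfInjective _ e.toMonoidHom e.injective).trans (MulEquiv.subgroupCongr hNe)
  have hfs : ∀ K : Subgroup ↥(normalizer (E : Set G)),
      (K.map f.toMonoidHom).map (normalizer ((E.map e.toMonoidHom : Subgroup G) : Set G)).subtype =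
        (K.map (normalizer (E : Set G)).subtype).map e.toMonoidHom := fun K => by
    rw [map_map, map_map]
    rfl
  have hfsub : ∀ Y : Subgroup G, (Y.subgroupOf (normalizer (E : Set G))).map f.toMonoidHom =
      (Y.map e.toMonoidHom).subgroupOf (normalizer ((E.map e.toMonoidHom : Subgroup G) : Set G)) := by
    intro Y
    ext y
    obtain ⟨n, rfl⟩ := f.surjective y
    rw [show f n = f.toMonoidHom n from rfl, mem_map_iff_mem (f := f.toMonoidHom) f.injective,
      mem_subgroupOf, mem_subgroupOf]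
    show _ ↔ e (n : G) ∈ Y.map e.toMonoidHom
    exact (mem_map_iff_mem (f := e.toMonoidHom) e.injective).symm
  refine ⟨(map_mono hEP).trans hP.le, ?_, ?_, ?_, ?_,
    ⟨map_mono hEX, (map_mono hXN).trans hNe.le, ?_, ?_, fun Y hY1 hY2 hY3 hY4 => ?_⟩, ?_⟩
  · rw [← hNe]
    conv => arg 1; arg 2; arg 1; arg 1; rw [← hP]
    rwa [← map_inf _ _ _ e.injective, relIndex_map_map_of_injective _ _ e.injective]
  · conv_lhs => rw [← hP, ← hCe, ← map_inf _ _ _ e.injective]
    exact map_mono hC
  · rw [corePP, ← map_pPrimePCore_equiv (p := p) f, hfs, ← hCe, ← Subgroup.map_sup]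
    exact congrArg _ hO
  · exact not_connected_of_equiv (QuotientGroup.congr _ _ f (hfsub E)) hnc
  · rw [← hfsub]
    exact hXn.map _ f.surjective
  · rwa [relIndex_map_map_of_injective _ _ e.injective]
  · have hback : (Y.map e.symm.toMonoidHom).map e.toMonoidHom = Y := by
      rw [map_map]
      ext y
      simp
    rw [← hback]
    refine map_mono (hXm _ ?_ ?_ ?_ ?_)
    · exact fun z hz => ⟨e z, hY1 ⟨z, hz, rfl⟩, e.symm_apply_apply z⟩
    · rintro _ ⟨y, hy, rfl⟩
      obtain ⟨z, hz, rfl⟩ := hNe.ge (hY2 hy)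
      simpa using hz
    · have h1 : (Y.map e.symm.toMonoidHom).subgroupOf (normalizer (E : Set G)) =
          (Y.subgroupOf _).comap f.toMonoidHom := by
        ext n
        rw [mem_subgroupOf, mem_comap, mem_subgroupOf]
        show _ ↔ e (n : G) ∈ Y
        constructor
        · rintro ⟨y, hy, h'⟩
          rw [← h']
          simpa using hy
        · exact fun h' => ⟨e n, h', e.symm_apply_apply _⟩
      rw [h1]
      exact hY3.comap _
    · rw [← hback, relIndex_map_map_of_injective _ _ e.injective] at hY4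
      exact hY4
  · obtain ⟨x', hx', rfl⟩ := hx
    exact ⟨(e.toMonoidHom.subgroupMap X) x',
      CfsgLib.CFun.map_pResidual_le _ (mem_map_of_mem _ hx'), rfl⟩

/-- A chain of steps. -/
inductive GC (P : Sylow p G) : Subgroup G → G → Prop
  | nil (D : Subgroup G) : GC P D 1
  | cons {D : Subgroup G} {g : G} (E X : Subgroup G) (x : G) (hx : Step P E X x)
      (hD : D ≤ E) (h : GC P (conjBy x⁻¹ D) g) : GC P D (x * g)

namespace GC

variable {P : Sylow p G}

theorem mono {D : Subgroup G} {g : G} (h : GC P D g) : ∀ {D' : Subgroup G}, D' ≤ D → GC P D' g := by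
  induction h with
  | nil D => intro D' _; exact GC.nil D'
  | cons E X x hx hD _ ih =>
    intro D' hle
    exact GC.cons E X x hx (hle.trans hD) (ih (conjBy_mono hle))

theorem comp {D : Subgroup G} {g : G} (h₁ : GC P D g) :
    ∀ {h : G}, GC P (conjBy g⁻¹ D) h → GC P D (g * h) := by
  induction h₁ with
  | nil D => intro h h₂; rw [inv_one, conjBy_one] at h₂; rwa [one_mul]
  | cons E X x hx hD _ ih =>
    intro h h₂
    rw [_root_.mul_inv_rev, ← conjBy_conjBy] at h₂
    rw [mul_assoc]
    exact GC.cons E X x hx hD (ih h₂)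

theorem conj [Finite G] [Fact p.Prime] {y : G} (hy : y ∈ normalizer ((P : Subgroup G) : Set G))
    {D : Subgroup G} {g : G} (h : GC P D g) : GC P (conjBy y D) (y * g * y⁻¹) := by
  induction h with
  | nil D => rw [mul_one, mul_inv_cancel]; exact GC.nil _
  | @cons D g E X x hx hD _ ih =>
    rw [show y * (x * g) * y⁻¹ = (MulAut.conj y x) * (y * g * y⁻¹) by simp [mul_assoc]]
    refine GC.cons _ _ _ (hx.map (MulAut.conj y) (conjBy_eq_iff.2 hy)) (conjBy_mono hD) ?_
    rw [conjBy_conjBy]
    rw [conjBy_conjBy] at ih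
    rwa [show (MulAut.conj y x)⁻¹ * y = y * x⁻¹ by simp [mul_assoc]]

/-- The chain as sequences. -/
theorem exists_seq {D : Subgroup G} {g : G} (h : GC P D g) : ∀ A : Set G, A ⊆ (D : Set G) →
    ∃ (n : ℕ) (H X : Fin n → Subgroup G) (x : Fin n → G), (List.ofFn x).prod = g ∧
      ∀ i : Fin n, Step P (H i) (X i) (x i) ∧
        (fun a => (((List.ofFn x).take i.val).prod)⁻¹ * a * ((List.ofFn x).take i.val).prod) '' A ⊆
          (H i : Set G) := by
  induction h with
  | nil D =>
    intro A _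
    exact ⟨0, Fin.elim0, Fin.elim0, Fin.elim0, by simp, fun i => i.elim0⟩
  | @cons D g E X x hx hD _ ih =>
    intro A hA
    obtain ⟨n, H', X', x', hprod, hmem⟩ := ih ((fun a => x⁻¹ * a * x) '' A) (by
      rintro _ ⟨a, ha, rfl⟩
      refine ⟨a, hA ha, ?_⟩
      simp)
    refine ⟨n + 1, Fin.cons E H', Fin.cons X X', Fin.cons x x', ?_, Fin.cases ⟨hx, ?_⟩ fun j => ⟨(hmem j).1, ?_⟩⟩
    · rw [List.ofFn_cons, List.prod_cons, hprod]
    · rintro _ ⟨a, ha, rfl⟩
      simpa using hD (hA ha)
    · rintro _ ⟨a, ha, rfl⟩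
      have h1 := (hmem j).2 ⟨x⁻¹ * a * x, ⟨a, ha, rfl⟩, rfl⟩
      simp only [Fin.val_succ, List.ofFn_cons, List.take_succ_cons, List.prod_cons, Fin.cons_succ] at h1 ⊢
      convert h1 using 1
      rw [_root_.mul_inv_rev]
      simp only [mul_assoc]

end GC

/-- A chain up to a centralizing element on the left and an element of `N(P)` on the right. -/
def Conn (P : Sylow p G) (D : Subgroup G) (g : G) : Prop :=
  ∃ c ∈ centralizer (D : Set G), ∃ (h y : G), GC P D h ∧ y ∈ normalizer ((P : Subgroup G) : Set G) ∧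
    g = c * h * y

namespace Conn

variable {P : Sylow p G}

theorem of_centralizer {D : Subgroup G} {c : G} (hc : c ∈ centralizer (D : Set G)) : Conn P D c :=
  ⟨c, hc, 1, 1, GC.nil D, one_mem _, by rw [mul_one, mul_one]⟩

theorem of_normalizer {D : Subgroup G} {y : G} (hy : y ∈ normalizer ((P : Subgroup G) : Set G)) :
    Conn P D y :=
  ⟨1, one_mem _, 1, y, GC.nil D, hy, by rw [one_mul, one_mul]⟩

theorem mono {D D' : Subgroup G} {g : G} (h : Conn P D g) (hle : D' ≤ D) : Conn P D' g := by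
  obtain ⟨c, hc, k, y, hk, hy, rfl⟩ := h
  exact ⟨c, centralizer_le (SetLike.coe_subset_coe.2 hle) hc, k, y, hk.mono hle, hy, rfl⟩

theorem mul_left {D : Subgroup G} {c g : G} (hc : c ∈ centralizer (D : Set G)) (h : Conn P D g) :
    Conn P D (c * g) := by
  obtain ⟨c', hc', k, y, hk, hy, rfl⟩ := h
  exact ⟨c * c', mul_mem hc hc', k, y, hk, hy, by simp only [mul_assoc]⟩

theorem comp [Finite G] [Fact p.Prime] {D : Subgroup G} {g k : G} (h₁ : Conn P D g)
    (h₂ : Conn P (conjBy g⁻¹ D) k) : Conn P D (g * k) := by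
  obtain ⟨c, hc, h, y, hh, hy, rfl⟩ := h₁
  have hD : conjBy (c * h * y)⁻¹ D = conjBy (h * y)⁻¹ D := by
    rw [show (c * h * y)⁻¹ = (h * y)⁻¹ * c⁻¹ by group, ← conjBy_conjBy,
      conjBy_of_mem_centralizer (inv_mem hc)]
  rw [hD] at h₂
  obtain ⟨c', hc', h', y', hh', hy', rfl⟩ := h₂
  have hc'' : (h * y) * c' * (h * y)⁻¹ ∈ centralizer (D : Set G) := by
    refine mem_centralizer_iff.2 fun d hd => ?_
    have h1 := mem_centralizer_iff.1 hc' ((h * y)⁻¹ * d * (h * y))
      (mem_conjBy.2 (by simpa [mul_assoc] using hd) : (h * y)⁻¹ * d * (h * y) ∈ conjBy (h * y)⁻¹ D)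
    calc d * (h * y * c' * (h * y)⁻¹) = (h * y) * ((h * y)⁻¹ * d * (h * y) * c') * (h * y)⁻¹ := by group
      _ = (h * y) * (c' * ((h * y)⁻¹ * d * (h * y))) * (h * y)⁻¹ := by rw [h1]
      _ = _ := by group
  have hh'' := hh'.conj hy
  rw [conjBy_conjBy, show y * (h * y)⁻¹ = h⁻¹ by group] at hh''
  exact ⟨c * ((h * y) * c' * (h * y)⁻¹), mul_mem hc hc'', h * (y * h' * y⁻¹), y * y', hh.comp hh'',
    mul_mem hy hy', by group⟩

end Conn

variable [Finite G] [hpf : Fact p.Prime]

theorem conn_of_tameChain (P : Sylow p G) (m : ℕ)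
    (H : ∀ E : Subgroup G, E ≤ (P : Subgroup G) →
      ¬ p ∣ ((P : Subgroup G) ⊓ normalizer (E : Set G)).relIndex (normalizer (E : Set G)) →
      m ≤ Nat.card E → ∀ x ∈ normalizer (E : Set G), Conn P E x)
    {D : Subgroup G} {g : G} (h : TameChain P D g) : m ≤ Nat.card D → Conn P D g := by
  induction h with
  | nil D => intro _; exact Conn.of_centralizer (one_mem _)
  | cons Q x hT hx hD _ ih =>
    intro hm
    exact ((H _ inf_le_left hT.1 (hm.trans (Subgroup.card_le_of_le hD)) x hx).mono hD).comp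
      (ih (by rwa [card_conjBy]))

/-- The data of a step at `E`, given that the automizer is not chain-connected. -/
theorem exists_step_data (P : Sylow p G) {E : Subgroup G}
    (hN : ¬ p ∣ ((P : Subgroup G) ⊓ normalizer (E : Set G)).relIndex (normalizer (E : Set G)))
    (hEP : E ≤ (P : Subgroup G)) (hC : (P : Subgroup G) ⊓ centralizer (E : Set G) ≤ E)
    (hO : (P : Subgroup G) ⊓ corePP p E ≤ E)
    (hnc : ¬ Cfsg.IsSylowChainConnected p
      (↥(normalizer (E : Set G)) ⧸ E.subgroupOf (normalizer (E : Set G)))) :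
    ∃ X : Subgroup G, X ≤ normalizer (E : Set G) ∧ normalizer (E : Set G) ≤ normalizer (X : Set G) ∧
      E < (P : Subgroup G) ⊓ X ∧
      ∀ x ∈ (Cfsg.pResidual p ↥X).map X.subtype, Step P E X x := by
  haveI hEn : (E.subgroupOf (normalizer (E : Set G))).Normal := normal_in_normalizer
  obtain ⟨Xb, hXn, hXd, hXm⟩ := exists_least_normal hnc
  set N := normalizer (E : Set G) with hNd
  set q := QuotientGroup.mk' (E.subgroupOf N) with hq
  have hrel : ∀ Y : Subgroup ↥N, (E.subgroupOf N).relIndex Y = Nat.card (Y.map q) := by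
    intro Y
    have h := relIndex_comap ⊥ q Y
    rwa [MonoidHom.comap_bot, QuotientGroup.ker_mk', relIndex_bot_left] at h
  set X := (Xb.comap q).map N.subtype with hX
  have hXN : X ≤ N := map_subtype_le _
  haveI := hXn
  haveI hXn' : (Xb.comap q).Normal := inferInstance
  have hXsub : X.subgroupOf N = Xb.comap q := comap_map_eq_self_of_injective N.subtype_injective _
  have hEX : E ≤ X := fun e he => ⟨⟨e, le_normalizer he⟩, by
    rw [SetLike.mem_coe, mem_comap]
    have : q ⟨e, le_normalizer he⟩ = 1 := (QuotientGroup.eq_one_iff _).2 (mem_subgroupOf.2 he)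
    rw [this]; exact one_mem _, rfl⟩
  have hXi : p ∣ E.relIndex X := by
    rw [← relIndex_subgroupOf hXN, hXsub, hrel, map_comap_eq_self_of_surjective (QuotientGroup.mk'_surjective _)]
    exact hXd
  have hNX : N ≤ normalizer (X : Set G) := normalizer_le_normalizer_map _
  have hgood := good_of P hEP hN hC hO
  refine ⟨X, hXN, hNX, lt_of_le_not_ge (le_inf hEP hEX) fun h => ?_, fun x hx => ⟨hEP, hN, hC,
    le_antisymm ?_ (sup_le (le_corePP (P.2.to_le hEP)) hgood.2.1), hnc,
    ⟨hEX, hXN, hXsub ▸ hXn', hXi, fun Y hY1 hY2 hY3 hY4 => ?_⟩, hx⟩⟩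
  · have h1 := not_dvd_relIndex_inf P hN hXN hNX
    rw [le_antisymm h (le_inf hEP hEX)] at h1
    exact h1 hXi
  · rw [← hgood.2.2.1.2.2.2.2]
    exact sup_le ((core'_le_centralizer (P.2.to_le hEP)).trans le_sup_right) le_sup_left
  · haveI := hY3
    haveI : ((Y.subgroupOf N).map q).Normal := hY3.map _ (QuotientGroup.mk'_surjective _)
    rw [← relIndex_subgroupOf hY2, hrel] at hY4
    have h1 : Xb.comap q ≤ Y.subgroupOf N := by
      refine (comap_mono (hXm _ inferInstance hY4)).trans ?_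
      rw [comap_map_eq, QuotientGroup.ker_mk']
      exact sup_le le_rfl fun e he => mem_subgroupOf.2 (hY1 (mem_subgroupOf.1 he))
    exact (map_mono h1).trans (map_subgroupOf_eq_of_le hY2).le

theorem conn_normalizer (P : Sylow p G) : ∀ (k : ℕ) (E : Subgroup G),
    Nat.card (P : Subgroup G) - Nat.card E = k → E ≤ (P : Subgroup G) →
    ¬ p ∣ ((P : Subgroup G) ⊓ normalizer (E : Set G)).relIndex (normalizer (E : Set G)) →
    ∀ x ∈ normalizer (E : Set G), Conn P E x := by
  intro k
  induction k using Nat.strongRecOn with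
  | ind k ih =>
  intro E hk hEP hN x hx
  by_cases hEP' : E = (P : Subgroup G)
  · exact Conn.of_normalizer (hEP' ▸ hx)
  -- moving a larger subgroup of `P`
  have hbig' : ∀ (D : Subgroup G) (g : G), Nat.card E < Nat.card D → D ≤ (P : Subgroup G) →
      conjBy g⁻¹ D ≤ (P : Subgroup G) → Conn P D g := by
    intro D g hlt hDP hDg
    obtain ⟨D', hD, hch⟩ := exists_tameChain P (D : Set G) g hDP (by
      rintro _ ⟨a, ha, rfl⟩
      refine hDg ?_
      simpa using conj_mem_conjBy (g := g⁻¹) ha)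
    refine conn_of_tameChain P (Nat.card D) (fun F hF hFN hm => ?_) (hch.mono hD) le_rfl
    have hFP : Nat.card F ≤ Nat.card (P : Subgroup G) := Subgroup.card_le_of_le hF
    exact ih _ (by omega) F rfl hF hFN
  have hbig : ∀ (R : Subgroup G) (y : G), E < R → R ≤ (P : Subgroup G) →
      y ∈ normalizer (R : Set G) → Conn P E y := by
    intro R y hER hRP hy
    have hlt : Nat.card E < Nat.card R := by
      refine lt_of_le_of_ne (Subgroup.card_le_of_le hER.le) fun e => hER.ne ?_
      exact Subgroup.eq_of_le_of_card_ge hER.le e.ge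
    exact (hbig' R y hlt hRP (by rw [conjBy_eq_iff.2 (inv_mem hy)]; exact hRP)).mono hER.le
  by_cases hC : (P : Subgroup G) ⊓ centralizer (E : Set G) ≤ E
  swap
  · have hCN : centralizer (E : Set G) ≤ normalizer (E : Set G) := centralizer_le_normalizer _
    obtain ⟨o, ho, y, hyN, hy, rfl⟩ := frattini P hN hCN (fun n hn => by
      refine conjBy_eq_iff.1 ?_
      rw [conjBy_centralizer, conjBy_eq_iff.2 hn]) hx
    refine Conn.mul_left ho (hbig (E ⊔ ((P : Subgroup G) ⊓ centralizer (E : Set G))) y ?_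
      (sup_le hEP inf_le_left) ?_)
    · exact lt_of_le_not_ge le_sup_left fun h => hC (le_sup_right.trans h)
    · refine conjBy_eq_iff.1 ?_
      rw [conjBy, Subgroup.map_sup]
      rw [show E.map (MulAut.conj y).toMonoidHom = E from conjBy_eq_iff.2 hyN,
        show ((P : Subgroup G) ⊓ centralizer (E : Set G)).map (MulAut.conj y).toMonoidHom = _ from
          conjBy_eq_iff.2 hy]
  by_cases hO : (P : Subgroup G) ⊓ corePP p E ≤ E
  swap
  · haveI := pPrimePCore_normal (p := p) ↥(normalizer (E : Set G))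
    obtain ⟨o, ho, y, -, hy, rfl⟩ := frattini P hN (map_subtype_le _)
      (normalizer_le_normalizer_map (Cfsg.pPrimePCore p ↥(normalizer (E : Set G)))) hx
    obtain ⟨c, hc, r, hr, rfl⟩ := exists_mul_eq_of_mem_corePP P hN ho
    rw [mul_assoc]
    refine Conn.mul_left (core'_le_centralizer (P.2.to_le hEP) hc)
      (hbig ((P : Subgroup G) ⊓ corePP p E) _ ?_ inf_le_left (mul_mem (le_normalizer hr) hy))
    exact lt_of_le_not_ge (le_inf hEP (le_corePP (P.2.to_le hEP))) hO
  haveI hEn : (E.subgroupOf (normalizer (E : Set G))).Normal := normal_in_normalizer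
  by_cases hnc : Cfsg.IsSylowChainConnected p
      (↥(normalizer (E : Set G)) ⧸ E.subgroupOf (normalizer (E : Set G)))
  · -- the elements with a chain form a subgroup that would be strongly embedded
    have hp : p.Prime := Fact.out
    have hmul : ∀ a ∈ normalizer (E : Set G), ∀ b : G, Conn P E a → Conn P E b → Conn P E (a * b) :=
      fun a ha b h1 h2 => h1.comp (by rwa [conjBy_eq_iff.2 (inv_mem ha)])
    have hpow : ∀ (n : ↥(normalizer (E : Set G))), Conn P E (n : G) → ∀ j : ℕ, Conn P E ((n : G) ^ j) := by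
      intro n hn j
      induction j with
      | zero => rw [pow_zero]; exact Conn.of_centralizer (one_mem _)
      | succ j ihj => rw [pow_succ]; exact hmul _ (pow_mem n.2 j) _ ihj hn
    let K₀ : Subgroup ↥(normalizer (E : Set G)) :=
      { carrier := {n | Conn P E (n : G)}
        one_mem' := Conn.of_centralizer (one_mem _)
        mul_mem' := fun {a b} ha hb => hmul _ a.2 _ ha hb
        inv_mem' := fun {a} ha => by
          show Conn P E ((a : G)⁻¹)
          have h : (a : G)⁻¹ = (a : G) ^ (orderOf (a : G) - 1) := by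
            refine inv_eq_of_mul_eq_one_right ?_
            rw [← pow_succ', Nat.sub_add_cancel (orderOf_pos _), pow_orderOf_eq_one]
          rw [h]; exact hpow a ha _ }
    set q := QuotientGroup.mk' (E.subgroupOf (normalizer (E : Set G))) with hq
    have hEltPN : E < (P : Subgroup G) ⊓ normalizer (E : Set G) := by
      haveI := P.2.isNilpotent
      exact lt_inf_normalizer hEP hEP'
    set T := ((P : Subgroup G) ⊓ normalizer (E : Set G)).subgroupOf (normalizer (E : Set G)) with hT
    have hTK : T ≤ K₀ := fun t ht => hbig _ _ hEltPN inf_le_left (le_normalizer (mem_subgroupOf.1 ht))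
    have hET : E.subgroupOf (normalizer (E : Set G)) ≤ T := fun e he =>
      mem_subgroupOf.2 (hEltPN.le (mem_subgroupOf.1 he))
    have hTp : IsPGroup p T :=
      (P.2.to_le inf_le_left : IsPGroup p ↥((P : Subgroup G) ⊓ normalizer (E : Set G))).of_equiv
        (subgroupOfEquivOfLe inf_le_right).symm
    have hTi : ¬ p ∣ T.relIndex K₀ := fun hd => hN (hd.trans (relIndex_dvd_index_of_le hTK))
    have hcomap : (K₀.map q).comap q = K₀ := by
      rw [comap_map_eq, QuotientGroup.ker_mk', sup_eq_left]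
      exact hET.trans hTK
    by_contra hcon
    refine (Cfsg.Agent.S3056.result p).2 ⟨K₀.map q, fun he => hcon ?_, ?_, fun g hg hd => ?_⟩ hnc
    · have h1 : (⟨x, hx⟩ : ↥(normalizer (E : Set G))) ∈ K₀ := by
        rw [← hcomap, he, comap_top]; exact mem_top _
      exact h1
    · have h1 : ∀ t ∈ T, q t ∈ K₀.map q := fun t ht => mem_map_of_mem q (hTK ht)
      obtain ⟨t, ht, htE⟩ : ∃ t ∈ T, t ∉ E.subgroupOf (normalizer (E : Set G)) := by
        by_contra h
        push Not at h
        exact hEltPN.2 fun t ht => mem_subgroupOf.1 (h ⟨t, ht.2⟩ (mem_subgroupOf.2 ht))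
      have h2 : q t ≠ 1 := fun h => htE ((QuotientGroup.eq_one_iff _).1 h)
      obtain ⟨j, hj⟩ := IsPGroup.iff_orderOf.1 (hTp.map q) ⟨q t, mem_map_of_mem q ht⟩
      rw [← orderOf_coe] at hj
      have hj0 : j ≠ 0 := fun h => h2 (orderOf_eq_one_iff.1 (by simpa [h] using hj))
      exact ((dvd_pow_self p hj0).trans hj.symm.dvd).trans (Subgroup.orderOf_dvd_natCard _ (h1 t ht))
    obtain ⟨g, rfl⟩ := QuotientGroup.mk'_surjective _ g
    obtain ⟨z, hz⟩ := exists_prime_orderOf_dvd_card' p hd
    obtain ⟨hz1, hz2⟩ := z.2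
    set U := (zpowers ((z : _ ⧸ E.subgroupOf (normalizer (E : Set G))))).comap q with hU
    have hUp : IsPGroup p U := by
      refine (IsPGroup.of_card (n := 1) ?_).comap_of_ker_isPGroup q ?_
      · rw [Nat.card_zpowers, orderOf_coe, hz, pow_one]
      · rw [QuotientGroup.ker_mk']
        exact hTp.to_le hET
    have hEU : E.subgroupOf (normalizer (E : Set G)) ≤ U := by
      conv_lhs => rw [← QuotientGroup.ker_mk' (E.subgroupOf (normalizer (E : Set G)))]
      exact ker_le_comap _ _
    have hUlt : Nat.card E < Nat.card U := by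
      rw [← Nat.card_congr (subgroupOfEquivOfLe (le_normalizer : E ≤ normalizer (E : Set G))).toEquiv]
      refine lt_of_le_of_ne (Subgroup.card_le_of_le hEU) fun e => ?_
      obtain ⟨w, hw⟩ := QuotientGroup.mk'_surjective _ (z : _ ⧸ E.subgroupOf (normalizer (E : Set G)))
      have hwU : w ∈ U := by
        rw [hU, mem_comap, hw]; exact mem_zpowers _
      rw [← Subgroup.eq_of_le_of_card_ge hEU e.ge] at hwU
      have h1 : (z : _ ⧸ E.subgroupOf (normalizer (E : Set G))) = 1 :=
        hw.symm.trans ((QuotientGroup.eq_one_iff _).2 hwU)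
      exact hp.ne_one (by rw [← hz, ← orderOf_coe, h1, orderOf_one])
    have hUK : U ≤ K₀ := by
      rw [← hcomap, hU]; exact comap_mono (zpowers_le.2 hz1)
    have hUK' : conjBy g⁻¹ U ≤ K₀ := by
      rw [conjBy_le_iff, inv_inv]
      intro u hu
      rw [← hcomap, mem_comap]
      obtain ⟨m, hm, hmz⟩ := hz2
      have hzg : (z : _ ⧸ E.subgroupOf (normalizer (E : Set G))) ∈ (K₀.map q).map (MulAut.conj (q g)).toMonoidHom :=
        ⟨m, hm, hmz⟩
      have h1 : q u ∈ (K₀.map q).map (MulAut.conj (q g)).toMonoidHom := (zpowers_le.2 hzg) hu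
      have h2 := mem_conjBy.1 h1
      simpa using h2
    obtain ⟨k₁, hk₁, hle₁⟩ := exists_conj_le_of_not_dvd_relIndex hTp hTK hTi hUp hUK
    obtain ⟨k₂, hk₂, hle₂⟩ := exists_conj_le_of_not_dvd_relIndex hTp hTK hTi (isPGroup_conjBy _ hUp) hUK'
    have hn : k₁ * g * k₂⁻¹ ∈ K₀ := by
      have hEn' : ∀ k : ↥(normalizer (E : Set G)), E.subgroupOf (normalizer (E : Set G)) ≤ conjBy k U :=
        fun k e he => mem_conjBy.2 (hEU (by simpa using hEn.conj_mem e he k⁻¹))
      show Conn P E _
      refine (hbig' ((conjBy k₁ U).map (normalizer (E : Set G)).subtype) _ ?_ ?_ ?_).mono ?_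
      · rw [card_map_of_injective (subtype_injective _), card_conjBy]; exact hUlt
      · exact (map_mono hle₁).trans ((map_subgroupOf_eq_of_le inf_le_right).trans_le inf_le_left)
      · rw [conjBy_le_iff]
        rintro _ ⟨u, hu, rfl⟩
        have h1 : (k₁ * g * k₂⁻¹)⁻¹ * u * (k₁ * g * k₂⁻¹) ∈ T := by
          refine hle₂ ?_
          rw [conjBy_conjBy]
          have h2 := mem_conjBy.1 hu
          rw [mem_conjBy]
          simpa [mul_assoc] using h2
        have h2 : ((_ : ↥(normalizer (E : Set G))) : G) ∈ ((P : Subgroup G)) := (mem_subgroupOf.1 h1).1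
        simp only [Subgroup.coe_mul, InvMemClass.coe_inv, _root_.mul_inv_rev, inv_inv] at h2
        simp only [Subgroup.coe_mul, InvMemClass.coe_inv, _root_.mul_inv_rev, inv_inv, mul_assoc, Subgroup.coe_subtype] at h2 ⊢
        exact h2
      · exact fun e he => ⟨⟨e, le_normalizer he⟩, hEn' k₁ (mem_subgroupOf.2 he), rfl⟩
    refine hg (mem_map_of_mem q ?_)
    simpa [mul_assoc] using mul_mem (mul_mem (inv_mem hk₁) hn) hk₂
  · obtain ⟨X, hXN, hNX, hlt, hstep⟩ := exists_step_data P hN hEP hC hO hnc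
    obtain ⟨o, ho, y, -, hy, rfl⟩ := frattini P hN hXN hNX hx
    have hsyl : ¬ p ∣ ((P : Subgroup G) ⊓ X).relIndex X := not_dvd_relIndex_inf P hN hXN hNX
    let S : Sylow p ↥X :=
      ((P.2.to_le inf_le_left : IsPGroup p ↥((P : Subgroup G) ⊓ X)).of_equiv
        (subgroupOfEquivOfLe inf_le_right).symm).toSylow hsyl
    haveI := CfsgLib.Fusion.pResidual_normal (G := ↥X) (p := p)
    have htop : (⟨o, ho⟩ : ↥X) ∈ Cfsg.pResidual p ↥X ⊔ (S : Subgroup ↥X) := by
      rw [pResidual_sup_sylow S]; exact mem_top _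
    obtain ⟨o', ho', r, hr, hor⟩ := mem_sup_of_normal_left.1 htop
    have hrP : (r : G) ∈ (P : Subgroup G) ⊓ X := mem_subgroupOf.1 hr
    have heq : o * y = (o' : G) * ((r : G) * y) := by
      rw [← mul_assoc, ← Subgroup.coe_mul, hor]
    rw [heq]
    have hs := hstep o' (mem_map_of_mem _ ho')
    have h1 : Conn P E (o' : G) :=
      ⟨1, one_mem _, (o' : G) * 1, 1, GC.cons E X _ hs le_rfl (GC.nil _), one_mem _, by
        rw [one_mul, mul_one, mul_one]⟩
    refine h1.comp ?_
    rw [conjBy_eq_iff.2 (inv_mem hs.mem_normalizer)]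
    exact hbig _ _ hlt inf_le_left (mul_mem (le_normalizer hrP) hy)

end CfsgLib.Fusion.Strong
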