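import Cfsg.Agent.Lib.Fusion.AlperinTame

/-!
# Alperin's fusion theorem with steps generated by `p`-elements
-/

set_option autoImplicit false
set_option linter.style.haveILetI false
set_option linter.unusedSectionVars false

open Subgroup

namespace CfsgLib.Fusion.PElem

universe u

variable {G : Type u} [Group G] {p : ℕ}

/-- The subgroup generated by the `p`-elements of `N`. -/
def pGen (p : ℕ) (N : Subgroup G) : Subgroup G :=
  closure {x : G | x ∈ N ∧ ∃ k : ℕ, orderOf x = p ^ k}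

theorem pGen_le (N : Subgroup G) : pGen p N ≤ N := (closure_le _).2 fun _ hx => hx.1

theorem le_pGen [Fact p.Prime] {N T : Subgroup G} (hT : IsPGroup p T) (hle : T ≤ N) : T ≤ pGen p N := fun t ht =>
  subset_closure ⟨hle ht, by
    obtain ⟨k, hk⟩ := IsPGroup.iff_orderOf.1 hT ⟨t, ht⟩
    exact ⟨k, by rwa [← orderOf_submonoid] at hk⟩⟩

/-- A chain of normalizer elements of tame intersections moving `D`. -/
inductive TameChain (P : Sylow p G) : Subgroup G → G → Prop
  | nil (D : Subgroup G) : TameChain P D 1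
  | cons {D : Subgroup G} {g : G} (Q : Sylow p G) (x : G) (hT : Tame P Q)
      (hx : x ∈ normalizer ((((P : Subgroup G) ⊓ (Q : Subgroup G)) : Subgroup G) : Set G))
      (hgen : x ∈ pGen p (normalizer ((((P : Subgroup G) ⊓ (Q : Subgroup G)) : Subgroup G) : Set G)) ∨
        x ∈ normalizer ((P : Subgroup G) : Set G))
      (hD : D ≤ (P : Subgroup G) ⊓ (Q : Subgroup G)) (h : TameChain P (conjBy x⁻¹ D) g) :
      TameChain P D (x * g)

namespace TameChain

variable {P : Sylow p G}

theorem mono {D : Subgroup G} {g : G} (h : TameChain P D g) :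
    ∀ {D' : Subgroup G}, D' ≤ D → TameChain P D' g := by
  induction h with
  | nil D => intro D' _; exact TameChain.nil D'
  | cons Q x hT hx hgen hD _ ih =>
    intro D' hle
    exact TameChain.cons Q x hT hx hgen (hle.trans hD) (ih (conjBy_mono hle))

theorem comp {D : Subgroup G} {g : G} (h₁ : TameChain P D g) :
    ∀ {h : G}, TameChain P (conjBy g⁻¹ D) h → TameChain P D (g * h) := by
  induction h₁ with
  | nil D => intro h h₂; rw [inv_one, conjBy_one] at h₂; rwa [one_mul]
  | cons Q x hT hx hgen hD _ ih =>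
    intro h h₂
    rw [mul_inv_rev, ← conjBy_conjBy] at h₂
    rw [mul_assoc]
    exact TameChain.cons Q x hT hx hgen hD (ih h₂)

theorem conjBy_le {D : Subgroup G} {g : G} (h : TameChain P D g) :
    D ≤ (P : Subgroup G) → conjBy g⁻¹ D ≤ (P : Subgroup G) := by
  induction h with
  | nil D => intro hD; rwa [inv_one, conjBy_one]
  | cons Q x _ hx _ hD _ ih =>
    intro _
    rw [mul_inv_rev, ← conjBy_conjBy]
    refine ih ((conjBy_mono hD).trans ?_)
    rw [conjBy_eq_iff.2 (inv_mem hx)]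
    exact inf_le_left

end TameChain

variable [Finite G] [hpf : Fact p.Prime]

/-- Every Sylow subgroup moves to `P` along a tame chain on the intersection. -/
theorem exists_tameChain_to (P : Sylow p G) : ∀ R : Sylow p G, ∃ x : G,
    TameChain P ((P : Subgroup G) ⊓ (R : Subgroup G)) x ∧ conjBy x⁻¹ (R : Subgroup G) = (P : Subgroup G) := by
  suffices H : ∀ (k : ℕ) (R : Sylow p G),
      Nat.card (P : Subgroup G) - Nat.card ↥((P : Subgroup G) ⊓ (R : Subgroup G)) = k → ∃ x : G,
      TameChain P ((P : Subgroup G) ⊓ (R : Subgroup G)) x ∧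
        conjBy x⁻¹ (R : Subgroup G) = (P : Subgroup G) from fun R => H _ R rfl
  intro k
  induction k using Nat.strongRecOn with
  | ind k ih =>
  intro R hk
  set D := (P : Subgroup G) ⊓ (R : Subgroup G) with hD
  have hrec : ∀ (S : Sylow p G) (E : Subgroup G), E ≤ (P : Subgroup G) → E ≤ (S : Subgroup G) →
      Nat.card D < Nat.card E → ∃ x : G, TameChain P E x ∧ conjBy x⁻¹ (S : Subgroup G) = (P : Subgroup G) := by
    intro S E hEP hES hlt
    have h1 : Nat.card E ≤ Nat.card ↥((P : Subgroup G) ⊓ (S : Subgroup G)) := card_le_of_le (le_inf hEP hES)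
    have h2 : Nat.card ↥((P : Subgroup G) ⊓ (S : Subgroup G)) ≤ Nat.card (P : Subgroup G) :=
      card_le_of_le inf_le_left
    obtain ⟨x, hx, hxS⟩ := ih _ (by omega) S rfl
    exact ⟨x, hx.mono (le_inf hEP hES), hxS⟩
  by_cases hPR : (R : Subgroup G) = (P : Subgroup G)
  · exact ⟨1, TameChain.nil _, by rw [inv_one, conjBy_one, hPR]⟩
  haveI := P.2.isNilpotent
  haveI := R.2.isNilpotent
  have hcardPR : Nat.card (P : Subgroup G) = Nat.card (R : Subgroup G) := by
    rw [P.card_eq_multiplicity, R.card_eq_multiplicity]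
  have hDP : D ≠ (P : Subgroup G) := fun e => hPR
    (eq_of_le_of_card_ge (e ▸ inf_le_right : (P : Subgroup G) ≤ (R : Subgroup G)) hcardPR.ge).symm
  have hDR : D ≠ (R : Subgroup G) := fun e => hPR
    (eq_of_le_of_card_ge (e ▸ inf_le_left : (R : Subgroup G) ≤ (P : Subgroup G)) hcardPR.le)
  have hcl : ∀ {H K : Subgroup G}, H < K → Nat.card H < Nat.card K := fun h => by
    refine lt_of_le_of_ne (card_le_of_le h.le) fun e => h.ne (eq_of_le_of_card_ge h.le e.ge)
  -- a chain moving `D` to a conjugate with a Sylow normalizer in `P`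
  obtain ⟨Q, hPQ, hQ⟩ := exists_sylow_normalizer
    (P.2.to_le (inf_le_left : (P : Subgroup G) ⊓ normalizer (D : Set G) ≤ (P : Subgroup G)))
    (inf_le_right : (P : Subgroup G) ⊓ normalizer (D : Set G) ≤ normalizer (D : Set G))
  obtain ⟨x, hx, hxQ⟩ := hrec Q _ inf_le_left hPQ (hcl (lt_inf_normalizer inf_le_left hDP))
  have hDle : D ≤ (P : Subgroup G) ⊓ normalizer (D : Set G) := le_inf inf_le_left le_normalizer
  set D' := conjBy x⁻¹ D with hD'
  have hD'P : D' ≤ (P : Subgroup G) := (hx.mono hDle).conjBy_le inf_le_left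
  have hD'c : Nat.card D' = Nat.card D := card_conjBy _ _
  have hN : conjBy x⁻¹ (normalizer (D : Set G)) = normalizer (D' : Set G) := by
    rw [hD', conjBy, conjBy]
    exact map_equiv_normalizer_eq D (MulAut.conj x⁻¹)
  have hP' : ¬ p ∣ ((P : Subgroup G) ⊓ normalizer (D' : Set G)).relIndex (normalizer (D' : Set G)) := by
    rw [← hxQ, ← hN, conjBy, conjBy, ← map_inf _ _ _ (MulAut.conj x⁻¹).injective,
      relIndex_map_map_of_injective _ _ (MulAut.conj x⁻¹).injective]
    exact hQ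
  set R' : Sylow p G := x⁻¹ • R with hR'
  have hR'e : (R' : Subgroup G) = conjBy x⁻¹ (R : Subgroup G) := by
    rw [hR']; rfl
  have hD'R : D' ≤ (R' : Subgroup G) := hR'e ▸ conjBy_mono inf_le_right
  -- if the intersection grew we are done
  by_cases hbig : Nat.card D < Nat.card ↥((P : Subgroup G) ⊓ (R' : Subgroup G))
  · obtain ⟨y, hy, hyR⟩ := hrec R' _ inf_le_left inf_le_right hbig
    refine ⟨x * y, (hx.mono hDle).comp (hy.mono (le_inf hD'P hD'R)), ?_⟩
    rw [mul_inv_rev, ← conjBy_conjBy, ← hR'e]; exact hyR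
  have hEq : D' = (P : Subgroup G) ⊓ (R' : Subgroup G) :=
    eq_of_le_of_card_ge (le_inf hD'P hD'R) (by omega)
  haveI := R'.2.isNilpotent
  have hD'R' : D' ≠ (R' : Subgroup G) := fun e => hDR <| eq_of_le_of_card_ge inf_le_right (by
    rw [← hD'c, e, hR'e, card_conjBy])
  have hcardR : Nat.card D < Nat.card ↥((R' : Subgroup G) ⊓ normalizer (D' : Set G)) :=
    hD'c ▸ hcl (lt_inf_normalizer hD'R hD'R')
  obtain ⟨Q', hRQ', hQ'⟩ := exists_sylow_normalizer
    (R'.2.to_le (inf_le_left : (R' : Subgroup G) ⊓ normalizer (D' : Set G) ≤ (R' : Subgroup G)))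
    (inf_le_right : (R' : Subgroup G) ⊓ normalizer (D' : Set G) ≤ normalizer (D' : Set G))
  have hD'Q : D' ≤ (Q' : Subgroup G) := (le_inf hD'R le_normalizer).trans hRQ'
  by_cases hbig' : Nat.card D < Nat.card ↥((P : Subgroup G) ⊓ (Q' : Subgroup G))
  · obtain ⟨y, hy, hyQ⟩ := hrec Q' _ inf_le_left inf_le_right hbig'
    set R'' : Sylow p G := y⁻¹ • R' with hR''
    have hR''e : (R'' : Subgroup G) = conjBy y⁻¹ (R' : Subgroup G) := by
      rw [hR'']; rfl
    obtain ⟨z, hz, hzR⟩ := hrec R'' (conjBy y⁻¹ ((R' : Subgroup G) ⊓ normalizer (D' : Set G)))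
      ((conjBy_mono hRQ').trans hyQ.le) (hR''e ▸ conjBy_mono inf_le_left) (by rwa [card_conjBy])
    refine ⟨x * (y * z), (hx.mono hDle).comp ?_, ?_⟩
    · exact (hy.mono (le_inf hD'P hD'Q)).comp (hz.mono (conjBy_mono (le_inf hD'R le_normalizer)))
    · rw [mul_inv_rev, mul_inv_rev, ← conjBy_conjBy, ← hR'e, ← conjBy_conjBy, ← hR''e]
      exact hzR
  have hEq' : D' = (P : Subgroup G) ⊓ (Q' : Subgroup G) :=
    eq_of_le_of_card_ge (le_inf hD'P hD'Q) (by omega)
  have hT : Tame P Q' := by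
    rw [Tame, ← hEq']; exact ⟨hP', hQ'⟩
  have hPK := le_pGen (P.2.to_le (inf_le_left :
    (P : Subgroup G) ⊓ normalizer (D' : Set G) ≤ (P : Subgroup G))) inf_le_right
  obtain ⟨h, hh', hle⟩ := exists_conj_le_of_not_dvd_relIndex
    (P.2.to_le (inf_le_left : (P : Subgroup G) ⊓ normalizer (D' : Set G) ≤ (P : Subgroup G)))
    hPK (fun hd => hP' (hd.trans (Dvd.intro _ (relIndex_mul_relIndex _ _ _ hPK (pGen_le _)))))
    (R'.2.to_le (inf_le_left : (R' : Subgroup G) ⊓ normalizer (D' : Set G) ≤ (R' : Subgroup G)))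
    (le_pGen (R'.2.to_le (inf_le_left :
      (R' : Subgroup G) ⊓ normalizer (D' : Set G) ≤ (R' : Subgroup G))) inf_le_right)
  have hh := pGen_le _ hh'
  set R'' : Sylow p G := h • R' with hR''
  have hR''e : (R'' : Subgroup G) = conjBy h (R' : Subgroup G) := by
    rw [hR'']; rfl
  obtain ⟨z, hz, hzR⟩ := hrec R'' (conjBy h ((R' : Subgroup G) ⊓ normalizer (D' : Set G)))
    (hle.trans inf_le_left) (hR''e ▸ conjBy_mono inf_le_left) (by rwa [card_conjBy])
  refine ⟨x * (h⁻¹ * z), (hx.mono hDle).comp (TameChain.cons Q' h⁻¹ hT ?_ (Or.inl ?_) hEq'.le ?_), ?_⟩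
  · rw [← hEq']; exact inv_mem hh
  · rw [← hEq']; exact inv_mem hh'
  · rw [inv_inv]; exact hz.mono (conjBy_mono (le_inf hD'R le_normalizer))
  · rw [mul_inv_rev, mul_inv_rev, inv_inv, ← conjBy_conjBy, ← hR'e, ← conjBy_conjBy, ← hR''e]
    exact hzR

/-- Alperin's theorem. -/
theorem exists_tameChain (P : Sylow p G) (A : Set G) (g : G) (hA : A ⊆ (P : Set G))
    (hAg : (fun a => g⁻¹ * a * g) '' A ⊆ (P : Set G)) :
    ∃ D : Subgroup G, A ⊆ (D : Set G) ∧ TameChain P D g := by
  set R : Sylow p G := g • P with hR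
  have hRe : (R : Subgroup G) = conjBy g (P : Subgroup G) := by
    rw [hR]; rfl
  refine ⟨(P : Subgroup G) ⊓ (R : Subgroup G), fun a ha => ⟨hA ha, ?_⟩, ?_⟩
  · rw [SetLike.mem_coe, hRe]
    refine ⟨g⁻¹ * a * g, hAg ⟨a, ha, rfl⟩, ?_⟩
    simp [mul_assoc]
  obtain ⟨x, hx, hxR⟩ := exists_tameChain_to P R
  have hy : x⁻¹ * g ∈ normalizer ((P : Subgroup G) : Set G) := by
    rw [← conjBy_eq_iff, ← conjBy_conjBy, ← hRe, hxR]
  have hT : Tame P P := by
    rw [Tame, inf_idem]
    have h : ¬ p ∣ ((P : Subgroup G) ⊓ normalizer ((P : Subgroup G) : Set G)).relIndex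
        (normalizer ((P : Subgroup G) : Set G)) := by
      rw [inf_eq_left.2 le_normalizer]
      exact fun hd => P.not_dvd_index (hd.trans (relIndex_dvd_index_of_le le_normalizer))
    exact ⟨h, h⟩
  have hgx : g = x * (x⁻¹ * g * 1) := by rw [mul_one, mul_inv_cancel_left]
  rw [hgx]
  exact hx.comp (TameChain.cons P _ hT (by rw [inf_idem]; exact hy) (Or.inr (by simpa using hy))
    (by rw [inf_idem]; exact hx.conjBy_le inf_le_left) (TameChain.nil _))

end CfsgLib.Fusion.PElem
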