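import Cfsg.Agent.Lib.Fusion.Dichotomy

/-!
# A characteristic subgroup of the Sylow subgroup moved by a `p'`-element
-/

set_option autoImplicit false
set_option linter.style.haveILetI false

open Subgroup

namespace CfsgLib.Fusion

/-- `W` is invariant under the automorphisms of `T`. -/
def CharIn {G : Type*} [Group G] (W T : Subgroup G) : Prop :=
  ∀ φ : T ≃* T, ∀ x : T, (x : G) ∈ W → (φ x : G) ∈ W

section

variable {G H : Type*} [Group G] [Group H] {W T : Subgroup G}

theorem CharIn.map (f : G →* H) (hf : Function.Injective f) (h : CharIn W T) :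
    CharIn (W.map f) (T.map f) := by
  intro φ y hy
  let e : T ≃* T.map f := T.equivMapOfInjective f hf
  have key := h (e.trans (φ.trans e.symm)) (e.symm y)
  obtain ⟨w, hw, hwy⟩ := hy
  have hey : ((e.symm y : T) : G) = w := hf (by
    rw [hwy, ← T.coe_equivMapOfInjective_apply f hf (e.symm y)]
    exact congrArg Subtype.val (e.apply_symm_apply y))
  have h2 := key (hey ▸ hw)
  simp only [MulEquiv.trans_apply, MulEquiv.apply_symm_apply] at h2
  refine ⟨_, h2, ?_⟩
  rw [← T.coe_equivMapOfInjective_apply f hf (e.symm (φ y))]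
  exact congrArg Subtype.val (e.apply_symm_apply (φ y))

theorem CharIn.comap (f : G →* H) {W' : Subgroup H} [Finite T] (h : CharIn W' (T.map f))
    (hker : ∀ φ : T ≃* T, ∀ x : T, f x = 1 → f (φ x) = 1) :
    CharIn (W'.comap f ⊓ T) T := by
  intro φ x hx
  let π : T →* T.map f := f.subgroupMap T
  have hπ : Function.Surjective π := f.subgroupMap_surjective T
  have hπv : ∀ y : T, ((π y : T.map f) : H) = f y := fun _ => rfl
  have hk : π.ker ≤ (π.comp φ.toMonoidHom).ker := fun y hy => by
    rw [MonoidHom.mem_ker] at hy ⊢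
    exact Subtype.ext (hker φ y (congrArg Subtype.val hy))
  let ψ : T.map f →* T.map f := π.liftOfSurjective hπ ⟨π.comp φ.toMonoidHom, hk⟩
  have hψ : ∀ y : T, ψ (π y) = π (φ y) := fun y =>
    π.liftOfRightInverse_comp_apply _ _ ⟨π.comp φ.toMonoidHom, hk⟩ y
  have hψs : Function.Surjective ψ := fun z => by
    obtain ⟨y, rfl⟩ := hπ z
    exact ⟨π (φ.symm y), by rw [hψ, MulEquiv.apply_symm_apply]⟩
  haveI : Finite (T.map f) := Finite.of_surjective π hπ
  have hψb : Function.Bijective ψ := ⟨Finite.injective_iff_surjective.2 hψs, hψs⟩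
  have h2 := h (MulEquiv.ofBijective ψ hψb) (π x) hx.1
  rw [MulEquiv.ofBijective_apply, hψ, hπv] at h2
  exact ⟨h2, (φ x).2⟩

theorem charIn_thompsonA [Finite T] : CharIn (Cfsg.thompsonSubgroupAOf T) T := by
  intro φ x hx
  have e : Cfsg.thompsonSubgroupAOf T =
      (Cfsg.thompsonSubgroupAOf (⊤ : Subgroup T)).map T.subtype := by
    rw [map_thompsonSubgroupAOf _ T.subtype_injective, ← MonoidHom.range_eq_map,
      Subgroup.range_subtype]
  rw [e] at hx ⊢
  obtain ⟨y, hy, hyx⟩ := hx
  obtain rfl : y = x := Subtype.ext hyx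
  refine ⟨φ y, ?_, rfl⟩
  have h := Subgroup.mem_map_of_mem φ.toMonoidHom hy
  rwa [map_thompsonSubgroupAOf _ φ.injective, Subgroup.map_top_of_surjective _ φ.surjective] at h

theorem charIn_centerOf : CharIn (centerOf T) T := by
  intro φ x hx
  refine ⟨(φ x).2, Subgroup.mem_centralizer_iff.2 fun w hw => ?_⟩
  obtain ⟨u, hu⟩ := φ.surjective ⟨w, hw⟩
  have h : u * x = x * u := Subtype.ext (Subgroup.mem_centralizer_iff.1 hx.2 u u.2)
  have h2 := congrArg φ h
  rw [map_mul, map_mul, hu] at h2
  exact congrArg Subtype.val h2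

end

universe u

/-- In a group with `C(O_p) ≤ O_p` which is not a `p`-group, some characteristic subgroup of the Sylow
subgroup is moved by a `p'`-element normalizing it. -/
theorem exists_charIn_moved {p : ℕ} [Fact p.Prime] :
    ∀ (G : Type u) [Group G] [Finite G], (p ≠ 2 ∨ ¬ Cfsg.Involves (Equiv.Perm (Fin 4)) G) →
      ∀ T : Sylow p G, Subgroup.centralizer (Cfsg.pCore p G : Set G) ≤ Cfsg.pCore p G →
      ¬ IsPGroup p G →
      ∃ W : Subgroup G, W ≤ (T : Subgroup G) ∧ W ≠ ⊥ ∧ CharIn W (T : Subgroup G) ∧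
        ∃ g ∈ Subgroup.normalizer (W : Set G), Nat.Coprime (orderOf g) p ∧
          g ∉ Subgroup.centralizer (W : Set G) := by
  intro G
  induction hn : Nat.card G using Nat.strong_induction_on generalizing G with
  | _ n ih =>
  intro _ _ hfree T hc hG
  classical
  haveI hQn := CfsgLib.Coprime.pCore_normal' (G := G) p
  set Q := Cfsg.pCore p G with hQ
  have hQp : IsPGroup p Q := CfsgLib.Coprime.pCore_isPGroup p
  have hQT : Q ≤ (T : Subgroup G) := hQp.le_sylow_of_normal T
  by_cases hmax : ∀ M : Subgroup G, (T : Subgroup G) ≤ M → M ≠ ⊤ → IsPGroup p M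
  swap
  · -- a smaller subgroup
    push Not at hmax
    obtain ⟨M, hTM, hMt, hMp⟩ := hmax
    have hlt : Nat.card M < n := hn ▸ lt_of_le_of_ne (Subgroup.card_le_card_group M)
      fun h => hMt (Subgroup.eq_top_of_card_eq M h)
    have hQM : Q ≤ M := hQT.trans hTM
    have hle : Q.subgroupOf M ≤ Cfsg.pCore p M :=
      CfsgLib.Coprime.le_pCore (hQp.of_equiv (Subgroup.subgroupOfEquivOfLe hQM).symm)
    have hcM : Subgroup.centralizer (Cfsg.pCore p M : Set M) ≤ Cfsg.pCore p M := by
      intro x hx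
      refine hle (show (x : G) ∈ Q from hc (Subgroup.mem_centralizer_iff.2 fun y hy => ?_))
      exact congrArg Subtype.val (Subgroup.mem_centralizer_iff.1 hx ⟨y, hQM hy⟩ (hle hy))
    obtain ⟨W, hWT, hW, hWc, g, hg, hgc, hgW⟩ := ih _ hlt M rfl
      (hfree.imp id fun h h' => h (involves_of_injective M.subtype M.subtype_injective h'))
      (T.subtype hTM) hcM hMp
    have hT : ((T.subtype hTM : Sylow p M) : Subgroup M).map M.subtype = T :=
      Subgroup.map_subgroupOf_eq_of_le hTM
    refine ⟨W.map M.subtype, hT ▸ Subgroup.map_mono hWT,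
      fun h => hW ((Subgroup.map_eq_bot_iff_of_injective _ M.subtype_injective).1 h),
      hT ▸ hWc.map _ M.subtype_injective, g,
      Subgroup.le_normalizer_map M.subtype (Subgroup.mem_map_of_mem M.subtype hg),
      by rwa [Subgroup.orderOf_coe], fun h => hgW (Subgroup.mem_centralizer_iff.2 fun w hw => ?_)⟩
    exact Subtype.ext (Subgroup.mem_centralizer_iff.1 h _ (Subgroup.mem_map_of_mem M.subtype hw))
  -- a `p'`-element
  obtain ⟨g, hgc, hg1⟩ : ∃ g : G, Nat.Coprime (orderOf g) p ∧ g ≠ 1 := by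
    by_contra hall
    push Not at hall
    refine hG fun x => ?_
    obtain ⟨k, hk⟩ := exists_pow_coprime (p := p) x
    exact ⟨k, hall _ hk⟩
  rcases thompsonA_normal_or_center_central hfree T hc hmax hG with hJ | hZ
  · -- the Thompson subgroup is normal
    have hTne : (T : Subgroup G) ≠ ⊥ := by
      intro h
      have h2 : g ∈ Q := hc (Subgroup.mem_centralizer_iff.2 fun y hy => by
        rw [Subgroup.mem_bot.1 (h.le (hQT hy))]; simp)
      exact hg1 (eq_one_of_pGroup_of_coprime hQp h2 hgc)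
    have hJ0 : Cfsg.thompsonSubgroupAOf (T : Subgroup G) ≠ ⊥ := by
      obtain ⟨A₀, hA₀⟩ := maxAb_nonempty (T : Subgroup G)
      intro h
      refine centerOf_ne_bot T.2 hTne (eq_bot_iff.2 fun z hz => ?_)
      rw [← h, thompsonSubgroupAOf_eq]
      exact le_sSup hA₀ (mem_of_commute_maxAb hA₀ hz.1 fun a ha =>
        Subgroup.mem_centralizer_iff.1 hz.2 a (hA₀.1 ha))
    refine ⟨_, thompsonSubgroupAOf_le _, hJ0, charIn_thompsonA, g, ?_, hgc, fun hgJ => hg1 ?_⟩
    · rw [Subgroup.normalizer_eq_top]; exact Subgroup.mem_top g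
    obtain ⟨A, hA⟩ := maxAb_nonempty (T : Subgroup G)
    have hAJ : A ≤ Cfsg.thompsonSubgroupAOf (T : Subgroup G) := by
      rw [thompsonSubgroupAOf_eq]; exact le_sSup hA
    have hfix : Subgroup.zpowers g ≤ Subgroup.centralizer (Q : Set G) := by
      refine CfsgLib.Coprime.pq_lemma (P := A) (T.2.to_le hA.1) (by rwa [Nat.card_zpowers]) hQp
        ?_ (by rw [Subgroup.normalizer_eq_top]; exact le_top)
        (by rw [Subgroup.normalizer_eq_top]; exact le_top) ?_
      · intro a ha
        refine Subgroup.mem_centralizer_iff.2 ?_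
        rintro _ ⟨z, rfl⟩
        exact (Commute.zpow_left (Subgroup.mem_centralizer_iff.1 hgJ a (hAJ ha)).symm z).eq
      · intro x hx
        have hxA : x ∈ A := mem_of_commute_maxAb hA (hQT hx.1) fun a ha =>
          Subgroup.mem_centralizer_iff.1 hx.2 a ha
        refine Subgroup.mem_centralizer_iff.2 ?_
        rintro _ ⟨z, rfl⟩
        exact (Commute.zpow_left (Subgroup.mem_centralizer_iff.1 hgJ x (hAJ hxA)).symm z).eq
    exact eq_one_of_pGroup_of_coprime hQp (hc (hfix (Subgroup.mem_zpowers g))) hgc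
  · -- the centre is central
    set Z := centerOf (T : Subgroup G) with hZdef
    have hTne : (T : Subgroup G) ≠ ⊥ := by
      intro h
      have h2 : g ∈ Q := hc (Subgroup.mem_centralizer_iff.2 fun y hy => by
        rw [Subgroup.mem_bot.1 (h.le (hQT hy))]; simp)
      exact hg1 (eq_one_of_pGroup_of_coprime hQp h2 hgc)
    have hZc : ∀ z ∈ Z, ∀ x : G, x * z = z * x := fun z hz x =>
      (Subgroup.mem_centralizer_iff.1 (hZ.ge (Subgroup.mem_top x)) z hz).symm
    haveI hZn : Z.Normal := ⟨fun z hz x => by rw [hZc z hz, mul_inv_cancel_right]; exact hz⟩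
    have hZT : Z ≤ (T : Subgroup G) := inf_le_left
    have hZQ : Z ≤ Q := CfsgLib.Coprime.le_pCore (T.2.to_le hZT)
    set f := QuotientGroup.mk' Z with hf
    have hfs : Function.Surjective f := QuotientGroup.mk'_surjective Z
    have hone : ∀ x : G, f x = 1 ↔ x ∈ Z := fun x => QuotientGroup.eq_one_iff x
    have hlt : Nat.card (G ⧸ Z) < n := by
      rw [← hn, Subgroup.card_eq_card_quotient_mul_card_subgroup Z]
      exact lt_mul_of_one_lt_right Nat.card_pos
        ((Subgroup.one_lt_card_iff_ne_bot Z).2 (centerOf_ne_bot T.2 hTne))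
    have hQ' : Q.map f ≤ Cfsg.pCore p (G ⧸ Z) := by
      haveI := Subgroup.Normal.map hQn f hfs
      exact CfsgLib.Coprime.le_pCore (hQp.map f)
    have hc' : Subgroup.centralizer (Cfsg.pCore p (G ⧸ Z) : Set (G ⧸ Z)) ≤
        Cfsg.pCore p (G ⧸ Z) := by
      refine le_trans (Subgroup.centralizer_le hQ') ?_
      haveI hDn : (Subgroup.centralizer (Q.map f : Set (G ⧸ Z))).Normal := by
        haveI := Subgroup.Normal.map hQn f hfs
        infer_instance
      refine CfsgLib.Coprime.le_pCore ?_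
      rintro ⟨y, hy⟩
      obtain ⟨x, rfl⟩ := hfs y
      obtain ⟨k, hk⟩ := exists_pow_coprime (p := p) x
      refine ⟨k, Subtype.ext (show f x ^ p ^ k = 1 from ?_)⟩
      rw [← map_pow, hone]
      set a := x ^ p ^ k with ha
      have hay : f a ∈ Subgroup.centralizer (Q.map f : Set (G ⧸ Z)) := by
        rw [ha, map_pow]; exact pow_mem hy _
      have haQ : a ∈ Subgroup.centralizer (Q : Set G) := mem_centralizer_iff'.2 fun q hq => by
        have hu : a * q * a⁻¹ * q⁻¹ ∈ Z := by
          rw [← hone, map_mul, map_mul, map_mul, map_inv, map_inv,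
            mem_centralizer_iff'.1 hay _ (Subgroup.mem_map_of_mem f hq), mul_inv_cancel]
        have h1 : a * q * a⁻¹ * q⁻¹ = 1 := eq_one_of_conj_eq_mul
          (show Commute (a * q * a⁻¹ * q⁻¹) a from (hZc _ hu a).symm) (hZc _ hu q).symm
          (by group) (by
            obtain ⟨j, hj⟩ := (T.2.to_le hZT) ⟨_, hu⟩
            exact Nat.Coprime.coprime_dvd_left (orderOf_dvd_of_pow_eq_one (congrArg Subtype.val hj))
              (Nat.Coprime.pow_left j hk.symm))
        exact mul_inv_eq_one.1 h1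
      rw [eq_one_of_pGroup_of_coprime hQp (hc haQ) hk]
      exact one_mem Z
    have hG' : ¬ IsPGroup p (G ⧸ Z) := by
      intro h
      refine hG fun x => ?_
      obtain ⟨k, hk⟩ := h (f x)
      rw [← map_pow, hone] at hk
      obtain ⟨j, hj⟩ := (T.2.to_le hZT) ⟨_, hk⟩
      exact ⟨k + j, by rw [pow_add, pow_mul]; exact congrArg Subtype.val hj⟩
    obtain ⟨W', hW'T, hW', hW'c, y, hy, hyc, hyW⟩ := ih _ hlt (G ⧸ Z) rfl
      (hfree.imp id fun h h' => h (involves_of_surjective f hfs h')) (T.mapSurjective hfs) hc' hG'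
    rw [Sylow.coe_mapSurjective hfs T] at hW'T hW'c
    obtain ⟨x, rfl⟩ := hfs y
    obtain ⟨k, hk⟩ := exists_pow_coprime (p := p) x
    have hcomap : W'.comap f ≤ (T : Subgroup G) := by
      refine (Subgroup.comap_mono hW'T).trans ?_
      rw [Subgroup.comap_map_eq, QuotientGroup.ker_mk']
      exact sup_le le_rfl hZT
    have hchar := hW'c.comap f fun φ z hz => (hone _).2 (charIn_centerOf φ z ((hone _).1 hz))
    rw [inf_eq_left.2 hcomap] at hchar
    refine ⟨W'.comap f, hcomap, fun h => hW' ?_, hchar, x ^ p ^ k, pow_mem ?_ _, hk, fun hxW => hyW ?_⟩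
    · rw [← Subgroup.map_comap_eq_self_of_surjective hfs W', h, Subgroup.map_bot]
    · refine Subgroup.mem_normalizer_iff.2 fun z => ?_
      rw [Subgroup.mem_comap, Subgroup.mem_comap, map_mul, map_mul, map_inv]
      exact Subgroup.mem_normalizer_iff.1 hy (f z)
    · obtain ⟨i, hi⟩ := exists_pow_eq_self_of_coprime (x := f x) (n := p ^ k)
        (Nat.Coprime.pow_left k hyc.symm)
      rw [← hi, ← map_pow]
      refine pow_mem (Subgroup.mem_centralizer_iff.2 fun w hw => ?_) i
      obtain ⟨z, rfl⟩ := hfs w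
      rw [← map_mul, ← map_mul, Subgroup.mem_centralizer_iff.1 hxW z hw]

end CfsgLib.Fusion
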