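import Mathlib.GroupTheory.GroupAction.Basic
import Mathlib.GroupTheory.GroupAction.Quotient
import Mathlib.Data.Set.Card
import Mathlib.Data.Set.Finite.Lemmas
import Mathlib.GroupTheory.Index

/-!
# Finite sets with a group action and equal fixed-point counts are isomorphic
-/

set_option autoImplicit false

namespace CfsgLib.Fusion.Marks

open scoped Classical

variable {H : Type*} [Group H] {X Y : Type*} [MulAction H X] [MulAction H Y]

/-- The points of `A` fixed by `K`. -/
def fixIn (K : Subgroup H) (A : Set X) : Set X := {a ∈ A | ∀ k ∈ K, k • a = a}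

theorem fixIn_diff (K : Subgroup H) (A B : Set X) :
    fixIn K (A \ B) = fixIn K A \ fixIn K B := by
  ext a
  simp only [fixIn, Set.mem_diff, Set.mem_setOf_eq]
  tauto

/-- The map on an orbit given by a point with the same stabilizer. -/
theorem exists_orbit_map [Nonempty Y] (x : X) (y : Y)
    (h : MulAction.stabilizer H x = MulAction.stabilizer H y) :
    ∃ e : X → Y, Set.BijOn e (MulAction.orbit H x) (MulAction.orbit H y) ∧
      ∀ g : H, e (g • x) = g • y := by
  let e : X → Y := fun z => if hz : ∃ g : H, g • x = z then hz.choose • y else Classical.arbitrary Y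
  have hkey : ∀ g g' : H, g • x = g' • x ↔ g • y = g' • y := fun g g' => by
    have h1 : g'⁻¹ * g ∈ MulAction.stabilizer H x ↔ g'⁻¹ * g ∈ MulAction.stabilizer H y := by rw [h]
    simpa [MulAction.mem_stabilizer_iff, mul_smul, inv_smul_eq_iff] using h1
  have he : ∀ g : H, e (g • x) = g • y := fun g => by
    have hz : ∃ g' : H, g' • x = g • x := ⟨g, rfl⟩
    show (if hz : ∃ g' : H, g' • x = g • x then hz.choose • y else _) = _
    rw [dif_pos hz]
    exact (hkey _ _).1 hz.choose_spec
  refine ⟨e, ⟨?_, ?_, ?_⟩, he⟩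
  · rintro _ ⟨g, rfl⟩
    rw [he]
    exact ⟨g, rfl⟩
  · rintro _ ⟨g, rfl⟩ _ ⟨g', rfl⟩ hgg
    rw [he, he] at hgg
    exact (hkey g g').2 hgg
  · rintro _ ⟨g, rfl⟩
    exact ⟨g • x, ⟨g, rfl⟩, he g⟩

theorem exists_bijOn [Finite X] [Finite Y] [Nonempty Y] (n : ℕ) :
    ∀ (A : Set X) (B : Set Y), A.ncard = n →
      (∀ (g : H), ∀ a ∈ A, g • a ∈ A) → (∀ (g : H), ∀ b ∈ B, g • b ∈ B) →
      (∀ K : Subgroup H, (fixIn K A).ncard = (fixIn K B).ncard) →
      ∃ e : X → Y, Set.BijOn e A B ∧ ∀ (g : H), ∀ a ∈ A, e (g • a) = g • e a := by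
  induction n using Nat.strong_induction_on with
  | _ n ih =>
  intro A B hn hA hB hfix
  rcases A.eq_empty_or_nonempty with rfl | hne
  · have hB0 : B = ∅ := by
      have h1 := hfix ⊥
      have h2 : fixIn (⊥ : Subgroup H) (∅ : Set X) = ∅ := by simp [fixIn]
      have h3 : fixIn (⊥ : Subgroup H) B = B := by
        ext b
        refine ⟨fun hb => hb.1, fun hb => ⟨hb, fun k hk => ?_⟩⟩
        rw [Subgroup.mem_bot.1 hk, one_smul]
      rw [h2, h3, Set.ncard_empty] at h1
      exact (Set.ncard_eq_zero (Set.toFinite B)).1 h1.symm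
    subst hB0
    exact ⟨fun _ => Classical.arbitrary Y, Set.bijOn_empty _, fun g a ha => absurd ha (Set.notMem_empty a)⟩
  -- a point of `A` whose image in the permutations of `X × Y` has largest stabilizer
  let N : Subgroup H :=
    (MulAction.toPermHom H X).ker ⊓ (MulAction.toPermHom H Y).ker
  haveI hNf : N.FiniteIndex := by
    haveI : Finite (Equiv.Perm X) := inferInstance
    haveI : Finite (Equiv.Perm Y) := inferInstance
    infer_instance
  have hNle : ∀ x : X, N ≤ MulAction.stabilizer H x := fun x k hk => by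
    have := Equiv.ext_iff.1 (MonoidHom.mem_ker.1 hk.1) x
    simpa using this
  have hNle' : ∀ y : Y, N ≤ MulAction.stabilizer H y := fun y k hk => by
    have := Equiv.ext_iff.1 (MonoidHom.mem_ker.1 hk.2) y
    simpa using this
  obtain ⟨x, hx, hmin⟩ := Set.exists_min_image A
    (fun a => (MulAction.stabilizer H a).index) (Set.toFinite A) hne
  set K := MulAction.stabilizer H x with hK
  have hxK : x ∈ fixIn K A := ⟨hx, fun k hk => hk⟩
  obtain ⟨y, hy, hyK⟩ : (fixIn K B).Nonempty := by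
    rw [← Set.ncard_pos (Set.toFinite _), ← hfix]
    exact (Set.ncard_pos (Set.toFinite _)).2 ⟨x, hxK⟩
  have hKy : K ≤ MulAction.stabilizer H y := fun k hk => hyK k hk
  haveI : K.FiniteIndex := Subgroup.finiteIndex_of_le (hNle x)
  have hyx : K = MulAction.stabilizer H y := by
    obtain ⟨x', hx', hxy⟩ : (fixIn (MulAction.stabilizer H y) A).Nonempty := by
      rw [← Set.ncard_pos (Set.toFinite _), hfix]
      exact (Set.ncard_pos (Set.toFinite _)).2 ⟨y, hy, fun k hk => hk⟩
    have h1 := hmin x' hx'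
    haveI : (MulAction.stabilizer H y).FiniteIndex := Subgroup.finiteIndex_of_le (hNle' y)
    have h2 : (MulAction.stabilizer H x').index ≤ (MulAction.stabilizer H y).index :=
      Nat.le_of_dvd (Nat.pos_of_ne_zero Subgroup.FiniteIndex.index_ne_zero)
        (Subgroup.index_dvd_of_le fun k hk => hxy k hk)
    refine le_antisymm hKy ?_
    rw [← Subgroup.relIndex_eq_one]
    have h3 := Subgroup.relIndex_mul_index hKy
    have h4 : 0 < (MulAction.stabilizer H y).index :=
      Nat.pos_of_ne_zero Subgroup.FiniteIndex.index_ne_zero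
    have h5 : K.relIndex (MulAction.stabilizer H y) * (MulAction.stabilizer H y).index ≤
        1 * (MulAction.stabilizer H y).index := by
      rw [h3, one_mul]
      exact le_trans h1 h2
    have h6 : K.relIndex (MulAction.stabilizer H y) ≠ 0 := by
      intro h0
      rw [h0, zero_mul] at h3
      exact Subgroup.FiniteIndex.index_ne_zero h3.symm
    have := Nat.le_of_mul_le_mul_right h5 h4
    omega
  obtain ⟨e₁, he₁, hee₁⟩ := exists_orbit_map x y hyx
  have hOA : MulAction.orbit H x ⊆ A := by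
    rintro _ ⟨g, rfl⟩; exact hA g x hx
  have hOB : MulAction.orbit H y ⊆ B := by
    rintro _ ⟨g, rfl⟩; exact hB g y hy
  have hAd : ∀ g : H, ∀ a ∈ A \ MulAction.orbit H x, g • a ∈ A \ MulAction.orbit H x :=
    fun g a ha => ⟨hA g a ha.1, fun h => ha.2 (by
      obtain ⟨g', hg'⟩ := h
      exact ⟨g⁻¹ * g', by rw [show (fun m : H => m • x) (g⁻¹ * g') = (g⁻¹ * g') • x from rfl,
        mul_smul, show g' • x = g • a from hg', inv_smul_smul]⟩)⟩
  have hBd : ∀ g : H, ∀ b ∈ B \ MulAction.orbit H y, g • b ∈ B \ MulAction.orbit H y :=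
    fun g a ha => ⟨hB g a ha.1, fun h => ha.2 (by
      obtain ⟨g', hg'⟩ := h
      exact ⟨g⁻¹ * g', by rw [show (fun m : H => m • y) (g⁻¹ * g') = (g⁻¹ * g') • y from rfl,
        mul_smul, show g' • y = g • a from hg', inv_smul_smul]⟩)⟩
  have hlt : (A \ MulAction.orbit H x).ncard < n := by
    rw [← hn]
    exact Set.ncard_lt_ncard ⟨Set.diff_subset, fun h => (h hx).2 (MulAction.mem_orbit_self x)⟩
      (Set.toFinite A)
  have horb : ∀ L : Subgroup H, (fixIn L (MulAction.orbit H x)).ncard =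
      (fixIn L (MulAction.orbit H y)).ncard := by
    intro L
    rw [← Set.InjOn.ncard_image (he₁.injOn.mono fun a ha => ha.1)]
    congr 1
    have heq : ∀ g k : H, k • (g • x) = g • x ↔ k • (g • y) = g • y := fun g k => by
      rw [← mul_smul, ← mul_smul]
      constructor
      · intro h; rw [← hee₁ (k * g), h, hee₁]
      · intro h
        exact he₁.injOn ⟨k * g, rfl⟩ ⟨g, rfl⟩ (by rw [hee₁, hee₁, h])
    ext b
    constructor
    · rintro ⟨_, ⟨⟨g, rfl⟩, hk⟩, rfl⟩
      refine ⟨he₁.mapsTo ⟨g, rfl⟩, fun k hk' => ?_⟩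
      show k • e₁ (g • x) = e₁ (g • x)
      rw [hee₁]
      exact (heq g k).1 (hk k hk')
    · rintro ⟨⟨g, rfl⟩, hk⟩
      exact ⟨g • x, ⟨⟨g, rfl⟩, fun k hk' => (heq g k).2 (hk k hk')⟩, hee₁ g⟩
  obtain ⟨e₂, he₂, hee₂⟩ := ih _ hlt (A \ MulAction.orbit H x) (B \ MulAction.orbit H y) rfl
    hAd hBd fun L => by
      have h1 : fixIn L (MulAction.orbit H x) ⊆ fixIn L A := fun a ha => ⟨hOA ha.1, ha.2⟩
      have h2 : fixIn L (MulAction.orbit H y) ⊆ fixIn L B := fun a ha => ⟨hOB ha.1, ha.2⟩
      rw [fixIn_diff, fixIn_diff, Set.ncard_diff h1 (Set.toFinite _), Set.ncard_diff h2 (Set.toFinite _),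
        horb L, hfix L]
  refine ⟨fun a => if a ∈ MulAction.orbit H x then e₁ a else e₂ a, ⟨?_, ?_, ?_⟩, ?_⟩
  · intro a ha
    by_cases h : a ∈ MulAction.orbit H x
    · simpa [h] using hOB (he₁.mapsTo h)
    · simpa [h] using (he₂.mapsTo ⟨ha, h⟩).1
  · intro a ha a' ha' haa
    by_cases h : a ∈ MulAction.orbit H x <;> by_cases h' : a' ∈ MulAction.orbit H x <;>
      simp only [h, h', if_true, if_false] at haa
    · exact he₁.injOn h h' haa
    · exact absurd (haa ▸ he₁.mapsTo h) (he₂.mapsTo ⟨ha', h'⟩).2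
    · exact absurd (haa.symm ▸ he₁.mapsTo h') (he₂.mapsTo ⟨ha, h⟩).2
    · exact he₂.injOn ⟨ha, h⟩ ⟨ha', h'⟩ haa
  · intro b hb
    by_cases h : b ∈ MulAction.orbit H y
    · obtain ⟨a, ha, rfl⟩ := he₁.surjOn h
      exact ⟨a, hOA ha, by simp [ha]⟩
    · obtain ⟨a, ha, rfl⟩ := he₂.surjOn ⟨hb, h⟩
      exact ⟨a, ha.1, by simp [ha.2]⟩
  · intro g a ha
    by_cases h : a ∈ MulAction.orbit H x
    · obtain ⟨g', rfl⟩ := h
      have h' : g • g' • x ∈ MulAction.orbit H x := ⟨g * g', mul_smul g g' x⟩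
      simp only [h', show g' • x ∈ MulAction.orbit H x from ⟨g', rfl⟩, if_true]
      rw [← mul_smul, hee₁, hee₁, mul_smul]
    · have h' : g • a ∉ MulAction.orbit H x := (hAd g a ⟨ha, h⟩).2
      simp only [h, h', if_false]
      exact hee₂ g a ⟨ha, h⟩

/-- Two finite sets with equal fixed-point counts are isomorphic. -/
theorem exists_equiv [Finite X] [Finite Y]
    (h : ∀ K : Subgroup H, Nat.card {a : X // ∀ k ∈ K, k • a = a} =
      Nat.card {b : Y // ∀ k ∈ K, k • b = b}) :
    ∃ e : X ≃ Y, ∀ (g : H) (a : X), e (g • a) = g • e a := by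
  have hcard : Nat.card X = Nat.card Y := by
    have h1 := h ⊥
    rwa [Nat.card_congr (Equiv.subtypeUnivEquiv fun a k hk => by rw [Subgroup.mem_bot.1 hk, one_smul]),
      Nat.card_congr (Equiv.subtypeUnivEquiv fun a k hk => by
        rw [Subgroup.mem_bot.1 hk, one_smul])] at h1
  rcases isEmpty_or_nonempty Y with hY | hY
  · have : IsEmpty X := by
      rcases Nat.card_eq_zero.1 (hcard.trans Nat.card_of_isEmpty) with h0 | h0
      · exact h0
      · exact absurd h0 (not_infinite_iff_finite.2 inferInstance)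
    exact ⟨Equiv.equivOfIsEmpty X Y, fun g a => isEmptyElim a⟩
  obtain ⟨e, he, hee⟩ := exists_bijOn (H := H) _ (Set.univ : Set X) (Set.univ : Set Y) rfl
    (fun _ _ _ => trivial) (fun _ _ _ => trivial) fun K => by
      have h1 := h K
      simp only [fixIn, Set.mem_univ, true_and, ← Nat.card_coe_set_eq]
      exact h1
  exact ⟨Equiv.ofBijective e (Set.bijOn_univ.1 he), fun g a => hee g a trivial⟩

end CfsgLib.Fusion.Marks
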