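import Cfsg.Agent.Lib.Fusion.Sylow
import Mathlib.GroupTheory.PGroup
import Mathlib.Data.Finite.Prod
import Mathlib.Data.Fintype.Lattice
import Mathlib.Data.Set.Finite.Lattice

/-!
# Offenders normalizing a faithful abelian group of order prime to `p`
-/

set_option autoImplicit false
set_option linter.style.haveILetI false

open Subgroup

namespace CfsgLib.Fusion

variable {V : Type*} [CommGroup V] [Finite V] {p : ℕ} [Fact p.Prime]

/-- The fixed points of a subgroup of automorphisms. -/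
def fixV (A : Subgroup (MulAut V)) : Subgroup V where
  carrier := {v | ∀ a ∈ A, a v = v}
  one_mem' := fun a _ => map_one a
  mul_mem' := fun {v w} hv hw a ha => by rw [map_mul, hv a ha, hw a ha]
  inv_mem' := fun {v} hv a ha => by rw [map_inv, hv a ha]

theorem fixV_antitone {A B : Subgroup (MulAut V)} (h : A ≤ B) : fixV B ≤ fixV A :=
  fun _ hv a ha => hv a (h ha)

/-- A nontrivial fixed point of a `p`-group on the quotient by an invariant subgroup. -/
theorem exists_fixed_mod (hV : IsPGroup p V) {A : Subgroup (MulAut V)} (hA : IsPGroup p A)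
    {M : Subgroup V} (hM : ∀ a ∈ A, ∀ v ∈ M, a v ∈ M) {N : Subgroup V}
    (hN : ∀ a ∈ A, ∀ v ∈ N, a v ∈ N) (hMN : M < N) :
    ∃ v ∈ N, v ∉ M ∧ ∀ a ∈ A, a v * v⁻¹ ∈ M := by
  let Q := N ⧸ M.subgroupOf N
  let act : A → Q → Q := fun a => Quotient.map' (fun x => ⟨(a : MulAut V) x, hN a a.2 x x.2⟩)
    fun x y h => by
      rw [QuotientGroup.leftRel_apply] at h ⊢
      show ((a : MulAut V) x)⁻¹ * (a : MulAut V) y ∈ M
      rw [← map_inv, ← map_mul]
      exact hM a a.2 _ h
  letI : MulAction A Q :=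
    { smul := act
      one_smul := fun q => Quotient.inductionOn' q fun x => congrArg Quotient.mk'' (Subtype.ext rfl)
      mul_smul := fun a b q => Quotient.inductionOn' q fun x =>
        congrArg Quotient.mk'' (Subtype.ext rfl) }
  have hd : p ∣ Nat.card Q := by
    obtain ⟨n, hn⟩ := ((hV.to_subgroup N).to_quotient (M.subgroupOf N)).exists_card_eq
    rcases Nat.eq_zero_or_pos n with rfl | hn0
    · exfalso
      rw [pow_zero] at hn
      haveI := (Nat.card_eq_one_iff_unique.1 hn).1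
      obtain ⟨x, hxN, hxM⟩ := SetLike.exists_of_lt hMN
      exact hxM ((QuotientGroup.eq_one_iff (N := M.subgroupOf N) ⟨x, hxN⟩).1 (Subsingleton.elim _ _))
    · exact hn ▸ dvd_pow_self p hn0.ne'
  have h1 : ((1 : N) : Q) ∈ MulAction.fixedPoints A Q := fun a =>
    congrArg Quotient.mk'' (Subtype.ext (map_one (a : MulAut V)))
  obtain ⟨q, hq, hne⟩ := hA.exists_fixed_point_of_prime_dvd_card_of_fixed_point Q hd h1
  induction q using Quotient.inductionOn' with
  | _ x =>
    refine ⟨x, x.2, fun h => hne (QuotientGroup.eq.2 ?_), fun a ha => ?_⟩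
    · show (1 : V)⁻¹ * x ∈ M
      rwa [inv_one, one_mul]
    · have h := (QuotientGroup.eq (s := M.subgroupOf N)).1 ((hq ⟨a, ha⟩).symm :)
      have h' : (x : V)⁻¹ * a x ∈ M := h
      rwa [mul_comm] at h'

theorem pow_apply_of_fixed_ratio {a : MulAut V} {v m : V} (hv : a v = m * v) (hm : a m = m)
    (n : ℕ) : (a ^ n) v = m ^ n * v := by
  induction n with
  | zero => simp
  | succ n ih => rw [pow_succ', MulAut.mul_apply, ih, map_mul, map_pow, hm, hv, pow_succ, mul_assoc]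

/-- An automorphism of order prime to `p` commuting with a `p`-group and fixing its fixed points is
trivial. -/
theorem eq_one_of_fix_fixV (hV : IsPGroup p V) {A : Subgroup (MulAut V)} (hA : IsPGroup p A)
    {k : MulAut V} (hk : Nat.Coprime (orderOf k) p) (hcomm : ∀ a ∈ A, Commute a k)
    (hfix : ∀ v ∈ fixV A, k v = v) : k = 1 := by
  by_contra hne
  set M := fixV (Subgroup.zpowers k) with hM
  have hmem : ∀ v, v ∈ M ↔ k v = v := by
    refine fun v => ⟨fun h => h k (Subgroup.mem_zpowers k), fun h a ha => ?_⟩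
    obtain ⟨n, rfl⟩ := Submonoid.mem_powers_iff _ _ |>.1 (mem_powers_iff_mem_zpowers.2 ha)
    rw [pow_apply_of_fixed_ratio (m := 1) (by rw [h, one_mul]) (map_one k), one_pow, one_mul]
  have hMlt : M < ⊤ := lt_top_iff_ne_top.2 fun h =>
    hne (MulEquiv.ext fun v => (hmem v).1 (h ▸ Subgroup.mem_top v))
  obtain ⟨v, -, hv, hva⟩ := exists_fixed_mod hV hA (M := M) (fun a ha w hw => (hmem _).2 (by
      rw [← MulAut.mul_apply, ← (hcomm a ha).eq, MulAut.mul_apply, (hmem w).1 hw]))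
    (fun _ _ _ _ => Subgroup.mem_top _) hMlt
  set m := k v * v⁻¹ with hm
  have hmA : m ∈ fixV A := fun a ha => by
    have h := (hmem _).1 (hva a ha)
    rw [map_mul, map_inv, ← MulAut.mul_apply, ← (hcomm a ha).eq, MulAut.mul_apply] at h
    rw [hm, map_mul, map_inv]
    rw [mul_inv_eq_iff_eq_mul.1 h, mul_right_comm (a v * v⁻¹), mul_right_comm (a v), mul_inv_cancel,
      one_mul, mul_comm]
  have hpow := pow_apply_of_fixed_ratio (show k v = m * v by rw [hm]; group) (hfix m hmA) (orderOf k)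
  rw [pow_orderOf_eq_one, MulAut.one_apply, eq_comm, mul_eq_right] at hpow
  obtain ⟨j, hj⟩ := hV m
  have hm1 : m = 1 := orderOf_eq_one_iff.1 (Nat.eq_one_of_dvd_coprimes (Nat.Coprime.pow_right j hk)
    (orderOf_dvd_of_pow_eq_one hpow) (orderOf_dvd_of_pow_eq_one hj))
  exact hv ((hmem v).2 (mul_inv_eq_one.1 hm1))

theorem exists_mul_of_mem_sup_of_normalizer {G : Type*} [Group G] {N H : Subgroup G}
    (h : H ≤ Subgroup.normalizer (N : Set G)) {x : G} (hx : x ∈ N ⊔ H) :
    ∃ n ∈ N, ∃ k ∈ H, n * k = x := by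
  rw [sup_comm, ← SetLike.mem_coe, Subgroup.coe_mul_of_left_le_normalizer_right H N h] at hx
  obtain ⟨k, hk, n, hn, rfl⟩ := hx
  exact ⟨k * n * k⁻¹, (Subgroup.mem_normalizer_iff.1 (h hk) n).1 hn, k, hk, by group⟩

/-- Noncyclic configurations centralize: if every element outside `A₀` centralizes only fixed
elements, two independent elements of order `p` modulo `A₀` centralize `K`. -/
theorem fix_of_rank_two {G K : Type*} [Group G] [CommGroup K] [Finite K] (φ : G →* MulAut K)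
    {a b : G} {F : Subgroup K} (hK : ¬ p ∣ Nat.card K) (ha : φ a ^ p = 1) (hb : φ b ^ p = 1)
    (hab : Commute (φ a) (φ b))
    (hF : ∀ (i j : Fin p) (k : K), ((i : ℕ) ≠ 0 ∨ (j : ℕ) ≠ 0) → (φ a ^ (i : ℕ) * φ b ^ (j : ℕ)) k = k → k ∈ F)
    (k : K) : k ∈ F := by
  classical
  have hp := (Fact.out : p.Prime)
  set u := φ a
  set w := φ b
  have hnorm : ∀ (x : MulAut K), x ^ p = 1 → ∀ k : K,
      x (∏ i ∈ Finset.range p, (x ^ i) k) = ∏ i ∈ Finset.range p, (x ^ i) k := by
    intro x hx k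
    rw [map_prod]
    obtain ⟨n, rfl⟩ : ∃ n, p = n + 1 := ⟨p - 1, (Nat.sub_add_cancel hp.one_le).symm⟩
    rw [Finset.prod_range_succ (fun i => x ((x ^ i) k)), Finset.prod_range_succ' (fun i => (x ^ i) k)]
    refine congrArg₂ (· * ·) (Finset.prod_congr rfl fun i _ => ?_) ?_
    · rw [← MulAut.mul_apply, ← pow_succ']
    · rw [← MulAut.mul_apply, ← pow_succ', hx, pow_zero]
  have hF1 : ∀ j ∈ Finset.range p, ∏ i ∈ Finset.range p, ((u * w ^ j) ^ i) k ∈ F := by
    intro j hj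
    have hpow : (u * w ^ j) ^ p = 1 := by
      rw [(hab.pow_right j).mul_pow, ha, ← pow_mul, mul_comm, pow_mul, hb, one_pow, one_mul]
    refine hF ⟨1, hp.one_lt⟩ ⟨j, Finset.mem_range.1 hj⟩ _ (Or.inl one_ne_zero) ?_
    show (u ^ 1 * w ^ j) _ = _
    rw [pow_one]
    exact hnorm _ hpow k
  have hF2 : ∏ i ∈ Finset.range p, (w ^ i) k ∈ F := by
    refine hF ⟨0, hp.pos⟩ ⟨1, hp.one_lt⟩ _ (Or.inr one_ne_zero) ?_
    show (u ^ 0 * w ^ 1) _ = _
    rw [pow_zero, pow_one, one_mul]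
    exact hnorm w hb k
  have hF3 : ∏ i ∈ Finset.range p, ∏ j ∈ Finset.range p, (u ^ i * w ^ j) k ∈ F := by
    refine hF ⟨0, hp.pos⟩ ⟨1, hp.one_lt⟩ _ (Or.inr one_ne_zero) ?_
    show (u ^ 0 * w ^ 1) _ = _
    rw [pow_zero, pow_one, one_mul, map_prod]
    refine Finset.prod_congr rfl fun i _ => ?_
    have h := hnorm w hb ((u ^ i) k)
    simp only [← MulAut.mul_apply, ((hab.pow_pow i _).eq)] at *
    convert h using 3 <;> rw [← MulAut.mul_apply, (hab.pow_pow i _).eq]
  have hsplit : (∏ j ∈ Finset.range p, ∏ i ∈ Finset.range p, ((u * w ^ j) ^ i) k) *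
      (∏ i ∈ Finset.range p, (w ^ i) k) =
      k ^ p * ∏ i ∈ Finset.range p, ∏ j ∈ Finset.range p, (u ^ i * w ^ j) k := by
    rw [Finset.prod_comm]
    obtain ⟨n, hn⟩ : ∃ n, p = n + 1 := ⟨p - 1, (Nat.sub_add_cancel hp.one_le).symm⟩
    rw [hn, Finset.prod_range_succ' (fun i => ∏ j ∈ Finset.range (n + 1), ((u * w ^ j) ^ i) k),
      Finset.prod_range_succ' (fun i => ∏ j ∈ Finset.range (n + 1), (u ^ i * w ^ j) k), ← hn]
    have hshift : ∀ i ∈ Finset.range n, ∏ j ∈ Finset.range p, ((u * w ^ j) ^ (i + 1)) k =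
        ∏ j ∈ Finset.range p, (u ^ (i + 1) * w ^ j) k := by
      intro i hi
      have hcop : Nat.Coprime p (i + 1) := hp.coprime_iff_not_dvd.2 fun hd => by
        have := Nat.le_of_dvd (Nat.succ_pos i) hd
        have := Finset.mem_range.1 hi
        omega
      refine Finset.prod_bij (fun j _ => j * (i + 1) % p)
        (fun j _ => Finset.mem_range.2 (Nat.mod_lt _ hp.pos)) (fun j₁ h₁ j₂ h₂ he => ?_)
        (fun j hj => ?_) (fun j _ => ?_)
      · have := Nat.ModEq.cancel_right_of_coprime hcop he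
        exact Nat.ModEq.eq_of_lt_of_lt this (Finset.mem_range.1 h₁) (Finset.mem_range.1 h₂)
      · obtain ⟨c, -, hc⟩ :=
          Nat.exists_mul_mod_eq_one_of_coprime (Nat.coprime_comm.1 hcop) hp.one_lt
        refine ⟨j * c % p, Finset.mem_range.2 (Nat.mod_lt _ hp.pos), ?_⟩
        rw [Nat.mod_mul_mod, mul_assoc, mul_comm c, Nat.mul_mod, hc, mul_one, Nat.mod_mod,
          Nat.mod_eq_of_lt (Finset.mem_range.1 hj)]
      · rw [(hab.pow_right j).mul_pow, ← pow_mul, pow_eq_pow_mod (j * (i + 1)) hb]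
    rw [Finset.prod_congr rfl hshift]
    simp only [pow_zero, one_mul, MulAut.one_apply, Finset.prod_const, Finset.card_range]
    rw [mul_comm (k ^ p)]
    ac_rfl
  have hkp : k ^ p ∈ F := by
    have := F.mul_mem (F.mul_mem (prod_mem hF1) hF2) (F.inv_mem hF3)
    rwa [hsplit, mul_inv_cancel_right] at this
  obtain ⟨i, hi⟩ := exists_pow_eq_self_of_coprime (x := k) (n := p)
    (hp.coprime_iff_not_dvd.2 fun hd => hK (hd.trans (orderOf_dvd_natCard k)))
  exact hi ▸ pow_mem hkp i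

/-- The offender bound, with the equality case. -/
theorem card_fixV_mul_le (hV : ∀ v : V, v ^ p = 1) (K : Subgroup (MulAut V))
    (hKc : ∀ x ∈ K, ∀ y ∈ K, Commute x y) (hKp : ¬ p ∣ Nat.card K) :
    ∀ A : Subgroup (MulAut V), IsPGroup p A → (∀ x ∈ A, ∀ y ∈ A, Commute x y) →
      A ≤ Subgroup.normalizer (K : Set (MulAut V)) →
      (∀ a ∈ A, (∀ k ∈ K, Commute a k) → a = 1) →
      Nat.card (fixV A) * Nat.card A ≤ Nat.card V ∧
        (Nat.card (fixV A) * Nat.card A = Nat.card V → A ≠ ⊥ →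
          ∃ a ∈ A, ∃ k ∈ K, a ^ p = 1 ∧
            Nat.card V = p * Nat.card (fixV (Subgroup.zpowers a)) ∧ ¬ Commute a k) := by
  classical
  have hp := (Fact.out : p.Prime)
  have hVp : IsPGroup p V := fun v => ⟨1, by rw [pow_one]; exact hV v⟩
  haveI : Finite (MulAut V) := Finite.of_injective MulEquiv.toEquiv fun a b h =>
    MulEquiv.ext fun v => congrArg (fun e : V ≃ V => e v) h
  intro A
  induction hn : Nat.card A using Nat.strong_induction_on generalizing A with
  | _ n ih =>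
  intro hAp hAc hAK hfaith
  by_cases hA1 : A = ⊥
  · subst hA1
    refine ⟨?_, fun _ h => absurd rfl h⟩
    rw [← hn, Subgroup.card_bot, mul_one]
    exact Subgroup.card_le_card_group _
  -- a minimal invariant subgroup that is not centralized
  obtain ⟨⟨a₁, ha₁⟩, ha₁'⟩ := Subgroup.ne_bot_iff_exists_ne_one.1 hA1
  have ha₁1 : a₁ ≠ 1 := fun h => ha₁' (Subtype.ext h)
  obtain ⟨K₀, ⟨hK₀K, hK₀n, a₂, ha₂, k₂, hk₂, hnc⟩, hK₀min⟩ := (Set.toFinite
    {K' : Subgroup (MulAut V) | K' ≤ K ∧ A ≤ Subgroup.normalizer (K' : Set (MulAut V)) ∧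
      ∃ a ∈ A, ∃ k ∈ K', ¬ Commute a k}).exists_minimal ⟨K, le_rfl, hAK, a₁, ha₁, by
        by_contra h
        push Not at h
        exact ha₁1 (hfaith a₁ ha₁ h)⟩
  let A₀ : Subgroup (MulAut V) :=
    { carrier := {a | a ∈ A ∧ ∀ k ∈ K₀, Commute a k}
      one_mem' := ⟨one_mem A, fun k _ => Commute.one_left k⟩
      mul_mem' := fun {x y} hx hy => ⟨mul_mem hx.1 hy.1, fun k hk => (hx.2 k hk).mul_left (hy.2 k hk)⟩
      inv_mem' := fun {x} hx => ⟨inv_mem hx.1, fun k hk => (hx.2 k hk).inv_left⟩ }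
  have hA₀A : A₀ ≤ A := fun _ h => h.1
  have hconj : ∀ a ∈ A, ∀ k ∈ K₀, a * k * a⁻¹ ∈ K₀ := fun a ha k hk =>
    (Subgroup.mem_normalizer_iff.1 (hK₀n ha) k).1 hk
  have hcent : ∀ x ∈ A, x ∉ A₀ → ∀ k ∈ K₀, Commute x k → ∀ a ∈ A, Commute a k := by
    intro x hx hxA k hk hxk
    by_contra hcon
    push Not at hcon
    obtain ⟨a, ha, hak⟩ := hcon
    let C : Subgroup (MulAut V) :=
      { carrier := {k | k ∈ K₀ ∧ Commute x k}
        one_mem' := ⟨one_mem K₀, Commute.one_right x⟩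
        mul_mem' := fun {y z} hy hz => ⟨mul_mem hy.1 hz.1, hy.2.mul_right hz.2⟩
        inv_mem' := fun {y} hy => ⟨inv_mem hy.1, hy.2.inv_right⟩ }
    have hCn : A ≤ Subgroup.normalizer (C : Set (MulAut V)) := by
      intro c hc
      refine conjBy_eq_iff.1 (conjBy_eq_of_le (conjBy_le_iff.2 fun y hy => ⟨hconj c hc y hy.1, ?_⟩))
      exact ((hAc x hx c hc).mul_right hy.2).mul_right (hAc x hx c hc).inv_right
    have hle : C ≤ K₀ := fun _ h => h.1
    have hmin := hK₀min (show C ∈ {K' : Subgroup (MulAut V) | K' ≤ K ∧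
      A ≤ Subgroup.normalizer (K' : Set (MulAut V)) ∧ ∃ a ∈ A, ∃ k ∈ K', ¬ Commute a k} from
      ⟨hle.trans hK₀K, hCn, a, ha, k, ⟨hk, hxk⟩, hak⟩) hle
    exact hxA ⟨hx, fun k' hk' => (hmin hk').2⟩
  -- no two independent elements of order `p` modulo `A₀`
  have hrank : ∀ x ∈ A, ∀ y ∈ A, x ^ p ∈ A₀ → y ^ p ∈ A₀ →
      ∃ i j : Fin p, ((i : ℕ) ≠ 0 ∨ (j : ℕ) ≠ 0) ∧ x ^ (i : ℕ) * y ^ (j : ℕ) ∈ A₀ := by
    intro x hx y hy hxp hyp
    by_contra hcon
    push Not at hcon
    letI : CommGroup K₀ :=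
      { mul_comm := fun u v => Subtype.ext (hKc _ (hK₀K u.2) _ (hK₀K v.2)) }
    let φ : A →* MulAut K₀ := K₀.normalizerMonoidHom.comp (Subgroup.inclusion hK₀n)
    have hφ : ∀ (c : A) (k : K₀), ((φ c k : K₀) : MulAut V) = c * k * (c : MulAut V)⁻¹ :=
      fun c k => rfl
    let F : Subgroup K₀ :=
      { carrier := {k | ∀ a ∈ A, Commute a (k : MulAut V)}
        one_mem' := fun a _ => Commute.one_right a
        mul_mem' := fun {u v} hu hv a ha => (hu a ha).mul_right (hv a ha)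
        inv_mem' := fun {u} hu a ha => (hu a ha).inv_right }
    have htriv : ∀ c : A, (c : MulAut V) ∈ A₀ → φ c = 1 := fun c hc => MulEquiv.ext fun k =>
      Subtype.ext (by rw [hφ, (hc.2 k k.2).eq, mul_inv_cancel_right]; rfl)
    have hK₀p : ¬ p ∣ Nat.card K₀ := fun hd => hKp (hd.trans (Subgroup.card_dvd_of_le hK₀K))
    have hall : ∀ k : K₀, k ∈ F := fun k => fix_of_rank_two (p := p) φ (a := ⟨x, hx⟩) (b := ⟨y, hy⟩)
      hK₀p (by rw [← map_pow]; exact htriv _ hxp) (by rw [← map_pow]; exact htriv _ hyp)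
      ((show Commute (⟨x, hx⟩ : A) ⟨y, hy⟩ from Subtype.ext (hAc x hx y hy).eq).map φ)
      (fun i j k hij hfix => by
        rw [← map_pow, ← map_pow, ← map_mul] at hfix
        refine hcent (x ^ (i : ℕ) * y ^ (j : ℕ)) (mul_mem (pow_mem hx _) (pow_mem hy _))
          (hcon i j hij) k k.2 ?_
        have h := congrArg Subtype.val hfix
        rw [hφ] at h
        exact mul_inv_eq_iff_eq_mul.1 h) k
    exact hnc (hall ⟨k₂, hk₂⟩ a₂ ha₂)
  -- `A` is cyclic modulo `A₀`
  obtain ⟨⟨b, hb⟩, hbmax⟩ := Finite.exists_max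
    fun b : A => Nat.card (A₀ ⊔ Subgroup.zpowers (b : MulAut V) : Subgroup (MulAut V))
  have hgen : A ≤ A₀ ⊔ Subgroup.zpowers b := by
    set H := A₀ ⊔ Subgroup.zpowers b with hH
    have hHA : H ≤ A := sup_le hA₀A (Subgroup.zpowers_le.2 hb)
    by_contra hle
    obtain ⟨x₀, hx₀, hx₀H⟩ := SetLike.not_le_iff_exists.1 hle
    have hex : ∃ k, x₀ ^ p ^ k ∈ H := by
      obtain ⟨k, hk⟩ := hAp ⟨x₀, hx₀⟩
      exact ⟨k, by rw [show x₀ ^ p ^ k = 1 from congrArg Subtype.val hk]; exact one_mem H⟩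
    obtain ⟨k, hk⟩ : ∃ k, Nat.find hex = k + 1 := Nat.exists_eq_succ_of_ne_zero fun h => hx₀H (by
      have h2 := Nat.find_spec hex
      rwa [h, pow_zero, pow_one] at h2)
    set x := x₀ ^ p ^ k with hx
    have hxA : x ∈ A := pow_mem hx₀ _
    have hxH : x ∉ H := Nat.find_min hex (by omega)
    have hxp : x ^ p ∈ H := by
      have h2 := Nat.find_spec hex
      rwa [hk, pow_succ, pow_mul] at h2
    have hbig : ∀ y ∈ A, y ∉ H → H ≤ A₀ ⊔ Subgroup.zpowers y → False := fun y hy hyH hle' => by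
      have h1 : H < A₀ ⊔ Subgroup.zpowers y := lt_of_le_of_ne hle' fun he =>
        hyH (he ▸ Subgroup.mem_sup_right (Subgroup.mem_zpowers y))
      have h2 := Set.ncard_lt_ncard (SetLike.coe_ssubset_coe.2 h1) (Set.toFinite _)
      simp only [← Nat.card_coe_set_eq, SetLike.coe_sort_coe] at h2
      exact absurd (hbmax ⟨y, hy⟩) (not_le.2 h2)
    obtain ⟨a₀, ha₀, β, hβ, hxβ⟩ := (Subgroup.mem_sup_of_normal_left
      (s := A₀.subgroupOf A) (t := (Subgroup.zpowers b).subgroupOf A)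
      (hs := ⟨fun c hc d => by
        have e : d * c * d⁻¹ = c := Subtype.ext (by
          show (d : MulAut V) * c * (d : MulAut V)⁻¹ = c
          rw [(hAc _ d.2 _ c.2).eq, mul_inv_cancel_right])
        rwa [e]⟩)).1 (show (⟨x ^ p, pow_mem hxA p⟩ : A) ∈ _ by
          rw [← Subgroup.subgroupOf_sup hA₀A (Subgroup.zpowers_le.2 hb)]; exact hxp)
    have hxβ' : (a₀ : MulAut V) * β = x ^ p := congrArg Subtype.val hxβ
    obtain ⟨m, hm⟩ := mem_powers_iff_mem_zpowers.2 (show (β : MulAut V) ∈ Subgroup.zpowers b from hβ)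
    have hm' : b ^ m = β := hm
    by_cases hdm : p ∣ m
    · obtain ⟨l, rfl⟩ := hdm
      set y := x * (b ^ l)⁻¹ with hy
      have hyA : y ∈ A := mul_mem hxA (inv_mem (pow_mem hb l))
      have hyH : y ∉ H := fun h => hxH (by
        have := mul_mem h (show b ^ l ∈ H from Subgroup.mem_sup_right
          (Subgroup.npow_mem_zpowers b l))
        rwa [hy, inv_mul_cancel_right] at this)
      have hyp : y ^ p ∈ A₀ := by
        rw [hy, ((hAc x hxA _ (pow_mem hb l)).inv_right).mul_pow, inv_pow, ← pow_mul b l p, mul_comm l p,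
          hm', ← hxβ', mul_inv_cancel_right]
        exact ha₀
      by_cases hbA : b ∈ A₀
      · refine hbig y hyA hyH (sup_le le_sup_left (Subgroup.zpowers_le.2 (Subgroup.mem_sup_left hbA)))
      have hexb : ∃ k, b ^ p ^ k ∈ A₀ := by
        obtain ⟨k, hk⟩ := hAp ⟨b, hb⟩
        exact ⟨k, by rw [show b ^ p ^ k = 1 from congrArg Subtype.val hk]; exact one_mem A₀⟩
      obtain ⟨k', hk'⟩ : ∃ k', Nat.find hexb = k' + 1 := Nat.exists_eq_succ_of_ne_zero fun h => hbA (by
        have h2 := Nat.find_spec hexb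
        rwa [h, pow_zero, pow_one] at h2)
      set z := b ^ p ^ k' with hz
      have hzA : z ∈ A := pow_mem hb _
      have hzn : z ∉ A₀ := Nat.find_min hexb (by omega)
      have hzp : z ^ p ∈ A₀ := by
        have h2 := Nat.find_spec hexb
        rwa [hk', pow_succ, pow_mul] at h2
      obtain ⟨i, j, hij, hmem⟩ := hrank y hyA z hzA hyp hzp
      by_cases hi : (i : ℕ) = 0
      · have hj : (j : ℕ) ≠ 0 := hij.resolve_left (fun h => h hi)
        rw [hi, pow_zero, one_mul] at hmem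
        refine hzn ?_
        obtain ⟨c, -, hc⟩ := Nat.exists_mul_mod_eq_one_of_coprime
          ((Nat.coprime_comm.1 (hp.coprime_iff_not_dvd.2 fun hd =>
            absurd (Nat.le_of_dvd (Nat.pos_of_ne_zero hj) hd) (not_le.2 j.2)))) hp.one_lt
        have e : (z ^ (j : ℕ)) ^ c = z * (z ^ p) ^ ((j : ℕ) * c / p) := by
          rw [← pow_mul z, ← pow_mul z, ← pow_succ' z]
          congr 1
          have := Nat.div_add_mod ((j : ℕ) * c) p
          omega
        have h2 := A₀.mul_mem (A₀.pow_mem hmem c) (A₀.inv_mem (A₀.pow_mem hzp ((j : ℕ) * c / p)))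
        rw [e, mul_inv_cancel_right] at h2
        exact h2
      · have h1 : y ^ (i : ℕ) ∈ H := by
          have h2 := H.mul_mem ((le_sup_left : A₀ ≤ H) hmem)
            (H.inv_mem (show z ^ (j : ℕ) ∈ H from Subgroup.pow_mem _ (Subgroup.pow_mem _
              (Subgroup.mem_sup_right (Subgroup.mem_zpowers b)) _) _))
          rwa [mul_inv_cancel_right] at h2
        refine hyH ?_
        obtain ⟨c, -, hc⟩ := Nat.exists_mul_mod_eq_one_of_coprime
          ((Nat.coprime_comm.1 (hp.coprime_iff_not_dvd.2 fun hd =>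
            absurd (Nat.le_of_dvd (Nat.pos_of_ne_zero hi) hd) (not_le.2 i.2)))) hp.one_lt
        have e : (y ^ (i : ℕ)) ^ c = y * (y ^ p) ^ ((i : ℕ) * c / p) := by
          rw [← pow_mul y, ← pow_mul y, ← pow_succ' y]
          congr 1
          have := Nat.div_add_mod ((i : ℕ) * c) p
          omega
        have h2 := H.mul_mem (H.pow_mem h1 c)
          (H.inv_mem (H.pow_mem ((le_sup_left : A₀ ≤ H) hyp) ((i : ℕ) * c / p)))
        rw [e, mul_inv_cancel_right] at h2
        exact h2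
    · refine hbig x hxA hxH (sup_le le_sup_left (Subgroup.zpowers_le.2 ?_))
      obtain ⟨i, hi⟩ := exists_pow_eq_self_of_coprime (x := b) (n := m) (by
        obtain ⟨j, hj⟩ := hAp ⟨b, hb⟩
        exact Nat.Coprime.coprime_dvd_right
          (orderOf_dvd_of_pow_eq_one (show b ^ p ^ j = 1 from congrArg Subtype.val hj))
          (Nat.Coprime.pow_right j (Nat.coprime_comm.1 (hp.coprime_iff_not_dvd.2 hdm))))
      rw [← hi]
      refine Subgroup.pow_mem _ ?_ i
      rw [hm', show (β : MulAut V) = (a₀ : MulAut V)⁻¹ * x ^ p by rw [← hxβ', inv_mul_cancel_left]]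
      exact mul_mem (inv_mem (Subgroup.mem_sup_left ha₀))
        (Subgroup.pow_mem _ (Subgroup.mem_sup_right (Subgroup.mem_zpowers x)) p)
  -- the maximal subgroup
  set B := A₀ ⊔ Subgroup.zpowers (b ^ p) with hB
  have hBA : B ≤ A := sup_le hA₀A (Subgroup.zpowers_le.2 (pow_mem hb p))
  have hbn : b ∈ Subgroup.normalizer (B : Set (MulAut V)) := by
    refine Subgroup.centralizer_le_normalizer _ (Subgroup.mem_centralizer_iff.2 fun c hc => ?_)
    exact (hAc c (hBA hc) b hb).eq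
  have hcardA : Nat.card A ≤ p * Nat.card B := by
    have hcov : ∀ a : A, ∃ q : B × Fin p, (q.1 : MulAut V) * b ^ (q.2 : ℕ) = a := by
      intro a
      obtain ⟨β, hβ, z, hz, he⟩ := CfsgLib.Fusion.exists_mul_of_mem_sup_of_normalizer
        (Subgroup.zpowers_le.2 hbn) (show (a : MulAut V) ∈ B ⊔ Subgroup.zpowers b from
          (hgen.trans (sup_le_sup_right (le_sup_left : A₀ ≤ B) _)) a.2)
      obtain ⟨m, hm⟩ := mem_powers_iff_mem_zpowers.2 hz
      refine ⟨⟨⟨β * (b ^ p) ^ (m / p), mul_mem hβ (Subgroup.mem_sup_right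
        (Subgroup.npow_mem_zpowers _ _))⟩, ⟨m % p, Nat.mod_lt _ hp.pos⟩⟩, ?_⟩
      show β * (b ^ p) ^ (m / p) * b ^ (m % p) = a
      rw [mul_assoc, ← pow_mul, ← pow_add, Nat.div_add_mod, show b ^ m = z from hm, he]
    choose q hq using hcov
    refine le_trans (Nat.card_le_card_of_injective q fun a a' h => Subtype.ext ?_) ?_
    · rw [← hq a, ← hq a', h]
    · rw [Nat.card_prod, Nat.card_fin, mul_comm]
  obtain ⟨u, hu, hunA, hua⟩ : ∃ u ∈ fixV A₀, u ∉ fixV A ∧ ∀ a ∈ A, a u * u⁻¹ ∈ fixV A := by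
    refine exists_fixed_mod hVp hAp (fun a ha v hv => by rw [hv a ha]; exact hv)
      (fun a ha v hv c hc => by
        rw [← MulAut.mul_apply, (hAc c (hA₀A hc) a ha).eq, MulAut.mul_apply, hv c hc])
      (lt_of_le_of_ne (fixV_antitone hA₀A) fun he => hnc ?_)
    have hA₀p : IsPGroup p A₀ := hAp.to_le hA₀A
    set m := a₂ * k₂ * a₂⁻¹ * k₂⁻¹ with hm
    have hmK : m ∈ K₀ := mul_mem (hconj a₂ ha₂ k₂ hk₂) (inv_mem hk₂)
    have hm1 : m = 1 := by
      refine eq_one_of_fix_fixV hVp hA₀p ?_ (fun c hc => hc.2 m hmK) fun v hv => ?_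
      · exact Nat.coprime_comm.1 (hp.coprime_iff_not_dvd.2 fun hd =>
          hKp (hd.trans (Subgroup.orderOf_dvd_natCard _ (hK₀K hmK))))
      · have hfixA : ∀ w ∈ fixV A₀, a₂ w = w := fun w hw => (he.symm ▸ hw : w ∈ fixV A) a₂ ha₂
        have hK₀W : ∀ k ∈ K₀, k v ∈ fixV A₀ := fun k hk c hc => by
          rw [← MulAut.mul_apply, (hc.2 k hk).eq, MulAut.mul_apply, hv c hc]
        rw [hm, MulAut.mul_apply, MulAut.mul_apply, MulAut.mul_apply]
        have h1 := hK₀W _ (inv_mem hk₂)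
        have h2 : a₂⁻¹ (k₂⁻¹ v) = k₂⁻¹ v := by
          conv_lhs => rw [← hfixA _ h1]
          rw [← MulAut.mul_apply, inv_mul_cancel, MulAut.one_apply]
        rw [h2]
        show a₂ ((k₂ * k₂⁻¹) v) = v
        rw [mul_inv_cancel, MulAut.one_apply, hfixA v hv]
    rw [hm, mul_inv_eq_one, mul_inv_eq_iff_eq_mul] at hm1
    exact hm1
  have hub : (b ^ p) u = u := by
    rw [pow_apply_of_fixed_ratio (show b u = (b u * u⁻¹) * u by group) ((hua b hb) b hb), hV, one_mul]
  have huB : u ∈ fixV B := by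
    intro c hc
    have hle : B ≤ MulAction.stabilizer (MulAut V) u :=
      sup_le (fun a ha => hu a ha) (Subgroup.zpowers_le.2 hub)
    exact hle hc
  have hfix : p * Nat.card (fixV A) ≤ Nat.card (fixV B) := by
    have hlt : fixV A < fixV B :=
      lt_of_le_of_ne (fixV_antitone hBA) fun he => hunA (he ▸ huB)
    obtain ⟨i, hi⟩ := (hVp.to_subgroup (fixV A)).exists_card_eq
    obtain ⟨j, hj⟩ := (hVp.to_subgroup (fixV B)).exists_card_eq
    have h2 := Set.ncard_lt_ncard (SetLike.coe_ssubset_coe.2 hlt) (Set.toFinite _)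
    simp only [← Nat.card_coe_set_eq, SetLike.coe_sort_coe] at h2
    rw [hi, hj] at h2
    rw [hi, hj, ← pow_succ']
    exact Nat.pow_le_pow_right hp.pos ((Nat.pow_lt_pow_iff_right hp.one_lt).1 h2)
  have hBlt : Nat.card B < n := by
    have hlt : B < A := lt_of_le_of_ne hBA fun he => hunA (he ▸ huB)
    have h2 := Set.ncard_lt_ncard (SetLike.coe_ssubset_coe.2 hlt) (Set.toFinite _)
    simp only [← Nat.card_coe_set_eq, SetLike.coe_sort_coe] at h2
    exact hn ▸ h2
  obtain ⟨ihle, iheq⟩ := ih _ hBlt B rfl (hAp.to_le hBA) (fun x hx y hy => hAc x (hBA hx) y (hBA hy))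
    (hBA.trans hAK) (fun a ha => hfaith a (hBA ha))
  rw [← hn]
  have e1 : Nat.card (fixV A) * Nat.card A ≤ Nat.card (fixV A) * (p * Nat.card B) :=
    Nat.mul_le_mul_left _ hcardA
  have e2 : Nat.card (fixV A) * (p * Nat.card B) ≤ Nat.card (fixV B) * Nat.card B := by
    rw [← mul_assoc, mul_comm (Nat.card (fixV A)) p]
    exact Nat.mul_le_mul_right _ hfix
  refine ⟨e1.trans (e2.trans ihle), fun heq hA => ?_⟩
  by_cases hB1 : B = ⊥
  · have hAeq : Nat.card A = p := by
      have h := heq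
      rw [hB1, Subgroup.card_bot, mul_one] at hcardA
      obtain ⟨i, hi⟩ := hAp.exists_card_eq
      rcases Nat.eq_zero_or_pos i with rfl | hi0
      · exact absurd (Subgroup.eq_bot_of_card_eq A (by rw [hi, pow_zero])) hA
      · refine le_antisymm hcardA ?_
        rw [hi]
        exact Nat.le_self_pow hi0.ne' p
    have hz : Subgroup.zpowers a₁ = A := by
      refine Subgroup.eq_of_le_of_card_ge (Subgroup.zpowers_le.2 ha₁) ?_
      have hd : Nat.card (Subgroup.zpowers a₁) ∣ Nat.card A :=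
        Subgroup.card_dvd_of_le (Subgroup.zpowers_le.2 ha₁)
      rw [hAeq] at hd ⊢
      rcases (Nat.dvd_prime hp).1 hd with h | h
      · exact absurd (Subgroup.zpowers_eq_bot.1 (Subgroup.eq_bot_of_card_eq _ h)) ha₁1
      · exact h.ge
    obtain ⟨k, hk, hak⟩ : ∃ k ∈ K, ¬ Commute a₁ k := by
      by_contra h
      push Not at h
      exact ha₁1 (hfaith a₁ ha₁ h)
    refine ⟨a₁, ha₁, k, hk, ?_, ?_, hak⟩
    · have h := Subgroup.orderOf_dvd_natCard A ha₁
      rw [hAeq] at h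
      exact orderOf_dvd_iff_pow_eq_one.1 h
    · rw [hz, ← heq, hAeq, mul_comm]
  · have hBeq : Nat.card (fixV B) * Nat.card B = Nat.card V :=
      le_antisymm ihle (heq.symm.le.trans (e1.trans e2))
    obtain ⟨a, ha, k, hk, h1, h2, h3⟩ := iheq hBeq hB1
    exact ⟨a, hBA ha, k, hk, h1, h2, h3⟩

end CfsgLib.Fusion
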