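import Cfsg.Prelude.Def_PLocal
import Cfsg.Agent.Lib.Fusion.StableFree
import Cfsg.Agent.Lib.Qd.Unstable
import Cfsg.Agent.Lib.Qd.QdGroup

/-!
# Sections `SL₂(3)` from quadratic elements in `p`-solvable groups
-/

set_option autoImplicit false
set_option linter.style.haveILetI false

open Subgroup

namespace CfsgLib.Fusion

universe u

variable {G : Type u} [Group G] [Finite G] {p : ℕ} [Fact p.Prime]

/-- Two quadratic generators of a non-`p`-group give a section `SL₂(p)`. -/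
theorem slTwo_section_of_generators (hp : p ≠ 2) (V H : Subgroup G) (hV : Cfsg.IsElementaryAbelian p V)
    (hHV : H ≤ normalizer (V : Set G)) (hf : H ⊓ centralizer (V : Set G) = ⊥) (a b : G)
    (hab : H = closure {a, b}) (ha : ⁅⁅V, zpowers a⁆, zpowers a⁆ = ⊥)
    (hb : ⁅⁅V, zpowers b⁆, zpowers b⁆ = ⊥) (hnp : ¬ IsPGroup p H) :
    ∃ (K L : Subgroup G) (_ : (L.subgroupOf K).Normal), K ≤ H ∧
      Nonempty ((K ⧸ L.subgroupOf K) ≃* Matrix.SpecialLinearGroup (Fin 2) (ZMod p)) := by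
  simp only [IsPGroup, not_forall, not_exists] at hnp
  obtain ⟨⟨y, hy⟩, hye⟩ := hnp
  have haH : a ∈ H := hab ▸ subset_closure (Or.inl rfl)
  have hbH : b ∈ H := hab ▸ subset_closure (Or.inr rfl)
  obtain ⟨-, K, L, hL, hK, he⟩ := CfsgLib.Qd.sections_of_pair hp V
    (fun v => ⟨1, Subtype.ext (by simpa using hV.2 v v.2)⟩) (hHV haH) (hHV hbH) ha hb
    ⟨y, hab ▸ hy, fun e he => hye e (Subtype.ext (mem_bot.1 (hf ▸
      (⟨pow_mem hy _, he⟩ : y ^ p ^ e ∈ H ⊓ centralizer (V : Set G)))))⟩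
  exact ⟨K, L, hL, hab ▸ hK, he⟩

/-- A quadratic element outside `O_p` of a faithful `p`-solvable group forces `p = 3` and a section
`SL₂(3)`. -/
theorem slTwoThree_of_not_mem_pCore (hp : p ≠ 2) (V H : Subgroup G) (hV : Cfsg.IsElementaryAbelian p V)
    (hHV : H ≤ normalizer (V : Set G)) (hf : H ⊓ centralizer (V : Set G) = ⊥)
    (hsep : Cfsg.IsPSolvable p H) (a : G) (haH : a ∈ H)
    (hq : ⁅⁅V, zpowers a⁆, zpowers a⁆ = ⊥) (hna : a ∉ (Cfsg.pCore p H).map H.subtype) :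
    p = 3 ∧ ∃ (K L : Subgroup G) (_ : (L.subgroupOf K).Normal), K ≤ H ∧
      Nonempty ((K ⧸ L.subgroupOf K) ≃* Matrix.SpecialLinearGroup (Fin 2) (ZMod 3)) := by
  have hnm : (⟨a, haH⟩ : H) ∉ Cfsg.pCore p H := fun h => hna ⟨_, h, rfl⟩
  obtain ⟨g, y, hy, hye⟩ := CfsgLib.Qd.exists_pair_of_not_mem (p := p) (MonoidHom.id H)
    Function.surjective_id hnm
  have hy' : (y : G) ∈ closure {a, (g : G) * a * (g : G)⁻¹} := by
    have := mem_map_of_mem H.subtype hy
    rwa [MonoidHom.map_closure, Set.image_pair] at this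
  obtain ⟨-, K, L, hL, hK, ⟨e⟩⟩ := CfsgLib.Qd.sections_of_pair hp V
    (fun v => ⟨1, Subtype.ext (by simpa using hV.2 v v.2)⟩) (hHV haH)
    (hHV (mul_mem (mul_mem g.2 haH) (inv_mem g.2))) hq (CfsgLib.Qd.quadratic_conj (hHV g.2) hq)
    ⟨_, hy', fun e he => hye e (Subtype.ext (mem_bot.1 (hf ▸
      (⟨pow_mem y.2 _, he⟩ : (y : G) ^ p ^ e ∈ H ⊓ centralizer (V : Set G)))))⟩
  have hKH : K ≤ H := hK.trans ((closure_le _).2 (by
    rintro z (rfl | rfl)
    · exact haH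
    · exact mul_mem (mul_mem g.2 haH) (inv_mem g.2)))
  haveI := hL
  have hp3 : p = 3 := by
    by_contra h3
    have h2 := (Fact.out : p.Prime).two_le
    refine not_involves_slTwo_of_isPSolvable (show 3 < p by omega)
      (isPSolvable_of_injective (inclusion hKH) (inclusion_injective hKH) hsep) ?_
    exact involves_of_surjective (e.toMonoidHom.comp (QuotientGroup.mk' _))
      (e.surjective.comp (QuotientGroup.mk'_surjective _)) (CfsgLib.CFun.involves_self _)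
  subst hp3
  exact ⟨rfl, K, L, hL, hKH, ⟨e⟩⟩

end CfsgLib.Fusion
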