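import Cfsg.Agent.Lib.Fusion.Thompson
import Cfsg.Prelude.Def_PLocal
import Mathlib.GroupTheory.Commutator.Basic

/-!
# Glauberman's replacement theorem
-/

set_option autoImplicit false
set_option linter.style.haveILetI false

open Subgroup
open scoped commutatorElement

namespace CfsgLib.Fusion

variable {G : Type*} [Group G] {p : ℕ}

/-- An element normalizing the normalizer but not the subgroup. -/
theorem exists_mem_normalizer_normalizer [Finite G] [Fact p.Prime] (hG : IsPGroup p G)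
    {A B : Subgroup G} [B.Normal] (hnot : ¬ B ≤ Subgroup.normalizer (A : Set G)) :
    ∃ b ∈ B, b ∈ Subgroup.normalizer ((Subgroup.normalizer (A : Set G)) : Set G) ∧
      b ∉ Subgroup.normalizer (A : Set G) := by
  set N := Subgroup.normalizer (A : Set G) with hN
  haveI : Group.IsNilpotent (N ⊔ B : Subgroup G) := (hG.to_subgroup _).isNilpotent
  have hlt := lt_inf_normalizer (P := N ⊔ B) (T := N) le_sup_left
    (fun h => hnot (h ▸ le_sup_right))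
  obtain ⟨x, hx, hxN⟩ := SetLike.exists_of_lt hlt
  have hx1 : x ∈ N ⊔ B := hx.1
  have hx2 : x ∈ Subgroup.normalizer (N : Set G) := hx.2
  obtain ⟨n, hn, b, hb, rfl⟩ := Subgroup.mem_sup_of_normal_right.1 hx1
  refine ⟨b, hb, ?_, fun h => hxN (mul_mem hn h)⟩
  have := mul_mem (inv_mem (Subgroup.le_normalizer hn : n ∈ Subgroup.normalizer (N : Set G))) hx2
  rwa [inv_mul_cancel_left] at this

/-- The data of a replacement step. -/
structure RStep (p : ℕ) (A B : Subgroup G) (b : G) : Prop where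
  pgroup : IsPGroup p G
  normal : B.Normal
  two : p = 2 → IsMulCommutative B
  comm : ∀ x ∈ A, ∀ y ∈ A, x * y = y * x
  derived : ⁅B, B⁆ ≤ A
  mem : b ∈ B
  norm : b ∈ Subgroup.normalizer ((Subgroup.normalizer (A : Set G)) : Set G)

/-- The replacement `(A ∩ A^b)[A,b]`. -/
def rstar (A : Subgroup G) (b : G) : Subgroup G :=
  (A ⊓ A.map (MulAut.conj (b⁻¹)).toMonoidHom) ⊔
    Subgroup.closure {g : G | ∃ a ∈ A, g = a * b⁻¹ * a⁻¹ * b}

namespace RStep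

variable {A B : Subgroup G} {b : G}

theorem mem_conj_iff {x : G} :
    x ∈ A.map (MulAut.conj (b⁻¹)).toMonoidHom ↔ b * x * b⁻¹ ∈ A := by
  constructor
  · rintro ⟨a, ha, rfl⟩
    show b * (b⁻¹ * a * b⁻¹⁻¹) * b⁻¹ ∈ A
    rwa [show b * (b⁻¹ * a * b⁻¹⁻¹) * b⁻¹ = a by group]
  · intro h
    exact ⟨_, h, show b⁻¹ * (b * x * b⁻¹) * b⁻¹⁻¹ = x by group⟩

variable (h : RStep p A B b)
include h

theorem conj_mem_B {x : G} (hx : x ∈ B) (g : G) : g * x * g⁻¹ ∈ B := h.normal.conj_mem x hx g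

theorem derived_le_conj {z : G} (hz : z ∈ ⁅B, B⁆) (g : G) : g * z * g⁻¹ ∈ A := by
  haveI := h.normal
  exact h.derived ((inferInstance : (⁅B, B⁆).Normal).conj_mem z hz g)

/-- Elements of `A ∩ A^b`. -/
theorem derived_le_D {z : G} (hz : z ∈ ⁅B, B⁆) :
    z ∈ A ⊓ A.map (MulAut.conj (b⁻¹)).toMonoidHom :=
  ⟨h.derived hz, mem_conj_iff.2 (h.derived_le_conj hz b)⟩

theorem conj_mem_N {n : G} (hn : n ∈ Subgroup.normalizer (A : Set G)) :
    b⁻¹ * n * b ∈ Subgroup.normalizer (A : Set G) ∧ b * n * b⁻¹ ∈ Subgroup.normalizer (A : Set G) :=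
  ⟨(Subgroup.mem_normalizer_iff''.1 h.norm n).1 hn, (Subgroup.mem_normalizer_iff.1 h.norm n).1 hn⟩

theorem cj_mem {a : G} (ha : a ∈ A) : b⁻¹ * a * b ∈ Subgroup.normalizer (A : Set G) :=
  (h.conj_mem_N (Subgroup.le_normalizer ha)).1

theorem conj_mem_conj {n x : G} (hn : n ∈ Subgroup.normalizer (A : Set G))
    (hx : b * x * b⁻¹ ∈ A) : b * (n * x * n⁻¹) * b⁻¹ ∈ A := by
  rw [show b * (n * x * n⁻¹) * b⁻¹ = (b * n * b⁻¹) * (b * x * b⁻¹) * (b * n * b⁻¹)⁻¹ by group]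
  exact (Subgroup.mem_normalizer_iff.1 (h.conj_mem_N hn).2 _).1 hx

theorem comm_conj {x y : G} (hx : b * x * b⁻¹ ∈ A) (hy : b * y * b⁻¹ ∈ A) : x * y = y * x := by
  have h1 := h.comm _ hx _ hy
  calc x * y = b⁻¹ * ((b * x * b⁻¹) * (b * y * b⁻¹)) * b := by group
    _ = b⁻¹ * ((b * y * b⁻¹) * (b * x * b⁻¹)) * b := by rw [h1]
    _ = y * x := by group

/-- `[A, A^b] ⊆ A ∩ A^b`. -/
theorem commutator_mem {x y : G} (hx : x ∈ A) (hy : y ∈ Subgroup.normalizer (A : Set G))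
    (hy' : b * y * b⁻¹ ∈ A) :
    ⁅x, y⁆ ∈ A ∧ b * ⁅x, y⁆ * b⁻¹ ∈ A := by
  constructor
  · rw [commutatorElement_def, show x * y * x⁻¹ * y⁻¹ = x * (y * x⁻¹ * y⁻¹) by group]
    exact mul_mem hx ((Subgroup.mem_normalizer_iff.1 hy _).1 (inv_mem hx))
  · rw [commutatorElement_def,
      show b * (x * y * x⁻¹ * y⁻¹) * b⁻¹ = (b * (x * y * x⁻¹) * b⁻¹) * (b * y * b⁻¹)⁻¹ by group]
    exact mul_mem (h.conj_mem_conj (Subgroup.le_normalizer hx) hy') (inv_mem hy')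

theorem cc_mem_B (a : G) : a * b⁻¹ * a⁻¹ * b ∈ B :=
  mul_mem (h.conj_mem_B (inv_mem h.mem) a) h.mem

theorem z_mem {c : G} (hc : c ∈ B) : ⁅b, c⁆ ∈ A ∧ b * ⁅b, c⁆ * b⁻¹ ∈ A := by
  have h1 := Subgroup.commutator_mem_commutator h.mem hc
  exact ⟨h.derived h1, h.derived_le_conj h1 b⟩

theorem conj_b_eq {a : G} :
    b * a * b⁻¹ = ⁅b, a * b⁻¹ * a⁻¹ * b⁆ * (a * b⁻¹ * a⁻¹ * b) * a := by
  rw [commutatorElement_def]; group

/-- `A ∩ A^b` is invariant under `b`. -/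
theorem cj_mem_of_mem_D {a : G} (ha : a ∈ A) (ha' : b * a * b⁻¹ ∈ A) :
    b⁻¹ * a * b ∈ A := by
  set c := a * b⁻¹ * a⁻¹ * b with hc
  have h1 : c ∈ A := by
    rw [h.conj_b_eq (a := a)] at ha'
    exact (A.mul_mem_cancel_left (h.z_mem (h.cc_mem_B a)).1).1 ((A.mul_mem_cancel_right ha).1 ha')
  rw [show b⁻¹ * a * b = c⁻¹ * a by rw [hc]; group]
  exact mul_mem (inv_mem h1) ha

theorem inf_le_D {x : G} (hx : x ∈ A) (hxB : x ∈ B) : b * x * b⁻¹ ∈ A := by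
  rw [show b * x * b⁻¹ = ⁅b, x⁆ * x by rw [commutatorElement_def]; group]
  exact mul_mem (h.z_mem hxB).1 hx

theorem commute_D {d x : G} (hd : d ∈ A) (hd' : b * d * b⁻¹ ∈ A)
    (hx : x ∈ A ∨ b * x * b⁻¹ ∈ A) : Commute d x :=
  hx.elim (fun hx => h.comm d hd x hx) fun hx => h.comm_conj hd' hx

theorem commute_D_cc {d a : G} (hd : d ∈ A) (hd' : b * d * b⁻¹ ∈ A) (ha : a ∈ A) :
    Commute d (a * b⁻¹ * a⁻¹ * b) := by
  rw [show a * b⁻¹ * a⁻¹ * b = a * (b⁻¹ * a * b)⁻¹ by group]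
  refine (h.commute_D hd hd' (Or.inl ha)).mul_right (h.commute_D hd hd' (Or.inr ?_)).inv_right
  rwa [show b * (b⁻¹ * a * b) * b⁻¹ = a by group]

theorem cc_commute [Finite G] [Fact p.Prime] {a₁ a₂ : G} (h1 : a₁ ∈ A) (h2 : a₂ ∈ A) :
    Commute (a₁ * b⁻¹ * a₁⁻¹ * b) (a₂ * b⁻¹ * a₂⁻¹ * b) := by
  set x := b⁻¹ * a₁ * b with hxdef
  set y := b⁻¹ * a₂ * b with hydef
  have hx' : b * x * b⁻¹ ∈ A := by rwa [hxdef, show b * (b⁻¹ * a₁ * b) * b⁻¹ = a₁ by group]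
  have hy' : b * y * b⁻¹ ∈ A := by rwa [hydef, show b * (b⁻¹ * a₂ * b) * b⁻¹ = a₂ by group]
  have hxN := h.cj_mem h1
  have hyN := h.cj_mem h2
  have ha12 : Commute a₁ a₂ := h.comm _ h1 _ h2
  have hxy : Commute x y := h.comm_conj hx' hy'
  set u := ⁅a₁, y⁆ with hu
  set v := ⁅x, a₂⁆ with hv
  have huD := h.commutator_mem h1 hyN hy'
  have hvD : v ∈ A ∧ b * v * b⁻¹ ∈ A := by
    have := h.commutator_mem h2 hxN hx'
    rw [hv, ← commutatorElement_inv a₂ x]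
    refine ⟨inv_mem this.1, ?_⟩
    rw [show b * ⁅a₂, x⁆⁻¹ * b⁻¹ = (b * ⁅a₂, x⁆ * b⁻¹)⁻¹ by group]
    exact inv_mem this.2
  have hc1 : a₁ * b⁻¹ * a₁⁻¹ * b = a₁ * x⁻¹ := by rw [hxdef]; group
  have hc2 : a₂ * b⁻¹ * a₂⁻¹ * b = a₂ * y⁻¹ := by rw [hydef]; group
  -- the basic commutation rules
  have r1 : x⁻¹ * a₂ = v⁻¹ * a₂ * x⁻¹ := by
    have hcx : Commute v⁻¹ x⁻¹ := (h.commute_D hvD.1 hvD.2 (Or.inr hx')).inv_inv
    calc x⁻¹ * a₂ = x⁻¹ * (v⁻¹ * v) * a₂ := by group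
      _ = v⁻¹ * (x⁻¹ * v * a₂) := by rw [← mul_assoc x⁻¹, ← hcx.eq]; group
      _ = v⁻¹ * a₂ * x⁻¹ := by
        rw [(show v = ⁅x, a₂⁆ from rfl), commutatorElement_def]
        group
  have r2 : y⁻¹ * a₁ = u * a₁ * y⁻¹ := by
    have hcy : Commute u y⁻¹ := (h.commute_D huD.1 huD.2 (Or.inr hy')).inv_right
    calc y⁻¹ * a₁ = y⁻¹ * (a₁ * y * a₁⁻¹ * y⁻¹) * (y * a₁ * y⁻¹) := by group
      _ = u * (y⁻¹ * (y * a₁ * y⁻¹)) := by
        rw [show a₁ * y * a₁⁻¹ * y⁻¹ = u from rfl, ← hcy.eq]; group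
      _ = u * a₁ * y⁻¹ := by group
  -- `u` lies in `B`
  have huB : u ∈ B := by
    rw [hu, commutatorElement_def, show y = (a₂ * b⁻¹ * a₂⁻¹ * b)⁻¹ * a₂ by rw [hydef]; group,
      show a₁ * ((a₂ * b⁻¹ * a₂⁻¹ * b)⁻¹ * a₂) * a₁⁻¹ * ((a₂ * b⁻¹ * a₂⁻¹ * b)⁻¹ * a₂)⁻¹ =
        (a₁ * (a₂ * b⁻¹ * a₂⁻¹ * b)⁻¹ * a₁⁻¹) * (a₁ * (a₂ * a₁⁻¹ * a₂⁻¹)) *
          (a₂ * b⁻¹ * a₂⁻¹ * b) by group,
      show a₁ * (a₂ * a₁⁻¹ * a₂⁻¹) = 1 by rw [← mul_assoc, ← mul_assoc, ha12.eq]; group, mul_one]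
    exact mul_mem (h.conj_mem_B (inv_mem (h.cc_mem_B a₂)) a₁) (h.cc_mem_B a₂)
  -- conjugating `u` by `b` and by its inverse
  have e1 : b * u * b⁻¹ = v⁻¹ := by
    set z := ⁅b, a₁ * b⁻¹ * a₁⁻¹ * b⁆ with hz
    have hzD := h.z_mem (h.cc_mem_B a₁)
    have hcz : Commute z a₂ := h.commute_D hzD.1 hzD.2 (Or.inl h2)
    have hz1 : b * a₁ * b⁻¹ = z * (a₁ * x⁻¹) * a₁ := by rw [← hc1]; exact h.conj_b_eq
    have hcc : Commute z (a₁ * x⁻¹ * a₁ * a₂ * a₁⁻¹ * (a₁ * x⁻¹)⁻¹) := by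
      have k1 : Commute z (a₁ * x⁻¹) := hc1 ▸ h.commute_D_cc hzD.1 hzD.2 h1
      exact (((k1.mul_right (h.commute_D hzD.1 hzD.2 (Or.inl h1))).mul_right hcz).mul_right
        (h.commute_D hzD.1 hzD.2 (Or.inl h1)).inv_right).mul_right k1.inv_right
    calc b * u * b⁻¹ = (b * a₁ * b⁻¹) * a₂ * (b * a₁ * b⁻¹)⁻¹ * a₂⁻¹ := by
          rw [hu, hydef, commutatorElement_def]; group
      _ = z * (a₁ * x⁻¹ * a₁ * a₂ * a₁⁻¹ * (a₁ * x⁻¹)⁻¹) * z⁻¹ * a₂⁻¹ := by rw [hz1]; group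
      _ = a₁ * x⁻¹ * (a₁ * a₂) * a₁⁻¹ * (a₁ * x⁻¹)⁻¹ * a₂⁻¹ := by
          rw [hcc.eq, mul_inv_cancel_right]; group
      _ = a₁ * (x⁻¹ * a₂) * x * a₁⁻¹ * a₂⁻¹ := by rw [ha12.eq]; group
      _ = a₁ * (v⁻¹ * a₂) * a₁⁻¹ * a₂⁻¹ := by rw [r1]; group
      _ = v⁻¹ := by
          have hv1 : Commute v⁻¹ a₁ := (h.commute_D hvD.1 hvD.2 (Or.inl h1)).inv_left
          rw [show a₁ * (v⁻¹ * a₂) = v⁻¹ * (a₁ * a₂) by rw [← mul_assoc, ← hv1.eq, mul_assoc],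
            ha12.eq]
          group
  have e2 : b⁻¹ * u * b = v⁻¹ := by
    set z := ⁅b⁻¹, (a₂ * b⁻¹ * a₂⁻¹ * b)⁻¹⁆ with hz
    have hz0 := Subgroup.commutator_mem_commutator (inv_mem h.mem) (inv_mem (h.cc_mem_B a₂))
    have hzD : z ∈ A ∧ b * z * b⁻¹ ∈ A := ⟨h.derived hz0, h.derived_le_conj hz0 b⟩
    have hy2 : b⁻¹ * y * b = z * (a₂ * y⁻¹)⁻¹ * y := by
      rw [hz, hydef, commutatorElement_def]; group
    have hczx : Commute z x := h.commute_D hzD.1 hzD.2 (Or.inr hx')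
    have hczy : Commute z y := h.commute_D hzD.1 hzD.2 (Or.inr hy')
    have hczc : Commute z (a₂ * y⁻¹)⁻¹ := by
      rw [← hc2]; exact (h.commute_D_cc hzD.1 hzD.2 h2).inv_right
    calc b⁻¹ * u * b = x * (b⁻¹ * y * b) * x⁻¹ * (b⁻¹ * y * b)⁻¹ := by
          rw [hu, hxdef, commutatorElement_def]; group
      _ = (x * z) * ((a₂ * y⁻¹)⁻¹ * y * x⁻¹ * y⁻¹ * (a₂ * y⁻¹)) * z⁻¹ := by rw [hy2]; group
      _ = x * ((a₂ * y⁻¹)⁻¹ * y * x⁻¹ * y⁻¹ * (a₂ * y⁻¹)) := by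
          rw [← hczx.eq, show z * x * ((a₂ * y⁻¹)⁻¹ * y * x⁻¹ * y⁻¹ * (a₂ * y⁻¹)) =
            z * (x * ((a₂ * y⁻¹)⁻¹ * y * x⁻¹ * y⁻¹ * (a₂ * y⁻¹))) by group,
            (hczx.mul_right ((((hczc.mul_right hczy).mul_right hczx.inv_right).mul_right
              hczy.inv_right).mul_right (by simpa using hczc.inv_right))).eq, mul_inv_cancel_right]
      _ = (x * y) * a₂⁻¹ * (y * x⁻¹ * y⁻¹) * a₂ * y⁻¹ := by group
      _ = y * (x * a₂⁻¹ * x⁻¹) * a₂ * y⁻¹ := by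
          rw [hxy.eq, (hxy.inv_left).symm.eq]; group
      _ = y * v⁻¹ * y⁻¹ := by
          have hva : Commute v⁻¹ a₂ := (h.commute_D hvD.1 hvD.2 (Or.inl h2)).inv_left
          have : x * a₂⁻¹ * x⁻¹ * a₂ = v⁻¹ := by
            rw [show x * a₂⁻¹ * x⁻¹ * a₂ = a₂⁻¹ * v⁻¹ * a₂ by
              rw [hv, commutatorElement_def]; group, mul_assoc, hva.eq, inv_mul_cancel_left]
          rw [show y * (x * a₂⁻¹ * x⁻¹) * a₂ = y * (x * a₂⁻¹ * x⁻¹ * a₂) by group, this]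
      _ = v⁻¹ := by
          rw [← (h.commute_D hvD.1 hvD.2 (Or.inr hy')).inv_left.eq, mul_inv_cancel_right]
  -- `b` commutes with `u`
  have hbu : Commute b u := by
    by_cases hp2 : p = 2
    · exact congrArg Subtype.val ((h.two hp2).is_comm.comm (⟨b, h.mem⟩ : B) ⟨u, huB⟩)
    · have h3 : Commute (b ^ 2) u := by
        show b ^ 2 * u = u * b ^ 2
        calc b ^ 2 * u = b * (b * u * b⁻¹) * b := by simp [pow_two, mul_assoc]
          _ = b * (b⁻¹ * u * b) * b := by rw [e1, e2]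
          _ = u * b ^ 2 := by simp [pow_two, mul_assoc]
      obtain ⟨k, hk⟩ := h.pgroup b
      obtain ⟨l, hl⟩ := (((Fact.out : p.Prime).odd_of_ne_two hp2).pow (n := k))
      have hb : b = (b ^ 2) ^ (l + 1) := by
        rw [← pow_mul, show 2 * (l + 1) = p ^ k + 1 by omega, pow_succ, hk, one_mul]
      rw [hb]
      exact h3.pow_left _
  have huv : v⁻¹ = u := by rw [← e1, hbu.eq, mul_inv_cancel_right]
  rw [hc1, hc2]
  show a₁ * x⁻¹ * (a₂ * y⁻¹) = a₂ * y⁻¹ * (a₁ * x⁻¹)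
  have hua : Commute a₂ u := (h.commute_D huD.1 huD.2 (Or.inl h2)).symm
  have hua₁ : Commute a₁ u := (h.commute_D huD.1 huD.2 (Or.inl h1)).symm
  calc a₁ * x⁻¹ * (a₂ * y⁻¹) = a₁ * (x⁻¹ * a₂) * y⁻¹ := by group
    _ = u * (a₁ * a₂ * (x⁻¹ * y⁻¹)) := by
        rw [r1, huv, show a₁ * (u * a₂ * x⁻¹) = a₁ * u * a₂ * x⁻¹ by group, hua₁.eq]; group
    _ = u * (a₂ * a₁ * (y⁻¹ * x⁻¹)) := by rw [ha12.eq, hxy.inv_inv.eq]
    _ = a₂ * u * a₁ * y⁻¹ * x⁻¹ := by rw [hua.eq]; group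
    _ = a₂ * (y⁻¹ * a₁) * x⁻¹ := by rw [r2]; group
    _ = a₂ * y⁻¹ * (a₁ * x⁻¹) := by group

theorem mem_rstar_of_D {d : G} (hd : d ∈ A) (hd' : b * d * b⁻¹ ∈ A) : d ∈ rstar A b :=
  Subgroup.mem_sup_left ⟨hd, mem_conj_iff.2 hd'⟩

omit h in
theorem cc_mem_rstar {a : G} (ha : a ∈ A) : a * b⁻¹ * a⁻¹ * b ∈ rstar A b :=
  Subgroup.mem_sup_right (Subgroup.subset_closure ⟨a, ha, rfl⟩)

omit h in
theorem rstar_eq_closure : rstar A b = Subgroup.closure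
    (((A ⊓ A.map (MulAut.conj (b⁻¹)).toMonoidHom : Subgroup G) : Set G) ∪
      {g : G | ∃ a ∈ A, g = a * b⁻¹ * a⁻¹ * b}) := by
  rw [Subgroup.closure_union, Subgroup.closure_eq]; rfl

theorem isMulCommutative_rstar [Finite G] [Fact p.Prime] : IsMulCommutative (rstar A b) := by
  rw [rstar_eq_closure]
  refine Subgroup.isMulCommutative_closure ?_
  rintro u (hu | ⟨a, ha, rfl⟩) v (hv | ⟨a', ha', rfl⟩)
  · exact h.comm u hu.1 v hv.1
  · exact h.commute_D_cc hu.1 (mem_conj_iff.1 hu.2) ha'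
  · exact (h.commute_D_cc hv.1 (mem_conj_iff.1 hv.2) ha).symm
  · exact h.cc_commute ha ha'

theorem derived_le_rstar : ⁅B, B⁆ ≤ rstar A b := fun _ hz =>
  Subgroup.mem_sup_left (h.derived_le_D hz)

theorem rstar_le_normalizer : rstar A b ≤ Subgroup.normalizer (A : Set G) := by
  refine sup_le (inf_le_left.trans Subgroup.le_normalizer) ((Subgroup.closure_le _).2 ?_)
  rintro _ ⟨a, ha, rfl⟩
  rw [show a * b⁻¹ * a⁻¹ * b = a * (b⁻¹ * a * b)⁻¹ by group]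
  exact mul_mem (Subgroup.le_normalizer ha) (inv_mem (h.cj_mem ha))

omit h in
theorem rstar_le {D : Subgroup G} [D.Normal] (hA : A ≤ D) : rstar A b ≤ D := by
  refine sup_le (inf_le_left.trans hA) ((Subgroup.closure_le _).2 ?_)
  rintro _ ⟨a, ha, rfl⟩
  rw [show a * b⁻¹ * a⁻¹ * b = a * (b⁻¹ * a⁻¹ * b⁻¹⁻¹) by group]
  exact mul_mem (hA ha) ((inferInstance : D.Normal).conj_mem _ (inv_mem (hA ha)) _)

theorem inf_le_rstar : A ⊓ B ≤ rstar A b := fun _ hx =>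
  h.mem_rstar_of_D hx.1 (h.inf_le_D hx.1 hx.2)

theorem card_rstar [Finite G] [Fact p.Prime] : Nat.card (rstar A b) = Nat.card A := by
  set D := A ⊓ A.map (MulAut.conj (b⁻¹)).toMonoidHom with hD
  haveI := h.isMulCommutative_rstar
  haveI : (D.subgroupOf (rstar A b)).Normal := ⟨fun n hn g => by
    rwa [show g * n * g⁻¹ = n by
      rw [show g * n = n * g from h.isMulCommutative_rstar.is_comm.comm g n, mul_inv_cancel_right]]⟩
  let ψ : A →* rstar A b ⧸ D.subgroupOf (rstar A b) :=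
    MonoidHom.mk' (fun a => QuotientGroup.mk ⟨_, cc_mem_rstar (b := b) a.2⟩) fun a a' => by
      refine QuotientGroup.eq.2 ?_
      show (((a * a' : A) : G) * b⁻¹ * ((a * a' : A) : G)⁻¹ * b)⁻¹ *
        (((a : G) * b⁻¹ * (a : G)⁻¹ * b) * ((a' : G) * b⁻¹ * (a' : G)⁻¹ * b)) ∈ D
      set x := b⁻¹ * (a : G) * b with hx
      set x' := b⁻¹ * (a' : G) * b with hx'
      have hxA : b * x * b⁻¹ ∈ A := by rw [hx, show b * (b⁻¹ * (a : G) * b) * b⁻¹ = a by group]; exact a.2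
      have hcm := h.commutator_mem a'.2 (h.cj_mem a.2) hxA
      have e : ((↑(a * a') : G) * b⁻¹ * (↑(a * a') : G)⁻¹ * b)⁻¹ *
          (((a : G) * b⁻¹ * (a : G)⁻¹ * b) * ((a' : G) * b⁻¹ * (a' : G)⁻¹ * b)) =
          (x * x') * ((a' : G)⁻¹ * x⁻¹ * (a' : G) * x) * (x' * x)⁻¹ := by
        rw [Subgroup.coe_mul, hx, hx']; group
      rw [e]
      have hm : (a' : G)⁻¹ * x⁻¹ * (a' : G) * x ∈ A ∧
          b * ((a' : G)⁻¹ * x⁻¹ * (a' : G) * x) * b⁻¹ ∈ A := by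
        have := h.commutator_mem (inv_mem a'.2) (inv_mem (h.cj_mem a.2))
          (by rw [show b * x⁻¹ * b⁻¹ = (b * x * b⁻¹)⁻¹ by group]; exact inv_mem hxA)
        rw [commutatorElement_def] at this
        simpa [hx] using this
      have hx'A : b * x' * b⁻¹ ∈ A := by
        rw [hx', show b * (b⁻¹ * (a' : G) * b) * b⁻¹ = a' by group]; exact a'.2
      rw [(h.comm_conj hx'A hxA), ← ((h.commute_D hm.1 hm.2 (Or.inr hxA)).mul_right
        (h.commute_D hm.1 hm.2 (Or.inr hx'A))).eq, mul_inv_cancel_right]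
      exact ⟨hm.1, mem_conj_iff.2 hm.2⟩
  have hψs : Function.Surjective ψ := by
    intro q
    obtain ⟨⟨s, hs⟩, rfl⟩ := QuotientGroup.mk_surjective q
    suffices H : ∀ s ∈ rstar A b, ∃ hs : s ∈ rstar A b, (QuotientGroup.mk ⟨s, hs⟩ :
        rstar A b ⧸ D.subgroupOf (rstar A b)) ∈ ψ.range by
      obtain ⟨_, k⟩ := H s hs
      exact k
    intro s hs
    have hs' := hs
    rw [rstar_eq_closure] at hs'
    refine ⟨hs, ?_⟩
    have hle : rstar A b ≤ ((ψ.range.comap (QuotientGroup.mk' _)).map (rstar A b).subtype) := by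
      refine (le_of_eq rstar_eq_closure).trans ((Subgroup.closure_le _).2 ?_)
      rintro u (hu | ⟨a, ha, rfl⟩)
      · refine ⟨⟨u, h.mem_rstar_of_D hu.1 (mem_conj_iff.1 hu.2)⟩, ?_, rfl⟩
        show (QuotientGroup.mk _ : rstar A b ⧸ D.subgroupOf (rstar A b)) ∈ ψ.range
        rw [(QuotientGroup.eq_one_iff _).2 (show _ ∈ D.subgroupOf (rstar A b) from hu)]
        exact one_mem _
      · exact ⟨⟨_, cc_mem_rstar ha⟩, ⟨⟨a, ha⟩, rfl⟩, rfl⟩
    obtain ⟨w, hw, rfl⟩ := hle hs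
    exact hw
  have hker : ψ.ker = D.subgroupOf A := by
    ext ⟨a, ha⟩
    rw [MonoidHom.mem_ker]
    show (QuotientGroup.mk _ : rstar A b ⧸ D.subgroupOf (rstar A b)) = 1 ↔ a ∈ D
    rw [QuotientGroup.eq_one_iff]
    show a * b⁻¹ * a⁻¹ * b ∈ D ↔ _
    constructor
    · intro hc
      refine ⟨ha, mem_conj_iff.2 ?_⟩
      rw [h.conj_b_eq]
      exact mul_mem (mul_mem (h.z_mem (h.cc_mem_B a)).1 hc.1) ha
    · intro hd
      have hd' := mem_conj_iff.1 hd.2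
      have h1 := h.cj_mem_of_mem_D ha hd'
      rw [show a * b⁻¹ * a⁻¹ * b = a * (b⁻¹ * a * b)⁻¹ by group]
      exact mul_mem hd (inv_mem ⟨h1, mem_conj_iff.2 (by
        rwa [show b * (b⁻¹ * a * b) * b⁻¹ = a by group])⟩)
  have e1 : Nat.card (rstar A b ⧸ D.subgroupOf (rstar A b)) = Nat.card (A ⧸ D.subgroupOf A) := by
    rw [← Nat.card_congr (QuotientGroup.quotientKerEquivOfSurjective ψ hψs).toEquiv, hker]
  rw [(D.subgroupOf (rstar A b)).card_eq_card_quotient_mul_card_subgroup,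
    (D.subgroupOf A).card_eq_card_quotient_mul_card_subgroup, e1,
    Nat.card_congr (Subgroup.subgroupOfEquivOfLe (inf_le_left : D ≤ A)).toEquiv,
    Nat.card_congr (Subgroup.subgroupOfEquivOfLe (show D ≤ rstar A b from le_sup_left)).toEquiv]

theorem inf_lt_rstar_inf (hbA : b ∉ Subgroup.normalizer (A : Set G)) [Finite G] :
    A ⊓ B < rstar A b ⊓ B := by
  refine lt_of_le_of_ne (le_inf h.inf_le_rstar inf_le_right) fun he => hbA ?_
  refine (Subgroup.inv_mem_iff _).1 (conjBy_eq_iff.1 (conjBy_eq_of_le (conjBy_le_iff.2 fun a ha => ?_)))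
  have : a * b⁻¹ * a⁻¹ * b ∈ A ⊓ B := he ▸ ⟨cc_mem_rstar ha, h.cc_mem_B a⟩
  have h2 : (a * b⁻¹ * a⁻¹ * b)⁻¹ * a ∈ A := mul_mem (A.inv_mem this.1) ha
  rwa [show (a * b⁻¹ * a⁻¹ * b)⁻¹ * a = b⁻¹ * a * b⁻¹⁻¹ by group] at h2

theorem inf_lt (hnot : ¬ B ≤ Subgroup.normalizer (A : Set G)) : rstar A b ⊓ B < B :=
  lt_of_le_of_ne inf_le_right fun he => hnot
    ((inf_eq_right.1 he).trans h.rstar_le_normalizer)

theorem le_normalizer_rstar [Finite G] : Subgroup.normalizer (A : Set G) ≤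
    Subgroup.normalizer (rstar A b : Set G) := by
  intro n hn
  refine conjBy_eq_iff.1 (conjBy_eq_of_le ?_)
  rw [conjBy, Subgroup.map_le_iff_le_comap]
  refine (le_of_eq rstar_eq_closure).trans ((Subgroup.closure_le _).2 ?_)
  rintro u (hu | ⟨a, ha, rfl⟩)
  · exact h.mem_rstar_of_D ((Subgroup.mem_normalizer_iff.1 hn u).1 hu.1)
      (h.conj_mem_conj hn (mem_conj_iff.1 hu.2))
  · show n * (a * b⁻¹ * a⁻¹ * b) * n⁻¹ ∈ rstar A b
    set a' := n * a * n⁻¹ with ha'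
    have ha'A : a' ∈ A := (Subgroup.mem_normalizer_iff.1 hn a).1 ha
    set y := n * b * n⁻¹ * b⁻¹ with hy
    have hyB : y ∈ B := mul_mem (h.conj_mem_B h.mem n) (inv_mem h.mem)
    have hyN : y ∈ Subgroup.normalizer (A : Set G) := by
      rw [hy, show n * b * n⁻¹ * b⁻¹ = n * (b * n⁻¹ * b⁻¹) by group]
      exact mul_mem hn (h.conj_mem_N (inv_mem hn)).2
    set δ := y⁻¹ * a' * y * a'⁻¹ with hδ
    have hδA : δ ∈ A := mul_mem ((Subgroup.mem_normalizer_iff''.1 hyN a').1 ha'A) (inv_mem ha'A)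
    have hδB : δ ∈ B := by
      rw [hδ, show y⁻¹ * a' * y * a'⁻¹ = y⁻¹ * (a' * y * a'⁻¹) by group]
      exact mul_mem (inv_mem hyB) (h.conj_mem_B hyB a')
    have hdA := h.cj_mem_of_mem_D hδA (h.inf_le_D hδA hδB)
    rw [show n * (a * b⁻¹ * a⁻¹ * b) * n⁻¹ = (a' * b⁻¹ * a'⁻¹ * b) * (b⁻¹ * δ * b)⁻¹ by
      rw [hδ, ha', hy]; group]
    refine mul_mem (cc_mem_rstar ha'A) (inv_mem (h.mem_rstar_of_D hdA ?_))
    rwa [show b * (b⁻¹ * δ * b) * b⁻¹ = δ by group]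

theorem b_mem_normalizer_rstar [Finite G] : b ∈ Subgroup.normalizer (rstar A b : Set G) := by
  refine (Subgroup.inv_mem_iff _).1 (conjBy_eq_iff.1 (conjBy_eq_of_le ?_))
  rw [conjBy, Subgroup.map_le_iff_le_comap]
  refine (le_of_eq rstar_eq_closure).trans ((Subgroup.closure_le _).2 ?_)
  rintro u (hu | ⟨a, ha, rfl⟩)
  · show b⁻¹ * u * b⁻¹⁻¹ ∈ rstar A b
    rw [inv_inv]
    refine h.mem_rstar_of_D (h.cj_mem_of_mem_D hu.1 (mem_conj_iff.1 hu.2)) ?_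
    rw [show b * (b⁻¹ * u * b) * b⁻¹ = u by group]; exact hu.1
  · show b⁻¹ * (a * b⁻¹ * a⁻¹ * b) * b⁻¹⁻¹ ∈ rstar A b
    set c := a * b⁻¹ * a⁻¹ * b with hc
    rw [show b⁻¹ * c * b⁻¹⁻¹ = ⁅b⁻¹, c⁆ * c by rw [commutatorElement_def]; group]
    exact mul_mem (h.derived_le_rstar (Subgroup.commutator_mem_commutator (inv_mem h.mem)
      (h.cc_mem_B a))) (cc_mem_rstar ha)

theorem le_normalizer [Finite G] : A ≤ Subgroup.normalizer (rstar A b : Set G) :=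
  Subgroup.le_normalizer.trans h.le_normalizer_rstar

theorem normalizer_lt [Finite G] (hbA : b ∉ Subgroup.normalizer (A : Set G)) :
    Subgroup.normalizer (A : Set G) < Subgroup.normalizer (rstar A b : Set G) :=
  lt_of_le_of_ne h.le_normalizer_rstar fun he => hbA (he ▸ h.b_mem_normalizer_rstar)

theorem pow_eq_one_of_odd [Finite G] [Fact p.Prime] {e : ℕ} (hodd : Odd e)
    (he : ∀ a ∈ A, a ^ e = 1) {g : G} (hg : g ∈ rstar A b) : g ^ e = 1 := by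
  letI : CommGroup (rstar A b) :=
    { (rstar A b).toGroup with mul_comm := h.isMulCommutative_rstar.is_comm.comm }
  have H : rstar A b ≤ ((powMonoidHom (α := rstar A b) e).ker).map (rstar A b).subtype := by
    refine (le_of_eq rstar_eq_closure).trans ((Subgroup.closure_le _).2 ?_)
    rintro u (hu | ⟨a, ha, rfl⟩)
    · exact ⟨⟨u, h.mem_rstar_of_D hu.1 (mem_conj_iff.1 hu.2)⟩,
        Subtype.ext (by simpa using he u hu.1), rfl⟩
    refine ⟨⟨_, cc_mem_rstar ha⟩, Subtype.ext ?_, rfl⟩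
    show (a * b⁻¹ * a⁻¹ * b) ^ e = 1
    set y := (b⁻¹ * a * b)⁻¹ with hy
    rw [show a * b⁻¹ * a⁻¹ * b = a * y by rw [hy]; group]
    set z := ⁅y, a⁆ with hz
    have hyN : y ∈ Subgroup.normalizer (A : Set G) := inv_mem (h.cj_mem ha)
    have hyA : b * y * b⁻¹ ∈ A := by
      rw [hy, show b * (b⁻¹ * a * b)⁻¹ * b⁻¹ = a⁻¹ by group]; exact inv_mem ha
    have hzD : z ∈ A ∧ b * z * b⁻¹ ∈ A := by
      have := h.commutator_mem ha hyN hyA
      rw [hz, ← commutatorElement_inv a y]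
      refine ⟨inv_mem this.1, ?_⟩
      rw [show b * ⁅a, y⁆⁻¹ * b⁻¹ = (b * ⁅a, y⁆ * b⁻¹)⁻¹ by group]
      exact inv_mem this.2
    have hza : Commute z a := h.commute_D hzD.1 hzD.2 (Or.inl ha)
    have hzy : Commute z y := h.commute_D hzD.1 hzD.2 (Or.inr hyA)
    have hswap : ∀ n : ℕ, y ^ n * a = z ^ n * a * y ^ n := by
      intro n
      induction n with
      | zero => simp
      | succ n ih =>
        rw [pow_succ', mul_assoc, ih, ← mul_assoc, ← mul_assoc, ← (hzy.pow_left n).eq,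
          mul_assoc (z ^ n) y a, show y * a = z * a * y by rw [hz, commutatorElement_def]; group,
          pow_succ]
        group
    have hpow : ∀ n : ℕ, (a * y) ^ n = z ^ n.choose 2 * a ^ n * y ^ n := by
      intro n
      induction n with
      | zero => simp [Nat.choose_eq_zero_of_lt]
      | succ n ih =>
        calc (a * y) ^ (n + 1) = z ^ n.choose 2 * a ^ n * (y ^ n * a) * y := by
              rw [pow_succ, ih]; group
          _ = z ^ n.choose 2 * (a ^ n * z ^ n) * (a * y ^ n) * y := by rw [hswap]; group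
          _ = (z ^ n.choose 2 * z ^ n) * (a ^ n * a) * (y ^ n * y) := by
              rw [(hza.pow_pow n n).symm.eq]; group
          _ = z ^ (n + 1).choose 2 * a ^ (n + 1) * y ^ (n + 1) := by
              rw [← pow_add, ← pow_succ, ← pow_succ,
                show (n + 1).choose 2 = n.choose 2 + n by
                  rw [Nat.choose_succ_succ, Nat.choose_one_right, Nat.add_comm]]
    have hz1 : z ^ e.choose 2 = 1 := by
      obtain ⟨l, rfl⟩ := hodd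
      rw [Nat.choose_two_right, Nat.add_sub_cancel, show (2 * l + 1) * (2 * l) = (2 * l + 1) * l * 2
        by ring, Nat.mul_div_cancel _ (by norm_num), pow_mul, he z hzD.1, one_pow]
    rw [hpow, hz1, he a ha, hy, inv_pow, one_mul, one_mul,
      show (b⁻¹ * a * b) ^ e = (b⁻¹ * a * b⁻¹⁻¹) ^ e by rw [inv_inv], conj_pow, he a ha]
    simp
  obtain ⟨w, hw, rfl⟩ := H hg
  exact congrArg Subtype.val hw

end RStep

/-- Glauberman's replacement: some member containing `[B,B]` but not `B` is normalized by `B`. -/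
theorem exists_normalized_member [Finite G] [Fact p.Prime] (hG : IsPGroup p G) {B : Subgroup G}
    [B.Normal] (hB2 : p = 2 → IsMulCommutative B) (𝒜 : Set (Subgroup G))
    (hab : ∀ A ∈ 𝒜, IsMulCommutative A)
    (hcl : ∀ A ∈ 𝒜, ∀ b : G, RStep p A B b → rstar A b ∈ 𝒜)
    (hU : ∃ U ∈ 𝒜, ⁅B, B⁆ ≤ U ∧ ¬ B ≤ U) :
    ∃ A ∈ 𝒜, ⁅B, B⁆ ≤ A ∧ ¬ B ≤ A ∧ B ≤ Subgroup.normalizer (A : Set G) := by
  classical
  obtain ⟨U, hU1, hU2⟩ := hU
  haveI : Nonempty {A : Subgroup G // A ∈ 𝒜 ∧ ⁅B, B⁆ ≤ A ∧ ¬ B ≤ A} := ⟨⟨U, hU1, hU2⟩⟩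
  obtain ⟨⟨A, hA, hA1, hA2⟩, hmax⟩ := Finite.exists_max
    fun A : {A : Subgroup G // A ∈ 𝒜 ∧ ⁅B, B⁆ ≤ A ∧ ¬ B ≤ A} => Nat.card (A.1 ⊓ B : Subgroup G)
  refine ⟨A, hA, hA1, hA2, by_contra fun hnot => ?_⟩
  obtain ⟨b, hb, hbN, hbA⟩ := exists_mem_normalizer_normalizer hG hnot
  have h : RStep p A B b := ⟨hG, ‹_›, hB2,
    fun x hx y hy => congrArg Subtype.val ((hab A hA).is_comm.comm (⟨x, hx⟩ : A) ⟨y, hy⟩), hA1, hb, hbN⟩
  have hle := hmax ⟨rstar A b, hcl A hA b h, h.derived_le_rstar,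
    fun hB => (h.inf_lt hnot).ne (inf_eq_right.2 hB)⟩
  have h1 := h.inf_lt_rstar_inf hbA
  exact h1.ne (Subgroup.eq_of_le_of_card_ge h1.le hle)

end CfsgLib.Fusion
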