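import Cfsg.Agent.Lib.Fusion.Replacement
import Cfsg.Agent.Lib.LocalStructure.Reduced

/-!
# The replacement does not shrink `Ω₁` when `p` is odd
-/

set_option autoImplicit false
set_option linter.style.haveILetI false

open Subgroup
open scoped commutatorElement

namespace CfsgLib.Fusion

variable {G : Type*} [Group G] [Finite G] {p : ℕ} [Fact p.Prime]

/-- The subgroup of `n`-th powers of an abelian subgroup. -/
def powImage (A : Subgroup G) (hA : ∀ x ∈ A, ∀ y ∈ A, x * y = y * x) (n : ℕ) : Subgroup G where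
  carrier := {g | ∃ a ∈ A, g = a ^ n}
  one_mem' := ⟨1, one_mem _, (one_pow n).symm⟩
  mul_mem' := by
    rintro _ _ ⟨a, ha, rfl⟩ ⟨a', ha', rfl⟩
    exact ⟨a * a', mul_mem ha ha', ((show Commute a a' from hA a ha a' ha').mul_pow n).symm⟩
  inv_mem' := by
    rintro _ ⟨a, ha, rfl⟩
    exact ⟨a⁻¹, inv_mem ha, (inv_pow a n).symm⟩

/-- For an abelian subgroup: `|A| = |Ω₁(A)| |A^p|`. -/
theorem card_eq_omega_mul_powImage (A : Subgroup G) (hA : ∀ x ∈ A, ∀ y ∈ A, x * y = y * x) :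
    Nat.card A = Nat.card (Cfsg.omegaOne p A) * Nat.card (powImage A hA p) := by
  let f : A →* G :=
    { toFun := fun a => (a : G) ^ p
      map_one' := one_pow p
      map_mul' := fun a a' => (show Commute (a : G) a' from hA _ a.2 _ a'.2).mul_pow p }
  have hr : f.range = powImage A hA p := by
    ext g
    exact ⟨fun ⟨a, ha⟩ => ⟨a, a.2, ha.symm⟩, fun ⟨a, ha, he⟩ => ⟨⟨a, ha⟩, he.symm⟩⟩
  have hk : f.ker.map A.subtype = Cfsg.omegaOne p A := by
    refine le_antisymm ?_ ((closure_le _).2 fun x hx => ⟨⟨x, hx.1⟩, hx.2, rfl⟩)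
    rintro _ ⟨a, ha, rfl⟩
    exact CfsgLib.LS.mem_omegaOne a.2 ha
  rw [← hk, card_map_of_injective A.subtype_injective, ← hr, ← Subgroup.index_ker,
    Subgroup.card_mul_index]

theorem commutator_pow_right_mem {x y z : G} (hz : ⁅x, y⁆ = z) (hzy : Commute z y) (n : ℕ) :
    ⁅x, y ^ n⁆ = z ^ n := by
  induction n with
  | zero => simp
  | succ n ih =>
    have h1 : ⁅x, y ^ (n + 1)⁆ = ⁅x, y ^ n⁆ * (y ^ n * ⁅x, y⁆ * (y ^ n)⁻¹) := by
      simp only [commutatorElement_def, pow_succ]; group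
    rw [h1, ih, hz, ← (hzy.pow_right n).eq, mul_inv_cancel_right, pow_succ]

theorem RStep.card_omega_le {A B : Subgroup G} {b : G} (h : RStep p A B b) (hp : p ≠ 2) :
    Nat.card (Cfsg.omegaOne p A) ≤ Nat.card (Cfsg.omegaOne p (rstar A b)) := by
  classical
  have hS : ∀ x ∈ rstar A b, ∀ y ∈ rstar A b, x * y = y * x := fun x hx y hy =>
    congrArg Subtype.val (h.isMulCommutative_rstar.is_comm.comm (⟨x, hx⟩ : rstar A b) ⟨y, hy⟩)
  set D := A ⊓ A.map (MulAut.conj (b⁻¹)).toMonoidHom with hD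
  have hDmem : ∀ {x : G}, x ∈ D ↔ x ∈ A ∧ b * x * b⁻¹ ∈ A := fun {x} =>
    and_congr Iff.rfl RStep.mem_conj_iff
  have hDc : ∀ x ∈ D, ∀ y ∈ D, x * y = y * x := fun x hx y hy => h.comm x hx.1 y hy.1
  set Dp := powImage D hDc p with hDp
  set Ap := powImage A h.comm p with hAp
  set Sp := powImage (rstar A b) hS p with hSp
  have hDA : Dp ≤ Ap := by rintro _ ⟨d, hd, rfl⟩; exact ⟨d, hd.1, rfl⟩
  have hDS : Dp ≤ Sp := by
    rintro _ ⟨d, hd, rfl⟩
    exact ⟨d, Subgroup.mem_sup_left hd, rfl⟩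
  -- `Dp` is invariant under conjugation by `b`
  have hDb : ∀ x ∈ Dp, b⁻¹ * x * b ∈ Dp := by
    rintro _ ⟨d, hd, rfl⟩
    obtain ⟨h1, h2⟩ := hDmem.1 hd
    refine ⟨b⁻¹ * d * b, hDmem.2 ⟨h.cj_mem_of_mem_D h1 h2, ?_⟩, ?_⟩
    · rwa [show b * (b⁻¹ * d * b) * b⁻¹ = d by group]
    · rw [show b⁻¹ * d * b = b⁻¹ * d * b⁻¹⁻¹ by rw [inv_inv], conj_pow, inv_inv]
  -- the image of a `p`-th power
  set c : G → G := fun u => u * (b⁻¹ * u⁻¹ * b) with hc
  have hyN : ∀ u ∈ A, b⁻¹ * u⁻¹ * b ∈ Subgroup.normalizer (A : Set G) := fun u hu => h.cj_mem (inv_mem hu)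
  have hyA : ∀ u ∈ A, b * (b⁻¹ * u⁻¹ * b) * b⁻¹ ∈ A := fun u hu => by
    rw [show b * (b⁻¹ * u⁻¹ * b) * b⁻¹ = u⁻¹ by group]; exact inv_mem hu
  have hcomm : ∀ u₁ ∈ Ap, ∀ u₂ ∈ Ap, ∃ d ∈ Dp, c u₁ * c u₂ = c (u₁ * u₂) * d := by
    rintro _ ⟨a₁, ha₁, rfl⟩ _ ⟨a₂, ha₂, rfl⟩
    set u₁ := a₁ ^ p with hu₁
    set u₂ := a₂ ^ p with hu₂
    have hu₁A : u₁ ∈ A := pow_mem ha₁ p
    have hu₂A : u₂ ∈ A := pow_mem ha₂ p
    set q := b⁻¹ * a₁⁻¹ * b with hq
    set y₁ := b⁻¹ * u₁⁻¹ * b with hy₁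
    set y₂ := b⁻¹ * u₂⁻¹ * b with hy₂
    have hq1 : q ^ p = y₁ := by
      rw [hq, hy₁, show b⁻¹ * a₁⁻¹ * b = b⁻¹ * a₁⁻¹ * b⁻¹⁻¹ by rw [inv_inv], conj_pow, inv_inv,
        inv_pow]
    set z := ⁅u₂, q⁆ with hz
    have hzD := h.commutator_mem hu₂A (hyN a₁ ha₁) (hyA a₁ ha₁)
    have hzq : Commute z q := h.commute_D hzD.1 hzD.2 (Or.inr (hyA a₁ ha₁))
    have hz2 : ⁅u₂, y₁⁆ = z ^ p := by rw [← hq1]; exact commutator_pow_right_mem hz.symm hzq p
    have hzp : z ^ p ∈ Dp := ⟨z, hDmem.2 hzD, rfl⟩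
    refine ⟨(z ^ p)⁻¹, inv_mem hzp, ?_⟩
    have hzA : b * z * b⁻¹ ∈ A := hzD.2
    have hcy : Commute (z ^ p)⁻¹ y₂ :=
      ((h.commute_D hzD.1 hzD.2 (Or.inr (hyA u₂ hu₂A))).pow_left p).inv_left
    have hyy : Commute y₁ y₂ := h.comm_conj (hyA u₁ hu₁A) (hyA u₂ hu₂A)
    have hswap : y₁ * u₂ = u₂ * y₁ * (z ^ p)⁻¹ := by
      have hzy1 : Commute (z ^ p)⁻¹ y₁ :=
        ((h.commute_D hzD.1 hzD.2 (Or.inr (hyA u₁ hu₁A))).pow_left p).inv_left
      have hzu : Commute (z ^ p)⁻¹ u₂ :=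
        ((h.commute_D hzD.1 hzD.2 (Or.inl hu₂A)).pow_left p).inv_left
      rw [← (hzu.mul_right hzy1).eq, ← hz2, commutatorElement_def]
      group
    show u₁ * y₁ * (u₂ * y₂) = u₁ * u₂ * (b⁻¹ * (u₁ * u₂)⁻¹ * b) * (z ^ p)⁻¹
    have he : b⁻¹ * (u₁ * u₂)⁻¹ * b = y₂ * y₁ := by rw [hy₁, hy₂]; group
    rw [he, ← hyy.eq]
    calc u₁ * y₁ * (u₂ * y₂) = u₁ * (y₁ * u₂) * y₂ := by group
      _ = u₁ * u₂ * y₁ * ((z ^ p)⁻¹ * y₂) := by rw [hswap]; group
      _ = _ := by rw [hcy.eq]; group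
  have hcd : ∀ d ∈ Dp, c d ∈ Dp := fun d hd => mul_mem hd (hDb _ (inv_mem hd))
  have hcD : ∀ u ∈ Ap, ∀ d ∈ Dp, d * c u = c u * d := by
    rintro _ ⟨a, ha, rfl⟩ _ ⟨d, hd, rfl⟩
    have h1 := h.commute_D_cc (hDmem.1 hd).1 (hDmem.1 hd).2 (pow_mem ha p)
    have h2 : c (a ^ p) = a ^ p * b⁻¹ * (a ^ p)⁻¹ * b := by simp only [hc, mul_assoc]
    rw [h2]
    exact h1.pow_left p
  -- `Sp` consists of images
  have hcover : ∀ v ∈ Sp, ∃ u ∈ Ap, ∃ d ∈ Dp, v = c u * d := by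
    have hp2 : ∀ a ∈ A, ∃ d ∈ Dp, (a * b⁻¹ * a⁻¹ * b) ^ p = c (a ^ p) * d := by
      intro a ha
      set y := b⁻¹ * a⁻¹ * b with hy
      rw [show a * b⁻¹ * a⁻¹ * b = a * y by rw [hy]; group]
      set z := ⁅y, a⁆ with hz
      have hzD : z ∈ A ∧ b * z * b⁻¹ ∈ A := by
        have := h.commutator_mem ha (hyN a ha) (hyA a ha)
        rw [hz, ← commutatorElement_inv a y]
        refine ⟨inv_mem this.1, ?_⟩
        rw [show b * ⁅a, y⁆⁻¹ * b⁻¹ = (b * ⁅a, y⁆ * b⁻¹)⁻¹ by group]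
        exact inv_mem this.2
      have hza : Commute z a := h.commute_D hzD.1 hzD.2 (Or.inl ha)
      have hzy : Commute z y := h.commute_D hzD.1 hzD.2 (Or.inr (hyA a ha))
      have hswap : ∀ n : ℕ, y ^ n * a = z ^ n * a * y ^ n := by
        intro n
        induction n with
        | zero => simp
        | succ n ih =>
          rw [pow_succ', mul_assoc, ih, ← mul_assoc, ← mul_assoc, ← (hzy.pow_left n).eq,
            mul_assoc (z ^ n) y a, show y * a = z * a * y by rw [hz, commutatorElement_def]; group,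
            pow_succ]
          group
      have hpow : ∀ n : ℕ, (a * y) ^ n = z ^ n.choose 2 * (a ^ n * y ^ n) := by
        intro n
        induction n with
        | zero => simp [Nat.choose_eq_zero_of_lt]
        | succ n ih =>
          calc (a * y) ^ (n + 1) = z ^ n.choose 2 * a ^ n * (y ^ n * a) * y := by
                rw [pow_succ, ih]; group
            _ = z ^ n.choose 2 * (a ^ n * z ^ n) * (a * y ^ n) * y := by rw [hswap]; group
            _ = (z ^ n.choose 2 * z ^ n) * (a ^ n * a) * (y ^ n * y) := by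
                rw [(hza.pow_pow n n).symm.eq]; group
            _ = z ^ (n + 1).choose 2 * (a ^ (n + 1) * y ^ (n + 1)) := by
                rw [← pow_add, ← pow_succ, ← pow_succ,
                  show (n + 1).choose 2 = n.choose 2 + n by
                    rw [Nat.choose_succ_succ, Nat.choose_one_right, Nat.add_comm], mul_assoc]
      obtain ⟨l, hl⟩ := (Fact.out : p.Prime).odd_of_ne_two hp
      have hch : p.choose 2 = l * p := by
        rw [Nat.choose_two_right, hl, Nat.add_sub_cancel,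
          show (2 * l + 1) * (2 * l) = l * (2 * l + 1) * 2 by ring, Nat.mul_div_cancel _ (by norm_num)]
      refine ⟨(z ^ l) ^ p, ⟨z ^ l, pow_mem (hDmem.2 hzD) l, rfl⟩, ?_⟩
      have hcc : c (a ^ p) = a ^ p * y ^ p := by
        rw [hc, hy, show b⁻¹ * a⁻¹ * b = b⁻¹ * a⁻¹ * b⁻¹⁻¹ by rw [inv_inv], conj_pow, inv_inv,
          inv_pow]
      rw [hpow, hch, pow_mul, hcc]
      exact (((hza.pow_right p).mul_right (hzy.pow_right p)).pow_left l).pow_left p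
    rintro _ ⟨g, hg, rfl⟩
    have hg' := hg
    rw [RStep.rstar_eq_closure] at hg'
    induction hg' using Subgroup.closure_induction with
    | mem x hx =>
      rcases hx with hx | ⟨a, ha, rfl⟩
      · exact ⟨1, one_mem _, x ^ p, ⟨x, hx, rfl⟩, by simp [hc]⟩
      · obtain ⟨d, hd, he⟩ := hp2 a ha
        exact ⟨a ^ p, ⟨a, ha, rfl⟩, d, hd, he⟩
    | one => exact ⟨1, one_mem _, 1, one_mem _, by simp [hc]⟩
    | mul x y hx hy ihx ihy =>
      rw [← RStep.rstar_eq_closure] at hx hy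
      obtain ⟨u₁, hu₁, d₁, hd₁, e₁⟩ := ihx hx
      obtain ⟨u₂, hu₂, d₂, hd₂, e₂⟩ := ihy hy
      obtain ⟨d, hd, he⟩ := hcomm u₁ hu₁ u₂ hu₂
      refine ⟨u₁ * u₂, mul_mem hu₁ hu₂, d * (d₁ * d₂), mul_mem hd (mul_mem hd₁ hd₂), ?_⟩
      rw [(show Commute x y from hS x hx y hy).mul_pow, e₁, e₂, ← mul_assoc (c _) d, ← he,
        show c u₁ * d₁ * (c u₂ * d₂) = c u₁ * (d₁ * c u₂) * d₂ by group, hcD u₂ hu₂ d₁ hd₁]
      group
    | inv x hx ihx =>
      rw [← RStep.rstar_eq_closure] at hx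
      obtain ⟨u, hu, d, hd, e⟩ := ihx hx
      obtain ⟨d', hd', he⟩ := hcomm u hu u⁻¹ (inv_mem hu)
      refine ⟨u⁻¹, inv_mem hu, d'⁻¹ * d⁻¹, mul_mem (inv_mem hd') (inv_mem hd), ?_⟩
      have h1 : c u * c u⁻¹ = d' := by rw [he, mul_inv_cancel]; simp [hc]
      have h2 : (c u)⁻¹ = c u⁻¹ * d'⁻¹ := by
        rw [← h1]; group
      rw [inv_pow, e, mul_inv_rev, h2]
      have h3 : Commute d⁻¹ (c u⁻¹ * d'⁻¹) :=
        Commute.mul_right (show Commute d⁻¹ (c u⁻¹) from hcD _ (inv_mem hu) _ (inv_mem hd))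
          (show Commute d⁻¹ d'⁻¹ from h.comm _ (inv_mem (hDA hd |> fun ⟨w, hw, e'⟩ => e' ▸ pow_mem hw p))
            _ (inv_mem (hDA hd' |> fun ⟨w, hw, e'⟩ => e' ▸ pow_mem hw p)))
      rw [h3.eq, mul_assoc]
  -- count
  have hDinA : ∀ d ∈ Dp, d ∈ A := fun d hd => by
    obtain ⟨w, hw, rfl⟩ := hd; exact pow_mem hw.1 p
  let π : Ap → Ap ⧸ Dp.subgroupOf Ap := fun u => (u : Ap ⧸ Dp.subgroupOf Ap)
  let rep : Ap → Ap := fun u => (π u).out
  have hrep : ∀ u : Ap, ((rep u : G))⁻¹ * (u : G) ∈ Dp := fun u =>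
    (QuotientGroup.eq (s := Dp.subgroupOf Ap)).1 (QuotientGroup.out_eq' (π u))
  have hrep' : ∀ u u' : Ap, (u : G)⁻¹ * u' ∈ Dp → rep u = rep u' := fun u u' hu => by
    show (π u).out = (π u').out
    rw [show π u = π u' from QuotientGroup.eq.2 hu]
  let F : Ap → G := fun u => c (rep u) * ((rep u : G)⁻¹ * u)
  have hsub : (Sp : Set G) ⊆ Set.range F := by
    intro v hv
    obtain ⟨u, hu, d, hd, rfl⟩ := hcover v hv
    set r := rep ⟨u, hu⟩ with hr
    have he : (r : G)⁻¹ * u ∈ Dp := hrep ⟨u, hu⟩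
    set e := (r : G)⁻¹ * u with he'
    obtain ⟨d', hd', hce⟩ := hcomm r r.2 e (hDA he)
    have hu' : (r : G) * e = u := by rw [he', mul_inv_cancel_left]
    rw [hu'] at hce
    -- c u = c r * (c e * d'⁻¹)
    have hcu : c u = c r * (c e * d'⁻¹) := by
      rw [← mul_assoc, hce, mul_inv_cancel_right]
    have hdd : c e * d'⁻¹ * d ∈ Dp := mul_mem (mul_mem (hcd e he) (inv_mem hd')) hd
    let u' : Ap := ⟨(r : G) * (c e * d'⁻¹ * d), mul_mem r.2 (hDA hdd)⟩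
    have hru : rep u' = r := by
      rw [hr]
      refine hrep' u' ⟨u, hu⟩ ?_
      show ((r : G) * (c e * d'⁻¹ * d))⁻¹ * u ∈ Dp
      rw [show ((r : G) * (c e * d'⁻¹ * d))⁻¹ * u = (c e * d'⁻¹ * d)⁻¹ * e by rw [he']; group]
      exact mul_mem (inv_mem hdd) he
    refine ⟨u', ?_⟩
    show c (rep u') * ((rep u' : G)⁻¹ * ((r : G) * (c e * d'⁻¹ * d))) = c u * d
    rw [hru, inv_mul_cancel_left, hcu]; group
  have hle : Nat.card Sp ≤ Nat.card Ap :=
    (Nat.card_mono (Set.finite_range F) hsub).trans (Finite.card_range_le F)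
  have e1 := card_eq_omega_mul_powImage (p := p) A h.comm
  have e2 := card_eq_omega_mul_powImage (p := p) (rstar A b) hS
  rw [h.card_rstar] at e2
  have hpos : 0 < Nat.card Ap := Nat.card_pos
  refine Nat.le_of_mul_le_mul_right ?_ hpos
  rw [← e1]
  exact e2.le.trans (Nat.mul_le_mul le_rfl hle)

end CfsgLib.Fusion
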