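import Cfsg.Agent.Lib.Fusion.SylowCenterModule
import Cfsg.Agent.Lib.Fusion.StableFree
import Cfsg.Agent.S0607

/-!
# Thompson factorization in stable groups of characteristic `p`
-/

set_option autoImplicit false
set_option linter.style.haveILetI false

open Subgroup

namespace CfsgLib.Fusion

universe u

variable {G : Type u} [Group G] [Finite G] {p : ℕ} [Fact p.Prime]

/-- In a stable group of characteristic `p` the Thompson subgroup centralizes the module generated
by the `Ω₁` of the centres of the Sylow subgroups. -/
theorem thompsonSubgroup_le_centralizer_of_stable (hst : Cfsg.IsActionPStable p G)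
    (hc : centralizer (Cfsg.pCore p G : Set G) ≤ Cfsg.pCore p G) :
    Cfsg.thompsonSubgroup p G ≤
      centralizer ((⨆ S : Sylow p G, sylowZ p (S : Subgroup G) : Subgroup G) : Set G) := by
  haveI := sylowModule_normal (p := p) (G := G)
  have hVe := sylowModule_elementary hc
  set V := ⨆ S : Sylow p G, sylowZ p (S : Subgroup G) with hV
  set C := centralizer (V : Set G) with hC
  haveI : C.Normal := normal_centralizer
  refine sSup_le fun A hA => ?_
  by_contra hAC
  obtain ⟨-, hq, hne⟩ := Cfsg.Agent.S0607.result V hVe A hA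
  set B := ⁅V, A⁆ ⊔ (A ⊓ centralizer ((⁅V, A⁆ : Subgroup G) : Set G)) with hB
  refine hne (fun h => hAC (le_centralizer_iff.1 (commutator_eq_bot_iff_le_centralizer.1 h))) ?_
  rw [commutator_eq_bot_iff_le_centralizer, le_centralizer_iff]
  haveI := CfsgLib.Coprime.pCore_normal' (G := G ⧸ C) p
  set D := (Cfsg.pCore p (G ⧸ C)).comap (QuotientGroup.mk' C) with hD
  haveI : D.Normal := Normal.comap inferInstance _
  have hCD : C ≤ D := fun c hc => by
    show QuotientGroup.mk' C c ∈ Cfsg.pCore p _
    rw [show QuotientGroup.mk' C c = 1 from (QuotientGroup.eq_one_iff c).2 hc]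
    exact one_mem _
  obtain ⟨k, hk⟩ := (CfsgLib.Coprime.pCore_isPGroup (G := G ⧸ C) p).exists_card_eq
  have hkD : C.relIndex D = p ^ k := by
    have h := relIndex_comap (f := QuotientGroup.mk' C) ⊥ D
    rw [MonoidHom.comap_bot, QuotientGroup.ker_mk', relIndex_bot_left,
      map_comap_eq_self_of_surjective (QuotientGroup.mk'_surjective C)] at h
    rw [h, hk]
  have hDC : D = C := eq_centralizer_of_generated V (fun S : Sylow p G => sylowZ p (S : Subgroup G))
    (fun S => (sylowZ_le _).trans inf_le_right) hV D hCD ⟨k, hkD⟩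
  intro a ha
  refine le_of_eq hDC (show QuotientGroup.mk' C a ∈ Cfsg.pCore p (G ⧸ C) from ?_)
  refine hst.1 V hVe a (eq_bot_iff.2 (hq ▸ commutator_mono (commutator_mono le_rfl ?_) ?_)) <;>
    exact zpowers_le.2 ha

/-- Thompson factorizability of stable groups of characteristic `p`. -/
theorem thompsonFactorizable_of_stable (hst : Cfsg.IsActionPStable p G) (hO : Cfsg.pPrimeCore p G = ⊥)
    (hc : centralizer (Cfsg.pCore p G : Set G) ≤ Cfsg.pCore p G) :
    Cfsg.IsThompsonFactorizable p G :=
  (thompsonFactorizable_iff hO).2 (thompsonSubgroup_le_centralizer_of_stable hst hc)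

end CfsgLib.Fusion
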