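import Cfsg.Agent.S2791
import Cfsg.Agent.Lib.Fusion.Transfer
import Cfsg.Agent.Lib.Invol.Basic

/-!
# Groups all of whose two-elements centralize a Sylow two-subgroup

No two-element of order greater than two is real, so the involutions of a Sylow two-subgroup form an
elementary abelian strongly closed subgroup, whose normalizer controls fusion; the abelian Sylow
two-subgroups follow by induction on the order.
-/

set_option autoImplicit false
set_option linter.unusedSectionVars false
set_option linter.style.haveILetI false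

open Subgroup

namespace CfsgLib.Fusion.TwoCentral

universe u

/-- Every two-element centralizes a Sylow two-subgroup. -/
def Central (G : Type u) [Group G] : Prop :=
  ∀ x : G, (∃ k : ℕ, orderOf x = 2 ^ k) →
    ∃ Q : Sylow 2 G, (Q : Subgroup G) ≤ centralizer ({x} : Set G)

variable {G : Type u} [Group G] [Finite G]

theorem exists_pow_of_mem {P : Subgroup G} (hP : IsPGroup 2 P) {x : G} (hx : x ∈ P) :
    ∃ k : ℕ, orderOf x = 2 ^ k := by
  obtain ⟨k, hk⟩ := IsPGroup.iff_orderOf.1 hP ⟨x, hx⟩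
  exact ⟨k, by rw [← hk, Subgroup.orderOf_mk]⟩

theorem mem_sylow_of_le_centralizer (Q : Sylow 2 G) {x : G} (hx : ∃ k : ℕ, orderOf x = 2 ^ k)
    (h : (Q : Subgroup G) ≤ centralizer ({x} : Set G)) : x ∈ (Q : Subgroup G) := by
  obtain ⟨k, hk⟩ := hx
  have hz : IsPGroup 2 (zpowers x) := IsPGroup.of_card (n := k) (by rw [Nat.card_zpowers, hk])
  have hn : zpowers x ≤ normalizer ((Q : Subgroup G) : Set G) := zpowers_le.2 (by
    refine mem_normalizer_iff.2 fun y => ⟨fun hy => ?_, fun hy => ?_⟩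
    · rwa [← mem_centralizer_singleton_iff.1 (h hy), mul_inv_cancel_right]
    · have e := mem_centralizer_singleton_iff.1 (h hy)
      have e' : x * y * x⁻¹ = y := by
        have h' : x * y * x⁻¹ * x = x * (x * y * x⁻¹) := e
        rw [inv_mul_cancel_right] at h'
        exact (mul_left_cancel h').symm
      rwa [e'] at hy)
  have hsup : IsPGroup 2 ((Q : Subgroup G) ⊔ zpowers x : Subgroup G) :=
    Q.2.to_sup_of_normal_left' hz hn
  exact Q.3 hsup le_sup_left ▸ mem_sup_right (mem_zpowers x)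

/-- The fundamental consequence: only involutions are real among the two-elements. -/
theorem sq_eq_one_of_real (h : Central G) {w g : G} (hw : ∃ k : ℕ, orderOf w = 2 ^ k)
    (hgw : g * w * g⁻¹ = w⁻¹) : w * w = 1 := by
  set C := centralizer ({w} : Set G) with hC
  obtain ⟨Q, hQ⟩ := h w hw
  have hgN : g ∈ normalizer (C : Set G) := by
    refine mem_normalizer_iff.2 fun y => ?_
    have hw' : w⁻¹⁻¹ = w := inv_inv w
    rw [hC, mem_centralizer_singleton_iff, mem_centralizer_singleton_iff]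
    constructor
    · intro e
      have e1 : g * y * g⁻¹ * w⁻¹ = w⁻¹ * (g * y * g⁻¹) := by
        rw [← hgw]
        calc g * y * g⁻¹ * (g * w * g⁻¹) = g * (y * w) * g⁻¹ := by group
          _ = g * (w * y) * g⁻¹ := by rw [e]
          _ = _ := by group
      exact (Commute.inv_right_iff.1 e1 :)
    · intro e
      have e1 : g * y * g⁻¹ * w⁻¹ = w⁻¹ * (g * y * g⁻¹) := (Commute.inv_right e :)
      rw [← hgw] at e1
      have e2 : g * (y * w) * g⁻¹ = g * (w * y) * g⁻¹ := by
        calc g * (y * w) * g⁻¹ = g * y * g⁻¹ * (g * w * g⁻¹) := by group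
          _ = _ := by rw [e1]; group
      exact mul_left_cancel (mul_right_cancel e2)
  set N := normalizer (C : Set G)
  haveI : (C.subgroupOf N).Normal := normal_subgroupOf_iff le_normalizer |>.2 fun y n hy hn =>
    (mem_normalizer_iff.1 hn y).1 hy
  have hodd : ¬ 2 ∣ (C.subgroupOf N).index := fun hd => by
    have h1 : C.relIndex N ∣ C.index := relIndex_dvd_index_of_le le_normalizer
    exact Q.not_dvd_index ((hd.trans h1).trans (index_dvd_of_le hQ))
  let q := QuotientGroup.mk' (C.subgroupOf N)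
  have h2 : orderOf (q ⟨g, hgN⟩) ∣ 2 := orderOf_dvd_of_pow_eq_one (by
    rw [← map_pow]
    refine (QuotientGroup.eq_one_iff _).2 ?_
    rw [mem_subgroupOf, hC, mem_centralizer_singleton_iff]
    show g ^ 2 * w = w * g ^ 2
    rw [pow_two]
    have e : g * g * w * (g * g)⁻¹ = w := by
      calc g * g * w * (g * g)⁻¹ = g * (g * w * g⁻¹) * g⁻¹ := by group
        _ = g * w⁻¹ * g⁻¹ := by rw [hgw]
        _ = (g * w * g⁻¹)⁻¹ := by group
        _ = w := by rw [hgw, inv_inv]
    exact mul_inv_eq_iff_eq_mul.1 e)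
  have h1 : q ⟨g, hgN⟩ = 1 := by
    rcases (Nat.dvd_prime Nat.prime_two).1 h2 with e | e
    · exact orderOf_eq_one_iff.1 e
    · refine absurd ?_ hodd
      rw [← e]
      exact _root_.orderOf_dvd_natCard _
  have hgC : g ∈ C := mem_subgroupOf.1 ((QuotientGroup.eq_one_iff _).1 h1)
  rw [mem_centralizer_singleton_iff.1 hgC, mul_inv_cancel_right] at hgw
  exact eq_inv_iff_mul_eq_one.1 hgw

theorem commute_invol (h : Central G) {P : Subgroup G} (hP : IsPGroup 2 P) {u v : G} (hu : u ∈ P)
    (hv : v ∈ P) (hu2 : u * u = 1) (hv2 : v * v = 1) : u * v = v * u := by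
  have hu' : u⁻¹ = u := inv_eq_of_mul_eq_one_right hu2
  have hv' : v⁻¹ = v := inv_eq_of_mul_eq_one_right hv2
  have hw := sq_eq_one_of_real h (exists_pow_of_mem hP (mul_mem hu hv))
    (g := u) (by rw [mul_inv_rev, hu', hv', ← mul_assoc u u, hu2, one_mul])
  rw [← inv_eq_of_mul_eq_one_right hw, mul_inv_rev, hu', hv']

/-- The involutions and the identity of a two-subgroup. -/
def invSub (h : Central G) {P : Subgroup G} (hP : IsPGroup 2 P) : Subgroup G where
  carrier := {u | u ∈ P ∧ u * u = 1}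
  one_mem' := ⟨one_mem P, mul_one 1⟩
  mul_mem' := fun {u v} hu hv => ⟨mul_mem hu.1 hv.1, by
    have e := commute_invol h hP hu.1 hv.1 hu.2 hv.2
    calc u * v * (u * v) = u * (v * u) * v := by group
      _ = u * (u * v) * v := by rw [e]
      _ = 1 := by rw [← mul_assoc u u, hu.2, one_mul, hv.2]⟩
  inv_mem' := fun {u} hu => ⟨inv_mem hu.1, by rw [← mul_inv_rev, hu.2, inv_one]⟩

theorem commutative_of_conj {P Q : Sylow 2 G} (h : IsMulCommutative (Q : Subgroup G)) :
    IsMulCommutative (P : Subgroup G) := by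
  exact ⟨⟨fun a b => (Q.equiv P).symm.injective (by rw [map_mul, map_mul]; exact h.is_comm.comm _ _)⟩⟩

theorem main : ∀ (n : ℕ) (G : Type u) [Group G] [Finite G], Nat.card G = n → Central G →
    ∀ P : Sylow 2 G, IsMulCommutative (P : Subgroup G) := by
  intro n
  induction n using Nat.strong_induction_on with
  | _ n ih =>
  intro G _ _ hcard h P
  classical
  by_cases hP : (P : Subgroup G) = ⊥
  · exact ⟨⟨fun a b => Subtype.ext (by
      rw [coe_mul, coe_mul, (mem_bot).1 (hP ▸ a.2 : (a : G) ∈ (⊥ : Subgroup G)), one_mul, mul_one])⟩⟩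
  set A := invSub h P.2 with hA
  have hAc : IsMulCommutative A :=
    ⟨⟨fun a b => Subtype.ext (commute_invol h P.2 a.2.1 b.2.1 a.2.2 b.2.2)⟩⟩
  have hAsc : Cfsg.IsStronglyClosed A (P : Subgroup G) := by
    refine ⟨fun a ha => ha.1, fun a ha g hg => ⟨hg, ?_⟩⟩
    rw [show g * a * g⁻¹ * (g * a * g⁻¹) = g * (a * a) * g⁻¹ by group, ha.2, mul_one, mul_inv_cancel]
  obtain ⟨T, hAT, hfus⟩ := Cfsg.Agent.S2791.result P A hAc hAsc
  refine commutative_of_conj (Q := T) ?_
  -- every element of `T` is fused into the centre of `T`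
  have hcen : ∀ x ∈ (T : Subgroup G), ∃ g : G, g * x * g⁻¹ ∈ (T : Subgroup G) ∧
      (T : Subgroup G) ≤ centralizer ({g * x * g⁻¹} : Set G) := by
    intro x hx
    obtain ⟨Q, hQ⟩ := h x (exists_pow_of_mem T.2 hx)
    obtain ⟨g, hg⟩ := MulAction.exists_smul_eq G Q T
    have hxQ := mem_sylow_of_le_centralizer Q (exists_pow_of_mem T.2 hx) hQ
    have hTe : ∀ y ∈ (Q : Subgroup G), g * y * g⁻¹ ∈ (T : Subgroup G) := fun y hy => by
      rw [← hg, Sylow.coe_subgroup_smul]
      exact ⟨y, hy, rfl⟩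
    refine ⟨g, hTe x hxQ, fun t ht => ?_⟩
    rw [← hg, Sylow.coe_subgroup_smul] at ht
    obtain ⟨y, hy, rfl⟩ := ht
    rw [mem_centralizer_singleton_iff]
    show g * y * g⁻¹ * (g * x * g⁻¹) = g * x * g⁻¹ * (g * y * g⁻¹)
    rw [show g * y * g⁻¹ * (g * x * g⁻¹) = g * (y * x) * g⁻¹ by group,
      mem_centralizer_singleton_iff.1 (hQ hy)]
    group
  -- within the normalizer of `A`
  set N := normalizer (A : Set G) with hN
  have hcenN : ∀ x ∈ (T : Subgroup G), ∃ k ∈ N, k * x * k⁻¹ ∈ (T : Subgroup G) ∧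
      (T : Subgroup G) ≤ centralizer ({k * x * k⁻¹} : Set G) := by
    intro x hx
    obtain ⟨g, hg, hgc⟩ := hcen x hx
    obtain ⟨-, hf⟩ := hfus {x} (Set.singleton_subset_iff.2 hx)
    obtain ⟨k, hk, hke⟩ := hf g (by
      rw [Set.image_singleton, Set.singleton_subset_iff]; exact hg)
    rw [hke x rfl] at hg hgc
    exact ⟨k, hk, hg, hgc⟩
  have hTA : (T : Subgroup G) ≤ centralizer (A : Set G) := by
    intro x hx
    obtain ⟨k, hk, -, hkc⟩ := hcenN x hx
    refine mem_centralizer_iff.2 fun a ha => ?_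
    have ha' : k * a * k⁻¹ ∈ A := (mem_normalizer_iff.1 hk a).1 ha
    have e := mem_centralizer_singleton_iff.1 (hkc (hAT ha'))
    exact mul_left_cancel (mul_right_cancel (b := k⁻¹)
      (show k * (a * x) * k⁻¹ = k * (x * a) * k⁻¹ by
        calc k * (a * x) * k⁻¹ = k * a * k⁻¹ * (k * x * k⁻¹) := by group
          _ = k * x * k⁻¹ * (k * a * k⁻¹) := e
          _ = _ := by group))
  have hTN : (T : Subgroup G) ≤ N := hTA.trans (centralizer_le_normalizer _)
  by_cases hNtop : N = ⊤
  · haveI : A.Normal := normalizer_eq_top_iff.1 hNtop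
    by_cases hCtop : centralizer (A : Set G) = ⊤
    · -- `A` is central
      have hA1 : A ≠ ⊥ := by
        intro e
        obtain ⟨k, hk⟩ := IsPGroup.iff_card.1 P.2
        have hk0 : k ≠ 0 := fun hk0 => hP (Subgroup.card_eq_one.1 (by rw [hk, hk0, pow_zero]))
        obtain ⟨a, ha, hao⟩ := CfsgLib.Invol.exists_invol_mem (H := (P : Subgroup G))
          (by rw [hk]; exact (Nat.even_pow' hk0).2 even_two)
        have haA : a ∈ A := ⟨ha, CfsgLib.Invol.invol_mul_self hao⟩
        rw [e, mem_bot] at haA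
        exact CfsgLib.Invol.invol_ne_one hao haA
      have hlt : Nat.card (G ⧸ A) < n := by
        rw [← hcard, ← A.index_mul_card]
        exact lt_mul_of_one_lt_right (Nat.pos_of_ne_zero A.index_ne_zero_of_finite) ((A.one_lt_card_iff_ne_bot).2 hA1)
      set q := QuotientGroup.mk' A with hq
      have hqs := QuotientGroup.mk'_surjective A
      have hbar : Central (G ⧸ A) := by
        intro y hy
        obtain ⟨k, hk⟩ := hy
        obtain ⟨R, hR⟩ := (IsPGroup.of_card (p := 2) (n := k)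
          (show Nat.card (zpowers y) = 2 ^ k by rw [Nat.card_zpowers, hk])).exists_le_sylow
        obtain ⟨R', rfl⟩ := Sylow.mapSurjective_surjective hqs 2 R
        obtain ⟨x, hx, rfl⟩ := Subgroup.mem_map.1 (hR (mem_zpowers y))
        obtain ⟨Q, hQ⟩ := h x (exists_pow_of_mem R'.2 hx)
        refine ⟨Q.mapSurjective hqs, ?_⟩
        rintro _ ⟨z, hz, rfl⟩
        rw [mem_centralizer_singleton_iff, ← map_mul, ← map_mul, mem_centralizer_singleton_iff.1 (hQ hz)]
      have hTb := ih _ hlt (G ⧸ A) rfl hbar (T.mapSurjective hqs)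
      have hTbc : ∀ y ∈ (T.mapSurjective hqs : Subgroup (G ⧸ A)),
          ((T.mapSurjective hqs : Sylow 2 (G ⧸ A)) : Subgroup (G ⧸ A)) ≤ centralizer ({y} : Set (G ⧸ A)) :=
        fun y hy z hz => mem_centralizer_singleton_iff.2
          (congrArg Subtype.val (hTb.is_comm.comm ⟨z, hz⟩ ⟨y, hy⟩))
      have hZ : ∀ a ∈ A, ∀ y : G, a * y = y * a := fun a ha y =>
        mem_centralizer_iff.1 (hCtop ▸ mem_top y : y ∈ centralizer (A : Set G)) a ha
      have hcentral : ∀ x ∈ (T : Subgroup G), (T : Subgroup G) ≤ centralizer ({x} : Set G) := by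
        intro x hx
        obtain ⟨g, hgT, hgc⟩ := hcen x hx
        obtain ⟨nb, hnb, hne⟩ := exists_normalizer_conj_eq_of_central (T.mapSurjective hqs)
          (hTbc (q x) ⟨x, hx, rfl⟩) (q g) (hTbc _ ⟨g * x * g⁻¹, hgT, by rw [map_mul, map_mul, map_inv]⟩)
        obtain ⟨k, rfl⟩ := hqs nb
        have hkN : ∀ t ∈ (T : Subgroup G), k * t * k⁻¹ ∈ (T : Subgroup G) := by
          intro t ht
          have h1 := (mem_normalizer_iff.1 hnb (q t)).1 ⟨t, ht, rfl⟩
          rw [← map_inv, ← map_mul, ← map_mul] at h1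
          obtain ⟨t', ht', e⟩ := h1
          have hd : t'⁻¹ * (k * t * k⁻¹) ∈ A := QuotientGroup.eq.1 e
          simpa using mul_mem (show t' ∈ (T : Subgroup G) from ht') (hAT hd)
        rw [← map_inv, ← map_mul, ← map_mul, ← map_inv, ← map_mul, ← map_mul] at hne
        have hd : (g * x * g⁻¹)⁻¹ * (k * x * k⁻¹) ∈ A := QuotientGroup.eq.1 hne.symm
        intro t ht
        rw [mem_centralizer_singleton_iff]
        have e1 := mem_centralizer_singleton_iff.1 (hgc (hkN t ht))
        set a := (g * x * g⁻¹)⁻¹ * (k * x * k⁻¹) with ha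
        have e2 : k * t * k⁻¹ * (k * x * k⁻¹) = k * x * k⁻¹ * (k * t * k⁻¹) := by
          rw [show k * x * k⁻¹ = g * x * g⁻¹ * a by rw [ha]; group]
          calc k * t * k⁻¹ * (g * x * g⁻¹ * a) = k * t * k⁻¹ * (g * x * g⁻¹) * a := (mul_assoc _ _ _).symm
            _ = g * x * g⁻¹ * (k * t * k⁻¹) * a := by rw [e1]
            _ = g * x * g⁻¹ * a * (k * t * k⁻¹) := by rw [mul_assoc, ← hZ a hd, ← mul_assoc]
        exact mul_left_cancel (mul_right_cancel (b := k⁻¹)
          (show k * (t * x) * k⁻¹ = k * (x * t) * k⁻¹ by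
            calc k * (t * x) * k⁻¹ = k * t * k⁻¹ * (k * x * k⁻¹) := by group
              _ = _ := e2
              _ = _ := by group))
      exact ⟨⟨fun a b => Subtype.ext (mem_centralizer_singleton_iff.1 (hcentral b b.2 a.2))⟩⟩
    · -- the centralizer of `A` is proper and normal
      set C := centralizer (A : Set G) with hC
      have hlt : Nat.card C < n := by
        rw [← hcard]
        exact (Subgroup.card_le_card_group C).lt_of_ne fun e => hCtop ((Subgroup.card_eq_iff_eq_top C).1 e)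
      haveI : C.Normal := Subgroup.normal_centralizer
      have hall : ∀ Q : Sylow 2 G, (Q : Subgroup G) ≤ C := fun Q => by
        obtain ⟨g, rfl⟩ := MulAction.exists_smul_eq G T Q
        rw [Sylow.coe_subgroup_smul]
        rintro _ ⟨t, ht, rfl⟩
        exact (inferInstance : C.Normal).conj_mem _ (hTA ht) g
      have hbar : Central C := by
        intro y hy
        obtain ⟨Q, hQ⟩ := h y (by simpa using hy)
        refine ⟨Q.subtype (hall Q), fun z hz => mem_centralizer_singleton_iff.2 (Subtype.ext ?_)⟩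
        exact mem_centralizer_singleton_iff.1 (hQ hz)
      have hc := ih _ hlt C rfl hbar (T.subtype hTA)
      exact ⟨⟨fun a b => Subtype.ext (congrArg (fun z : ((T.subtype hTA : Sylow 2 C) : Subgroup C) => ((z : C) : G))
        (hc.is_comm.comm ⟨⟨a, hTA a.2⟩, a.2⟩ ⟨⟨b, hTA b.2⟩, b.2⟩))⟩⟩
  · -- the normalizer of `A` is proper
    have hlt : Nat.card N < n := by
      rw [← hcard]
      exact (Subgroup.card_le_card_group N).lt_of_ne fun e => hNtop ((Subgroup.card_eq_iff_eq_top N).1 e)
    have hbar : Central N := by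
      intro y hy
      obtain ⟨k, hk⟩ := hy
      obtain ⟨R, hR⟩ := (IsPGroup.of_card (p := 2) (n := k)
        (show Nat.card (zpowers y) = 2 ^ k by rw [Nat.card_zpowers, hk])).exists_le_sylow
      obtain ⟨a, ha⟩ := MulAction.exists_smul_eq N R (T.subtype hTN)
      have hay : a * y * a⁻¹ ∈ ((T.subtype hTN : Sylow 2 N) : Subgroup N) := by
        rw [← ha, Sylow.coe_subgroup_smul]
        exact ⟨y, hR (mem_zpowers y), rfl⟩
      obtain ⟨j, hj, -, hjc⟩ := hcenN _ hay
      refine ⟨((⟨j, hj⟩ : N) * a)⁻¹ • T.subtype hTN, ?_⟩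
      rw [Sylow.coe_subgroup_smul]
      rintro _ ⟨z, hz, rfl⟩
      have e : z * ((⟨j, hj⟩ : N) * a * y * ((⟨j, hj⟩ : N) * a)⁻¹) =
          (⟨j, hj⟩ : N) * a * y * ((⟨j, hj⟩ : N) * a)⁻¹ * z := by
        refine Subtype.ext ?_
        have := mem_centralizer_singleton_iff.1 (hjc (hz : (z : G) ∈ (T : Subgroup G)))
        simpa [mul_assoc] using this
      rw [mem_centralizer_singleton_iff]
      set w := (⟨j, hj⟩ : N) * a with hw
      show w⁻¹ * z * w⁻¹⁻¹ * y = y * (w⁻¹ * z * w⁻¹⁻¹)
      calc w⁻¹ * z * w⁻¹⁻¹ * y = w⁻¹ * (z * (w * y * w⁻¹)) * w := by group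
        _ = w⁻¹ * (w * y * w⁻¹ * z) * w := by rw [e]
        _ = _ := by group
    have hc := ih _ hlt N rfl hbar (T.subtype hTN)
    exact ⟨⟨fun a b => Subtype.ext (congrArg (fun z : ((T.subtype hTN : Sylow 2 N) : Subgroup N) => ((z : N) : G))
      (hc.is_comm.comm ⟨⟨a, hTN a.2⟩, a.2⟩ ⟨⟨b, hTN b.2⟩, b.2⟩))⟩⟩

/-- **Every two-element centralizes a Sylow two-subgroup only if these are abelian.** -/
theorem isMulCommutative_sylow (h : Central G) (P : Sylow 2 G) : IsMulCommutative (P : Subgroup G) :=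
  main _ G rfl h P

end CfsgLib.Fusion.TwoCentral
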