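import Cfsg.Agent.Lib.Invol.ZStar
import Cfsg.Agent.Lib.Fusion.System.Functor
import Cfsg.Agent.Lib.Fusion.System.Group
import Cfsg.Agent.Lib.Fusion.PComplement
import Cfsg.Agent.Lib.Fusion.ThompsonComplement
import Cfsg.Agent.Lib.Coprime.Core
import Cfsg.Prelude.Def_CaseTheorems

/-!
# The centre of the 2-fusion system of a group
-/

set_option autoImplicit false
set_option linter.style.haveILetI false

open Subgroup

namespace CfsgLib.Fusion

universe u

/-- A subgroup of a Sylow `2`-subgroup whose elements are weakly closed there is central modulo the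
odd core. -/
theorem zcentral_of_closed_subgroup :
    ∀ (G : Type u) [Group G] [Finite G] (S : Sylow 2 G) (Z : Subgroup G), Z ≤ (S : Subgroup G) →
      (∀ z ∈ Z, ∀ g : G, g * z * g⁻¹ ∈ (S : Subgroup G) → g * z * g⁻¹ = z) →
      ∀ z ∈ Z, ∀ g : G, g * z * g⁻¹ * z⁻¹ ∈ Cfsg.pPrimeCore 2 G := by
  intro G
  induction hn : Nat.card G using Nat.strong_induction_on generalizing G with
  | _ n ih =>
  intro _ _ S Z hZS hcl z hz g
  haveI := Fact.mk Nat.prime_two
  set O := Cfsg.pPrimeCore 2 G with hO
  by_cases hOb : O = ⊥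
  swap
  · -- pass to the quotient by the odd core
    set f := QuotientGroup.mk' O with hf
    have hfs : Function.Surjective f := QuotientGroup.mk'_surjective O
    have hlt : Nat.card (G ⧸ O) < n := by
      rw [← hn, Subgroup.card_eq_card_quotient_mul_card_subgroup O]
      exact lt_mul_of_one_lt_right Nat.card_pos ((Subgroup.one_lt_card_iff_ne_bot O).2 hOb)
    have hS' : ((S.mapSurjective hfs : Sylow 2 (G ⧸ O)) : Subgroup (G ⧸ O)) =
        (S : Subgroup G).map f := Sylow.coe_mapSurjective hfs S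
    have h := ih _ hlt (G ⧸ O) rfl (S.mapSurjective hfs) (Z.map f)
      (by rw [hS']; exact Subgroup.map_mono hZS) ?_ (f z) (Subgroup.mem_map_of_mem f hz) (f g)
    · rw [CfsgLib.Coprime.pPrimeCore_quotient_eq_bot Nat.prime_two, Subgroup.mem_bot, ← map_inv,
        ← map_mul, ← map_mul, ← map_inv, ← map_mul] at h
      exact (QuotientGroup.eq_one_iff _).1 h
    · rintro _ ⟨w, hw, rfl⟩ y hy
      obtain ⟨x, rfl⟩ := hfs y
      rw [hS', ← map_inv, ← map_mul, ← map_mul] at hy
      obtain ⟨s, hs, hse⟩ := hy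
      -- conjugate into `S` inside `S O`
      set M := ((S : Subgroup G).map f).comap f with hM
      have hSM : (S : Subgroup G) ≤ M := Subgroup.le_comap_map f _
      have hyM : x * w * x⁻¹ ∈ M := ⟨s, hs, hse⟩
      have hwp : IsPGroup 2 (conjBy x (Subgroup.zpowers w)) :=
        isPGroup_conjBy x (S.2.to_le (Subgroup.zpowers_le.2 (hZS hw)))
      have hle : conjBy x (Subgroup.zpowers w) ≤ M := by
        rw [conjBy, MonoidHom.map_zpowers, Subgroup.zpowers_le]
        exact hyM
      obtain ⟨m, hm, hmle⟩ := exists_conj_le_of_not_dvd_relIndex S.2 hSM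
        (fun hd => S.not_dvd_index (hd.trans (Subgroup.relIndex_dvd_index_of_le hSM))) hwp hle
      rw [conjBy_conjBy] at hmle
      have h1 := hcl w hw (m * x) (hmle (conj_mem_conjBy (Subgroup.mem_zpowers w)))
      obtain ⟨s', hs', hse'⟩ := hm
      rw [← map_inv, ← map_mul, ← map_mul]
      have h2 : f (x * w * x⁻¹) = (f s')⁻¹ * f w * f s' := by
        rw [show x * w * x⁻¹ = m⁻¹ * (m * x * w * (m * x)⁻¹) * m by group, h1, map_mul, map_mul,
          map_inv, ← hse']
      rw [h2, ← map_inv, ← map_mul, ← map_mul,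
        show s'⁻¹ * w * s' = w from ?_]
      have h3 := hcl w hw s'⁻¹ (mul_mem (mul_mem (inv_mem hs') (hZS hw))
        (by rw [inv_inv]; exact hs'))
      rwa [inv_inv] at h3
  · -- trivial odd core
    rw [hOb, Subgroup.mem_bot, mul_inv_eq_one]
    by_cases hZ : Z = ⊥
    · rw [Subgroup.mem_bot.1 (hZ.le hz)]; simp
    have h2Z : 2 ∣ Nat.card Z := by
      obtain ⟨k, hk⟩ := (S.2.to_le hZS).exists_card_eq
      rw [hk]
      refine dvd_pow_self 2 fun h0 => hZ (Subgroup.card_eq_one.1 ?_)
      rw [hk, h0, pow_zero]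
    obtain ⟨⟨t, htZ⟩, ht⟩ := exists_prime_orderOf_dvd_card' 2 h2Z
    rw [Subgroup.orderOf_mk] at ht
    have htc : ∀ x : G, x * t = t * x := fun x => by
      have h := CfsgLib.Invol.zstar_of_weakly_closed S ht (hcl t htZ) x
      rw [← hO, hOb, Subgroup.mem_bot, mul_inv_eq_one, mul_inv_eq_iff_eq_mul] at h
      exact h.symm
    set T := Subgroup.zpowers t with hT
    have hTc : ∀ w ∈ T, ∀ x : G, x * w = w * x := by
      rintro _ ⟨i, rfl⟩ x
      exact (Commute.zpow_right (show Commute x t from htc x) i).eq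
    haveI hTn : T.Normal := ⟨fun w hw x => by rw [hTc w hw, mul_inv_cancel_right]; exact hw⟩
    have hTS : T ≤ (S : Subgroup G) := Subgroup.zpowers_le.2 (hZS htZ)
    set f := QuotientGroup.mk' T with hf
    have hfs : Function.Surjective f := QuotientGroup.mk'_surjective T
    have hT2 : Nat.card T = 2 := by rw [hT, Nat.card_zpowers, ht]
    have hlt : Nat.card (G ⧸ T) < n := by
      rw [← hn, Subgroup.card_eq_card_quotient_mul_card_subgroup T, hT2]
      have := Nat.card_pos (α := G ⧸ T)
      omega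
    have hS' : ((S.mapSurjective hfs : Sylow 2 (G ⧸ T)) : Subgroup (G ⧸ T)) =
        (S : Subgroup G).map f := Sylow.coe_mapSurjective hfs S
    have hmemS : ∀ x : G, f x ∈ (S : Subgroup G).map f → x ∈ (S : Subgroup G) := by
      rintro x ⟨s, hs, hse⟩
      have h : s⁻¹ * x ∈ T := (QuotientGroup.eq (s := T)).1 hse
      have h2 := mul_mem hs (hTS h)
      rwa [mul_inv_cancel_left] at h2
    have h := ih _ hlt (G ⧸ T) rfl (S.mapSurjective hfs) (Z.map f)
      (by rw [hS']; exact Subgroup.map_mono hZS) ?_ (f z) (Subgroup.mem_map_of_mem f hz) (f g)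
    swap
    · rintro _ ⟨w, hw, rfl⟩ y hy
      obtain ⟨x, rfl⟩ := hfs y
      rw [hS', ← map_inv, ← map_mul, ← map_mul] at hy
      rw [← map_inv, ← map_mul, ← map_mul, hcl w hw x (hmemS _ hy)]
    -- the odd core of the quotient is trivial
    have hO' : Cfsg.pPrimeCore 2 (G ⧸ T) = ⊥ := by
      set N := (Cfsg.pPrimeCore 2 (G ⧸ T)).comap f with hN
      have hTN : T ≤ N := fun w hw => by
        rw [hN, Subgroup.mem_comap, show f w = 1 from (QuotientGroup.eq_one_iff w).2 hw]
        exact one_mem _
      have hidx : ¬ 2 ∣ T.relIndex N := by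
        rw [show T = f.ker from (QuotientGroup.ker_mk' T).symm, Subgroup.relIndex_ker, hN,
          Subgroup.map_comap_eq_self_of_surjective hfs]
        exact Nat.prime_two.coprime_iff_not_dvd.1
          (CfsgLib.Coprime.pPrimeCore_coprime Nat.prime_two).symm
      let P : Sylow 2 N :=
        ((IsPGroup.of_card (n := 1) (by rw [hT2, pow_one])).of_equiv
          (Subgroup.subgroupOfEquivOfLe hTN).symm).toSylow hidx
      have hc : Cfsg.HasNormalPComplement 2 N :=
        hasNormalPComplement_of_normalizer_le_centralizer P fun d _ =>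
          Subgroup.mem_centralizer_iff.2 fun a ha => Subtype.ext (hTc a ha d).symm
      haveI hN' : N.Normal := Subgroup.Normal.comap inferInstance f
      have hR : (Cfsg.pResidual 2 N).map N.subtype ≤ O := by
        haveI : (Cfsg.pResidual 2 N).Characteristic := by
          refine Subgroup.characteristic_iff_map_le.2 fun e => ?_
          rw [Cfsg.pResidual, MonoidHom.map_closure]
          refine Subgroup.closure_mono ?_
          rintro _ ⟨x, hx, rfl⟩
          show Nat.Coprime (orderOf (e x)) 2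
          rwa [MulEquiv.orderOf_eq]
        refine CfsgLib.Coprime.le_pPrimeCore_of_not_dvd Nat.prime_two ?_
        rw [Subgroup.card_map_of_injective N.subtype_injective]
        exact hasNormalPComplement_iff_not_dvd.1 hc
      rw [hOb, le_bot_iff, Subgroup.map_eq_bot_iff_of_injective _ N.subtype_injective] at hR
      refine eq_bot_iff.2 fun y hy => Subgroup.mem_bot.2 ?_
      obtain ⟨x, rfl⟩ := hfs y
      obtain ⟨k, hk⟩ := exists_pow_p_mem_pResidual (p := 2) (⟨x, hy⟩ : N)
      rw [hR, Subgroup.mem_bot] at hk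
      have hx : x ^ 2 ^ k = 1 := congrArg Subtype.val hk
      refine orderOf_eq_one_iff.1 (Nat.eq_one_of_dvd_coprimes
        (Nat.Coprime.pow_left k (CfsgLib.Coprime.pPrimeCore_coprime
          (G := G ⧸ T) Nat.prime_two).symm)
        (orderOf_dvd_of_pow_eq_one (by rw [← map_pow, hx, map_one]))
        (Subgroup.orderOf_dvd_natCard _ hy))
    rw [hO', Subgroup.mem_bot, mul_inv_eq_one, ← map_inv, ← map_mul, ← map_mul] at h
    exact hcl z hz g (hmemS _ (h ▸ Subgroup.mem_map_of_mem f (hZS hz)))

/-- The centre of the 2-fusion system of a group. -/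
theorem center_groupFusionSystem_two {G : Type u} [Group G] [Finite G] (S : Sylow 2 G) :
    (Cfsg.groupFusionSystem (S : Subgroup G)).center =
      (S : Subgroup G) ⊓ (Subgroup.center (G ⧸ Cfsg.oddCore G)).comap
        (QuotientGroup.mk' (Cfsg.oddCore G)) := by
  haveI := Fact.mk Nat.prime_two
  apply le_antisymm
  · intro z hz
    have hcS : (Cfsg.groupFusionSystem (S : Subgroup G)).center ≤ (S : Subgroup G) :=
      isCentral_center.1
    have hcl : ∀ w ∈ (Cfsg.groupFusionSystem (S : Subgroup G)).center, ∀ g : G,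
        g * w * g⁻¹ ∈ (S : Subgroup G) → g * w * g⁻¹ = w := by
      intro w hw g hg
      obtain ⟨k, hk, hke, hkQ⟩ := (isCentral_iff.1 (isCentral_center
        (F := Cfsg.groupFusionSystem (S : Subgroup G)))).2 (Subgroup.zpowers w) _
        (isMap_group_conj (Subgroup.zpowers_le.2 (hcS hw))
          (by rw [conjBy, MonoidHom.map_zpowers, Subgroup.zpowers_le]; exact hg))
      exact (hke w (Subgroup.mem_zpowers w)).symm.trans (hkQ w hw)
    refine ⟨hcS hz, Subgroup.mem_center_iff.2 fun y => ?_⟩
    obtain ⟨x, rfl⟩ := QuotientGroup.mk'_surjective _ y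
    have h := zcentral_of_closed_subgroup G S _ hcS hcl z hz x
    rw [← map_mul, ← map_mul, ← mul_inv_eq_one, ← map_inv, ← map_mul]
    refine (QuotientGroup.eq_one_iff _).2 ?_
    rwa [show x * z * (z * x)⁻¹ = x * z * x⁻¹ * z⁻¹ by group]
  · refine le_sSup (isCentral_of_fixed S.2 (isSaturated_group S) inf_le_left fun R f hf x hx hxQ => ?_)
    obtain ⟨-, g, hg⟩ := isMap_group_iff.1 hf
    obtain ⟨hgS, hfx⟩ := hg x hx
    rw [hfx, ← mul_inv_eq_one]
    refine eq_one_of_pGroup_of_coprime S.2 (mul_mem hgS (inv_mem hxQ.1)) ?_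
    refine (CfsgLib.Coprime.pPrimeCore_coprime (G := G) Nat.prime_two).coprime_dvd_left
      (Subgroup.orderOf_dvd_natCard _ ?_)
    rw [← QuotientGroup.eq_one_iff, ← QuotientGroup.mk'_apply, map_mul, map_mul, map_mul, map_inv,
      map_inv]
    set q := QuotientGroup.mk' (Cfsg.pPrimeCore 2 G) with hq
    have hc : q g * q x = q x * q g := Subgroup.mem_center_iff.1 hxQ.2 (q g)
    rw [hc, mul_inv_cancel_right, mul_inv_cancel]

end CfsgLib.Fusion
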